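import Cfsg.Agent.ClassicalMax.UnWreath.Main
import Cfsg.Agent.Asch.Transport

/-!
The stabiliser of a tensor power of a unitary form is maximal in the special unitary group.
-/

set_option autoImplicit false
set_option linter.unusedSectionVars false
set_option linter.style.haveILetI false

namespace Cfsg.Agent.ClassicalMax.UnWreath

open Matrix Module Cfsg.Geo Cfsg.Agent.Classical Cfsg.Agent.ClassicalMax Cfsg.Agent.ClassicalMax.UnTensor
  Cfsg.Agent.ClassicalMax.TPow
open Cfsg.Agent.ClassicalMax.SpWreath (GV pv)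
open scoped MatrixGroups

variable {F : Type*} [Field F] [Fintype F] {n q k t : ℕ}

/-- the tensor power structure in coordinates -/
theorem exists_form {σ : F →+* F} (hσ : Herm.IsInvol σ) (hσq : ∀ x, σ x = x ^ q) (hk : 0 < k)
    {f₁ : (Fin k → F) → (Fin k → F) → F} (hf₁ : IsUnitaryFormPow q f₁) (e : Fin n ≃ (Fin t → Fin k)) (P : GL (Fin n) F)
    (hT : IsTensorPowerFormStructure (fun x : F => x ^ q) (Cfsg.hermForm n F q) f₁ e P) :
    ∃ (J : Matrix (Fin k) (Fin k) F) (c : F), HMat σ J ∧ c ≠ 0 ∧ σ c = c ∧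
      ∀ x y, hermB n σ (Asch.frL e P x) (Asch.frL e P y) = c * hf σ (GV J) x y := by
  obtain ⟨c, hc0, hc⟩ := hT
  set J := (gramMatrix f₁)ᵀ
  have hJ : HMat σ J := hmat_gram hσ hσq hf₁
  have hform : ∀ x y, hermB n σ (Asch.frL e P x) (Asch.frL e P y) = c * hf σ (GV J) x y := fun x y => by
    rw [← hermForm_eq hσq]
    refine (hc y x).trans ?_
    congr 1
    rw [Finset.sum_comm]
    simp only [hf_apply, bf, dotProduct, mulVec, GV, tens_apply, J, transpose_apply, Finset.mul_sum, Function.comp_apply,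
      hσq]
    exact Finset.sum_congr rfl fun b _ => Finset.sum_congr rfl fun a _ => by ring
  refine ⟨J, c, hJ, hc0, ?_, hform⟩
  have hG := (hmat_GV (β := Fin t) hJ).isHerm
  haveI : Nonempty (Fin k) := ⟨⟨0, hk⟩⟩
  obtain ⟨x, hx⟩ := exists_ne (0 : (Fin t → Fin k) → F)
  obtain ⟨y, hy⟩ : ∃ y, hf σ (GV J) x y ≠ 0 := by
    by_contra! h
    exact hx (hG.nondeg x h)
  have h1 := (hermB_isHerm (n := n) hσ).symm (Asch.frL e P x) (Asch.frL e P y)
  rw [hform, hform, map_mul, hG.symm] at h1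
  exact mul_right_cancel₀ (fun h => hy ((Herm.eq_zero_comm hG).1 h)) h1

/-- maximality -/
theorem isMaximal_wreath (hF : Fintype.card F = q ^ 2) (hn : 4 ≤ n) (hk : 3 ≤ k) (ht : 2 ≤ t)
    (hex : ¬ (q = 2 ∧ k = 3)) (e : Fin n ≃ (Fin t → Fin k)) (P : GL (Fin n) F)
    (f₁ : (Fin k → F) → (Fin k → F) → F) (hf₁ : IsUnitaryFormPow q f₁)
    (hT : IsTensorPowerFormStructure (fun x : F => x ^ q) (Cfsg.hermForm n F q) f₁ e P) :
    IsMaximalIn (Cfsg.GU n F q ⊓ specialLinear (Fin n) F)
      (tensorWreathSubgroup k t e P ⊓ (Cfsg.GU n F q ⊓ specialLinear (Fin n) F)) := by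
  classical
  obtain ⟨σ, hσq, hσ, hcard, hq⟩ := exists_powHom hF
  obtain ⟨J, c₀, hJ, hc0, hc0σ, hform⟩ := exists_form hσ hσq (by omega) hf₁ e P hT
  set L := Asch.frL e P
  let φ : GLV F k t →* ((Fin n → F) ≃ₗ[F] (Fin n → F)) :=
    ((glEquiv (Fin n) F).toMonoidHom.comp (Asch.fr e P).toMonoidHom).comp
      (glEquiv (Fin t → Fin k) F).symm.toMonoidHom
  have hφ : ∀ g x, φ g (L x) = L (g x) := fun g x => by
    show glEquiv (Fin n) F (Asch.fr e P ((glEquiv (Fin t → Fin k) F).symm g)) (L x) = _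
    rw [glEquiv_apply]
    exact (Asch.fr_mulVec e P _ x).trans (congrArg L (symm_mulVec g x))
  have hφK : ∀ g, (glEquiv (Fin n) F).symm (φ g) ∈ tensorWreathSubgroup k t e P ↔
      (glEquiv (Fin t → Fin k) F).symm g ∈ tensorWreathStandard k t F := fun g => by
    rw [show φ g = glEquiv (Fin n) F (Asch.fr e P ((glEquiv (Fin t → Fin k) F).symm g)) from rfl,
      MulEquiv.symm_apply_apply, ← Asch.map_fr_eq_wreath]
    exact Subgroup.mem_map_iff_mem (f := (Asch.fr e P).toMonoidHom) (Asch.fr e P).injective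
  have hiso : ∀ g, (∀ x y, hermB n σ (φ g x) (φ g y) = hermB n σ x y) ↔
      ∀ x y, hf σ (GV J) (g x) (g y) = hf σ (GV J) x y := fun g => by
    constructor
    · intro h x y
      have := h (L x) (L y)
      rw [hφ, hφ, hform, hform] at this
      exact mul_left_cancel₀ hc0 this
    · intro h x y
      obtain ⟨x, rfl⟩ := L.surjective x
      obtain ⟨y, rfl⟩ := L.surjective y
      rw [hφ, hφ, hform, hform, h]
  have hdet : ∀ g, LinearMap.det (φ g).toLinearMap = LinearMap.det g.toLinearMap := fun g => by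
    rw [show (φ g).toLinearMap = L.toLinearMap ∘ₗ g.toLinearMap ∘ₗ L.symm.toLinearMap from LinearMap.ext fun v => by
      obtain ⟨x, rfl⟩ := L.surjective v
      simp [hφ], LinearMap.det_conj]
  have hsurj : Function.Surjective φ := fun x => by
    obtain ⟨g, hg⟩ := (Asch.fr e P).surjective ((glEquiv (Fin n) F).symm x)
    refine ⟨glEquiv (Fin t → Fin k) F g, ?_⟩
    show glEquiv (Fin n) F (Asch.fr e P ((glEquiv (Fin t → Fin k) F).symm (glEquiv (Fin t → Fin k) F g))) = x
    rw [MulEquiv.symm_apply_apply, hg, MulEquiv.apply_symm_apply]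
  have htv : ∀ (w : (Fin t → Fin k) → F) (hw : hf σ (GV J) w w = 0) (hv : hermB n σ (L w) (L w) = 0) (c : F),
      Herm.tvU hv c = φ (Herm.tvU hw (c * c₀)) := fun w hw hv c => LinearEquiv.ext fun v => by
    obtain ⟨x, rfl⟩ := L.surjective v
    rw [hφ, Herm.tvU_apply, Herm.tvU_apply, map_add, map_smul, hform, mul_assoc]
  have hdimU : finrank F (Fin k → F) = k := by rw [Module.finrank_fintype_fun_eq_card, Fintype.card_fin]
  refine isMaximalIn_suGL_det hσ hσq hn _ ?_ fun M hM hMs hg v hv => ?_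
  · obtain ⟨u, f, hu, hff, huf, -⟩ := exists_pair hJ.isHerm (E := Fin k → F) (by omega)
    set w : (Fin t → Fin k) → F := pv fun _ => u
    have hw : hf σ (GV J) w w = 0 := by
      rw [hf_pv]; exact Finset.prod_eq_zero (Finset.mem_univ (⟨0, by omega⟩ : Fin t)) hu
    have hv : hermB n σ (L w) (L w) = 0 := by rw [hform, hw, mul_zero]
    obtain ⟨d, hd0, hd⟩ := Herm.exists_skew hσ
    refine ⟨L w, hv, d, by rw [hd, add_neg_cancel], fun hmem => ?_⟩
    rw [htv w hw hv d, hφK] at hmem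
    exact not_mem_standard hJ ht hu hff huf (mul_ne_zero hd0 hc0) (fun x => by
      rw [symm_mulVec, Herm.tvU_apply]) hmem
  · have hbig : (∃ c : F, σ c = c ∧ c ≠ 0 ∧ c ≠ 1) ∨ 4 ≤ k := by
      refine or_iff_not_imp_right.2 fun h4 => ?_
      have hq2 : q ≠ 2 := fun h => hex ⟨h, by omega⟩
      by_contra! hno
      letI := Fintype.ofFinite (Herm.fixField σ)
      have hsub : (Finset.univ : Finset (Herm.fixField σ)) ⊆ {0, 1} := fun c _ => by
        rcases eq_or_ne c 0 with hc | hc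
        · simp [hc]
        · have := hno (c : F) c.2 (fun h => hc (Subtype.ext h))
          simp [show c = 1 from Subtype.ext this]
      have := (Finset.card_le_card hsub).trans Finset.card_le_two
      rw [Finset.card_univ, ← Nat.card_eq_fintype_card, hcard] at this
      omega
    obtain ⟨x, hxM, hxK⟩ := hg
    obtain ⟨g, rfl⟩ := hsurj x
    obtain ⟨w, rfl⟩ := L.surjective v
    have hw : hf σ (GV J) w w = 0 := (mul_eq_zero.1 ((hform w w).symm.trans hv)).resolve_left hc0
    have hcen := centres_of_outside hJ hk ht hbig (fun g hg => (hiso g).1 (hMs _ hg).1)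
      (fun g hgi hgd hgw => hM _ ((hiso g).2 hgi) (by rw [hdet, hgd]) ((hφK g).2 hgw))
      (H := M.comap φ) hxM (fun h => hxK ((hφK g).2 h)) w hw
    refine ⟨hv, fun hv' c hc => ?_⟩
    rw [htv w hw hv' c]
    exact hcen.2 hw _ (by rw [map_mul, hc0σ]; linear_combination c₀ * hc)

end Cfsg.Agent.ClassicalMax.UnWreath
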