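import Cfsg.Agent.ClassicalMax.UnWreath.RadSpace
import Cfsg.Agent.ClassicalMax.UnTensor.Chain

/-!
When every skew operator of the second factor is realised at the isotropic points of the first, every isotropic
vector of the space is a centre.
-/

set_option autoImplicit false
set_option linter.unusedSectionVars false
set_option linter.style.haveILetI false

namespace Cfsg.Agent.ClassicalMax.UnWreath

open Module Cfsg.Agent.Classical Cfsg.Agent.ClassicalMax Cfsg.Agent.ClassicalMax.UnTensor

variable {F U W V : Type*} [Field F] [Finite F] [AddCommGroup U] [Module F U] [AddCommGroup W] [Module F W]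
  [AddCommGroup V] [Module F V] [FiniteDimensional F U] [FiniteDimensional F W] [FiniteDimensional F V]
  {σ : F →+* F} {B : V →ₛₗ[σ] V →ₗ[F] F} {A : U →ₛₗ[σ] U →ₗ[F] F} {C : W →ₛₗ[σ] W →ₗ[F] F}
  {pt : U →ₗ[F] W →ₗ[F] V} {hF : Frame B A C pt} {H : Subgroup (V ≃ₗ[F] V)}

namespace Slot

variable (hS : Slot hF H) (hR : ∀ S : Module.End F W, (∀ a b, C (S a) b + C a (S b) = 0) → S ∈ RS hF H)
include hS hR

/-- pure vectors with an isotropic first factor are centres -/
theorem centre_pure {u : U} (hu : A u u = 0) (y : W) : pt u y ∈ Unitary.centres B H := by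
  refine ⟨by rw [hF.prod, hu, zero_mul], fun hv c hc => ?_⟩
  rcases eq_or_ne u 0 with rfl | hu0
  · convert one_mem H
    exact LinearEquiv.ext fun x => by simp [Herm.tvU_apply]
  rw [hF.tvU_pt hu hv]
  refine hR _ (fun a b => ?_) u hu0 hu
  simp only [LinearMap.smul_apply, LinearMap.smulRight_apply, map_smulₛₗ, smul_eq_mul, RingHom.id_apply]
  rw [hF.hC.symm y a]
  linear_combination (C y b * C a y) * hc

/-- the isotropic vectors of a hyperbolic plane times the second factor are centres -/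
theorem centre_plane {u f : U} (hu0 : u ≠ 0) (hu : A u u = 0) (hf : A f f = 0) (huf : A u f = 1) (hfu : A f u = 1)
    (y y' : W) (h : B (pt u y + pt f y') (pt u y + pt f y') = 0) : pt u y + pt f y' ∈ Unitary.centres B H := by
  rcases eq_or_ne y 0 with rfl | hy
  · rw [map_zero, zero_add]; exact hS.centre_pure hR hf y'
  have hC := hF.hC
  obtain ⟨w, hw, hw'⟩ := exists_pairing_one hC hy
  simp only [map_add, LinearMap.add_apply, hF.prod, hu, hf, huf, hfu, zero_mul, one_mul, zero_add, add_zero] at h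
  set α := C y' y with hα
  have hα0 : α + σ α = 0 := by rw [hα, hC.symm y' y]; linear_combination h
  let d : Module.End F W := (C w).smulRight y' - (C y').smulRight w + α • (C w).smulRight w
  have hd : d y = y' := by
    simp only [d, LinearMap.add_apply, LinearMap.sub_apply, LinearMap.smul_apply, LinearMap.smulRight_apply, hw,
      ← hα, one_smul]
    abel
  have hsk : ∀ a b, C (d a) b + C a (d b) = 0 := fun a b => by
    simp only [d, LinearMap.add_apply, LinearMap.sub_apply, LinearMap.smul_apply, LinearMap.smulRight_apply, map_add,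
      map_sub, map_smulₛₗ, smul_eq_mul, RingHom.id_apply, hC.symm w a, hC.symm y' a]
    linear_combination (C a w * C w b) * hα0
  have hf0 : f ≠ 0 := fun e => one_ne_zero (α := F) (by rw [← hfu, e, map_zero, LinearMap.zero_apply])
  have hg := hR d hsk f hf0 hf
  have := Unitary.map_mem_centres hF.hB (hS.centre_pure hR hu y) hg (hS.iso _ hg)
  rwa [hF.rad_apply hf, hF.ev_pt, hfu, one_smul, hd] at this

/-- every isotropic vector is a centre -/
theorem centres_all (hW : 2 ≤ finrank F W) (v : V) (hv : B v v = 0) : v ∈ Unitary.centres B H := by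
  classical
  have hA := hF.hA
  have hB := hF.hB
  obtain ⟨a, ha⟩ := Herm.exists_orthonormal hA
  obtain ⟨b, hb⟩ := Herm.exists_orthonormal hF.hC
  have hU := hS.dimU
  let i₀ : Fin (finrank F U) := ⟨0, by omega⟩
  let i₁ : Fin (finrank F U) := ⟨1, by omega⟩
  have h01 : i₀ ≠ i₁ := by simp [i₀, i₁, Fin.ext_iff]
  obtain ⟨θ, hθ0, hθ⟩ := Herm.exists_neg_one_norm hA
  obtain ⟨ζ, hζ1, hζ⟩ := Herm.exists_norm_one_ne_one hA
  have hz : (1 - ζ) ≠ 0 := sub_ne_zero.2 (Ne.symm hζ1)
  set u := a i₀ + θ • a i₁ with hudef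
  set f := (1 - ζ)⁻¹ • (a i₀ + (θ * ζ) • a i₁) with hfdef
  have hu : A u u = 0 := by
    simp [hudef, ha _ _, h01, h01.symm]
    linear_combination hθ
  have huf : A u f = 1 := by
    simp [hudef, hfdef, ha _ _, h01, h01.symm]
    field_simp
    linear_combination ζ * hθ
  have hfu : A f u = 1 := by rw [← hA.symm, huf, map_one]
  have hff : A f f = 0 := by
    simp [hfdef, ha _ _, h01, h01.symm]
    linear_combination ((1 - σ ζ)⁻¹ * (1 - ζ)⁻¹ * (ζ * σ ζ)) * hθ - ((1 - σ ζ)⁻¹ * (1 - ζ)⁻¹) * hζ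
  have hu0 : u ≠ 0 := fun e => one_ne_zero (α := F) (by rw [← huf, e, map_zero, LinearMap.zero_apply])
  let L : W × W →ₗ[F] V := (pt u).coprod (pt f)
  have hLu : ∀ y y', hF.ev u (L (y, y')) = y' ∧ hF.ev f (L (y, y')) = y := fun y y' => by
    simp [L, hF.ev_pt, hu, huf, hfu, hff]
  set H₀ := LinearMap.range L with hH₀
  have hgood : Good B H H₀ := by
    refine ⟨?_, ?_, ?_⟩
    · rintro _ ⟨⟨y, y'⟩, rfl⟩ hperp
      have h1 : y' = 0 := hF.eq_of_C fun z => by
        rw [← (hLu y y').1, hF.C_ev, map_zero, ← hB.symm, hperp _ ⟨(z, 0), by simp [L]⟩, map_zero]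
      have h2 : y = 0 := hF.eq_of_C fun z => by
        rw [← (hLu y y').2, hF.C_ev, map_zero, ← hB.symm, hperp _ ⟨(0, z), by simp [L]⟩, map_zero]
      rw [h1, h2]; exact map_zero L
    · rw [hH₀, LinearMap.finrank_range_of_inj, Module.finrank_prod]
      · omega
      · rintro ⟨y, y'⟩ ⟨z, z'⟩ e
        exact Prod.ext (by rw [← (hLu y y').2, e, (hLu z z').2]) (by rw [← (hLu y y').1, e, (hLu z z').1])
    · rintro _ ⟨⟨y, y'⟩, rfl⟩ hxx
      simp only [L, LinearMap.coprod_apply] at hxx ⊢
      exact hS.centre_plane hR hu0 hu hff huf hfu y y' hxx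
  have hperp₀ : ∀ i, i ≠ i₀ → i ≠ i₁ → ∀ j, ∀ h ∈ H₀, B h (pt (a i) (b j)) = 0 := by
    rintro i hi hi' j _ ⟨⟨y, y'⟩, rfl⟩
    simp [L, hF.prod, hudef, hfdef, ha _ _, Ne.symm hi, Ne.symm hi']
  have hmem₀ : ∀ i, i = i₀ ∨ i = i₁ → ∀ y, pt (a i) y ∈ H₀ := by
    intro i hi y
    have hspan : a i ∈ Submodule.span F {u, f} := by
      have e1 : a i₁ = (θ * (1 - ζ))⁻¹ • (u - (1 - ζ) • f) := by
        rw [eq_inv_smul_iff₀ (mul_ne_zero hθ0 hz), hfdef, smul_inv_smul₀ hz, hudef]
        module
      have m1 : a i₁ ∈ Submodule.span F {u, f} := by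
        rw [e1]
        exact Submodule.smul_mem _ _ (Submodule.sub_mem _ (Submodule.subset_span (by simp))
          (Submodule.smul_mem _ _ (Submodule.subset_span (by simp))))
      rcases hi with rfl | rfl
      · rw [show a i₀ = u - θ • a i₁ by rw [hudef]; abel]
        exact Submodule.sub_mem _ (Submodule.subset_span (by simp)) (Submodule.smul_mem _ _ m1)
      · exact m1
    obtain ⟨r, r', e⟩ := Submodule.mem_span_pair.1 hspan
    exact ⟨(r • y, r' • y), by simp [L, ← e]⟩
  have key : ∀ S : Finset (Fin (finrank F U) × Fin (finrank F W)), ∃ K, Good B H K ∧ H₀ ≤ K ∧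
      (∀ p ∈ S, pt (a p.1) (b p.2) ∈ K) ∧
      ∀ i j, i ≠ i₀ → i ≠ i₁ → (i, j) ∉ S → ∀ h ∈ K, B h (pt (a i) (b j)) = 0 := by
    intro S
    induction S using Finset.induction with
    | empty => exact ⟨H₀, hgood, le_rfl, by simp, fun i j hi hi' _ => hperp₀ i hi hi' j⟩
    | insert p S hpS ih =>
      obtain ⟨K, hK, h0, hmS, hperp⟩ := ih
      by_cases hp : p.1 = i₀ ∨ p.1 = i₁
      · refine ⟨K, hK, h0, fun q hq => ?_, fun i j hi hi' hn => hperp i j hi hi' fun hm => hn (Finset.mem_insert_of_mem hm)⟩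
        rcases Finset.mem_insert.1 hq with rfl | hq
        · exact h0 (hmem₀ _ hp _)
        · exact hmS q hq
      push Not at hp
      set e := pt (a p.1) (b p.2) with he
      have hee : B e e = 1 := by rw [he, hF.prod, ha, hb, if_pos rfl, if_pos rfl, mul_one]
      have hv : θ • pt (a i₀) (b p.2) + e ∈ Unitary.centres B H := by
        have := hS.centre_pure hR (u := θ • a i₀ + a p.1) (by
          simp [ha _ _, hp.1, Ne.symm hp.1]
          linear_combination hθ) (b p.2)
        rwa [map_add, LinearMap.add_apply, map_smul, LinearMap.smul_apply] at this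
      refine ⟨K ⊔ F ∙ e, hK.insert hB hS.iso (hperp _ _ hp.1 hp.2 hpS) hee
        (K.smul_mem _ (h0 (hmem₀ _ (Or.inl rfl) _))) hv, h0.trans le_sup_left, fun q hq => ?_,
        fun i j hi hi' hn h hh => ?_⟩
      · rcases Finset.mem_insert.1 hq with rfl | hq
        · exact Submodule.mem_sup_right (Submodule.mem_span_singleton_self e)
        · exact Submodule.mem_sup_left (hmS q hq)
      · obtain ⟨h₁, hh₁, y, hy, rfl⟩ := Submodule.mem_sup.1 hh
        obtain ⟨z, rfl⟩ := Submodule.mem_span_singleton.1 hy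
        rw [map_add, LinearMap.add_apply, hperp i j hi hi' (fun hm => hn (Finset.mem_insert_of_mem hm)) h₁ hh₁,
          map_smulₛₗ, LinearMap.smul_apply, he, hF.prod, ha, hb, zero_add]
        have : ¬ (p.1 = i ∧ p.2 = j) := fun ⟨e1, e2⟩ => hn (Finset.mem_insert.2 (Or.inl (Prod.ext e1.symm e2.symm)))
        by_cases h1 : p.1 = i
        · rw [if_neg fun h2 => this ⟨h1, h2⟩, mul_zero, smul_zero]
        · rw [if_neg h1, zero_mul, smul_zero]
  obtain ⟨K, hK, -, hall, -⟩ := key Finset.univ
  have htop : K = ⊤ := top_le_iff.1 (hF.span_top ▸ Submodule.span_le.2 (by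
    rintro _ ⟨⟨x, y⟩, rfl⟩
    show pt x y ∈ K
    rw [← a.sum_repr x, ← b.sum_repr y]
    simp only [map_sum, map_smul, LinearMap.sum_apply, LinearMap.smul_apply]
    exact Submodule.sum_mem _ fun i _ => Submodule.smul_mem _ _ (Submodule.sum_mem _ fun j _ =>
      Submodule.smul_mem _ _ (hall (j, i) (Finset.mem_univ _)))))
  exact hK.cen v (htop ▸ Submodule.mem_top) hv

end Slot

end Cfsg.Agent.ClassicalMax.UnWreath
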