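import Cfsg.Agent.ClassicalMax.UnWreath.Space
import Cfsg.Agent.ClassicalMax.TPow.Wreath
import Cfsg.Agent.ClassicalMax.SpWreath.Grow
import Cfsg.Agent.ClassicalMax.UnTensor.Bridge
import Cfsg.Agent.NotMax.Basic

/-!
The matrix of a unitary form, permutations of the slots, and a transvection outside the wreath group.
-/

set_option autoImplicit false
set_option linter.unusedSectionVars false

namespace Cfsg.Agent.ClassicalMax.UnWreath

open Matrix Cfsg.Geo Cfsg.Agent.Classical Cfsg.Agent.ClassicalMax Cfsg.Agent.ClassicalMax.TPow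
open Cfsg.Agent.ClassicalMax.SpWreath (GV pv bf_pv)
open scoped MatrixGroups

variable {F : Type*} [Field F] [Fintype F] {σ : F →+* F} {k t : ℕ}

/-- the matrix of a unitary form is Hermitian -/
theorem hmat_gram {q : ℕ} (hσ : Herm.IsInvol σ) (hσq : ∀ x, σ x = x ^ q) {f : (Fin k → F) → (Fin k → F) → F}
    (hf₁ : IsUnitaryFormPow q f) : HMat σ (gramMatrix f)ᵀ where
  invol := hσ
  herm := by
    ext a b
    simp only [transpose_apply, map_apply, gramMatrix, hσq]
    exact hf₁.herm _ _
  det := by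
    rw [isUnit_iff_ne_zero]
    intro h0
    obtain ⟨v, hv, hvz⟩ := exists_mulVec_eq_zero_iff.2 h0
    obtain ⟨y, hy⟩ := (hf₁.nondegenerate v hv).2
    refine hy ?_
    have e : ∀ w, f v w = UnTensor.formMap σ hσq hf₁ 1 w v := fun w => (one_mul _).symm
    rw [e, pi_eq_sum_univ' y, map_sum, LinearMap.sum_apply]
    refine Finset.sum_eq_zero fun b _ => ?_
    rw [map_smulₛₗ, LinearMap.smul_apply, pi_eq_sum_univ' v, map_sum]
    have hb := congrFun hvz b
    simp only [mulVec, dotProduct, transpose_apply, gramMatrix, Pi.zero_apply] at hb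
    rw [show ∑ a, (UnTensor.formMap σ hσq hf₁ 1 (Pi.single b 1)) (v a • Pi.single a 1) =
      ∑ a, f (Pi.single a 1) (Pi.single b 1) * v a from Finset.sum_congr rfl fun a _ => by
        rw [map_smul, UnTensor.formMap_apply, one_mul, smul_eq_mul, mul_comm], hb, smul_zero]

theorem permM_mulVec (π : Equiv.Perm (Fin t)) (x : (Fin t → Fin k) → F) :
    (Asch.permM π : Matrix (Fin t → Fin k) (Fin t → Fin k) F) *ᵥ x = fun z => x (z ∘ π) := by
  funext z
  simp [Asch.permM, mulVec, dotProduct]

/-- permuting the slots is an isometry -/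
theorem permM_iso (J : Matrix (Fin k) (Fin k) F) (π : Equiv.Perm (Fin t)) (x y : (Fin t → Fin k) → F) :
    hf σ (GV J) ((Asch.permM π : Matrix (Fin t → Fin k) (Fin t → Fin k) F) *ᵥ x)
      ((Asch.permM π : Matrix (Fin t → Fin k) (Fin t → Fin k) F) *ᵥ y) = hf σ (GV J) x y := by
  let τ : (Fin t → Fin k) ≃ (Fin t → Fin k) := π.symm.arrowCongr (Equiv.refl (Fin k))
  have hτ : ∀ z, τ z = z ∘ π := fun z => rfl
  have hG : (GV J (β := Fin t)).submatrix τ τ = GV J := by
    ext a b
    simp only [submatrix_apply, GV, tens_apply, hτ, Function.comp_apply]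
    exact Equiv.prod_comp π fun j => J (a j) (b j)
  rw [permM_mulVec, permM_mulVec, hf_apply, hf_apply, bf, bf]
  have e : GV J *ᵥ (fun z => y (z ∘ π)) = (GV J *ᵥ y) ∘ τ := by
    conv_lhs => rw [← hG, show (fun z => y (z ∘ π)) = y ∘ τ from rfl, submatrix_mulVec_equiv]
    rw [Function.comp_assoc, Equiv.self_comp_symm, Function.comp_id]
  rw [e]
  exact comp_equiv_dotProduct_comp_equiv (σ ∘ x) (GV J *ᵥ y) τ

/-- the three-cycles of the slots have determinant one -/
theorem permM_cycle_det {a b c : Fin t} (hab : a ≠ b) (hbc : b ≠ c) :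
    (Asch.permM (Equiv.swap a b * Equiv.swap b c) : Matrix (Fin t → Fin k) (Fin t → Fin k) F).det = 1 := by
  let χ : Equiv.Perm (Fin t) →* F :=
    { toFun := fun π => (Asch.permM π : Matrix (Fin t → Fin k) (Fin t → Fin k) F).det
      map_one' := by rw [Asch.permM_one, det_one]
      map_mul' := fun π ρ => by rw [← det_mul, Asch.permM_mul] }
  show χ (Equiv.swap a b * Equiv.swap b c) = 1
  rw [map_mul, show χ (Equiv.swap b c) = χ (Equiv.swap a b) from
    isConj_iff_eq.1 (χ.map_isConj (Equiv.Perm.isConj_swap hbc hab)), ← map_mul, Equiv.swap_mul_self, map_one]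

variable {J : Matrix (Fin k) (Fin k) F}

theorem hf_pv (a b : Fin t → Fin k → F) : hf σ (GV J) (pv a) (pv b) = ∏ j, hf σ J (a j) (b j) := by
  rw [hf_apply, show (σ : F → F) ∘ pv a = pv fun j => σ ∘ a j from funext fun y => map_prod σ _ _, bf_pv]
  exact Finset.prod_congr rfl fun j _ => rfl

/-- a transvection with a pure isotropic centre is outside the wreath group -/
theorem not_mem_standard (hJ : HMat σ J) (ht : 2 ≤ t) {u v : Fin k → F} (hu : hf σ J u u = 0) (hv : hf σ J v v = 0)
    (huv : hf σ J u v = 1) {s : F} (hs : s ≠ 0) {g : GL (Fin t → Fin k) F}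
    (hg : ∀ x, (g : Matrix (Fin t → Fin k) (Fin t → Fin k) F) *ᵥ x =
      x + (s * hf σ (GV J) (pv fun _ => u) x) • pv fun _ => u) :
    g ∉ tensorWreathStandard k t F := by
  intro hmem
  let S : Set ((Fin t → Fin k) → F) := {w | ∃ a : Fin t → Fin k → F, w = pv a}
  have hgen : tensorWreathStandard k t F ≤ Cfsg.stabilizing (Cfsg.glToMat (Fin t → Fin k) F) S := by
    refine (Subgroup.closure_le _).2 fun x hx => NotMax.mem_stabilizing S x ?_
    rintro _ ⟨a, rfl⟩
    rcases hx with ⟨gs, hgs⟩ | ⟨π, hπ⟩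
    · refine ⟨fun j => (gs j : Matrix (Fin k) (Fin k) F) *ᵥ a j, funext fun z => ?_⟩
      simp only [mulVec, dotProduct, pv, hgs, ← Finset.prod_mul_distrib]
      exact (Fintype.prod_sum fun j l => (gs j : Matrix (Fin k) (Fin k) F) (z j) l * a j l).symm
    · refine ⟨fun j => a (π.symm j), funext fun z => ?_⟩
      simp only [mulVec, dotProduct, pv, hπ, ite_mul, one_mul, zero_mul, Finset.sum_ite_eq', Finset.mem_univ, if_true,
        Function.comp_apply]
      exact Fintype.prod_equiv π _ _ fun j => by rw [Equiv.symm_apply_apply]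
  obtain ⟨a, ha⟩ := ((hgen hmem) (pv fun _ : Fin t => v)).1 ⟨_, rfl⟩
  change (g : Matrix (Fin t → Fin k) (Fin t → Fin k) F) *ᵥ pv (fun _ : Fin t => v) = pv a at ha
  rw [hg, hf_pv, Finset.prod_eq_one fun _ _ => huv, mul_one] at ha
  have key : ∀ z : Fin t → Fin k → F, ∏ j, hf σ J (z j) (a j) =
      (∏ j, hf σ J (z j) v) + s * ∏ j, hf σ J (z j) u := fun z => by
    rw [← hf_pv, ← ha, map_add, map_smul, hf_pv, hf_pv, smul_eq_mul]
  have hvu : hf σ J v u = 1 := by rw [← hJ.isHerm.symm, huv, map_one]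
  set j₀ : Fin t := ⟨0, by omega⟩
  set j₁ : Fin t := ⟨1, by omega⟩
  have hu' : ∀ j, hf σ J u (a j) ≠ 0 := fun j => by
    have h := key fun _ => u
    rw [Finset.prod_eq_one fun _ _ => huv, Finset.prod_eq_zero (f := fun _ : Fin t => hf σ J u u) (Finset.mem_univ j₀) hu,
      mul_zero, add_zero] at h
    exact Finset.prod_ne_zero_iff.1 (h.trans_ne one_ne_zero) j (Finset.mem_univ j)
  have hv' : ∀ j, hf σ J v (a j) ≠ 0 := fun j => by
    have h := key fun _ => v
    rw [Finset.prod_eq_zero (f := fun _ : Fin t => hf σ J v v) (Finset.mem_univ j₀) hv, zero_add,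
      Finset.prod_eq_one fun _ _ => hvu, mul_one] at h
    exact Finset.prod_ne_zero_iff.1 (h.trans_ne hs) j (Finset.mem_univ j)
  have hne : j₁ ≠ j₀ := by simp [j₀, j₁]
  have h3 := key (Function.update (fun _ => u) j₀ v)
  rw [Finset.prod_eq_zero (f := fun j => hf σ J (Function.update (fun _ => u) j₀ v j) v) (Finset.mem_univ j₀)
      (show hf σ J (Function.update (fun _ => u) j₀ v j₀) v = 0 by rw [Function.update_self, hv]),
    Finset.prod_eq_zero (f := fun j => hf σ J (Function.update (fun _ => u) j₀ v j) u) (Finset.mem_univ j₁) (by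
      rw [Function.update_of_ne hne, hu]), mul_zero, add_zero] at h3
  refine Finset.prod_ne_zero_iff.2 (fun j _ => ?_) h3
  rcases eq_or_ne j j₀ with rfl | hj
  · rw [Function.update_self]; exact hv' _
  · rw [Function.update_of_ne hj]; exact hu' _

end Cfsg.Agent.ClassicalMax.UnWreath
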