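import Cfsg.Agent.ClassicalMax.UnWreath.Link

/-!
A subspace lying in a plane times `W` for every isotropic point to which it is linked is pure.
-/

set_option autoImplicit false
set_option linter.unusedSectionVars false
set_option linter.style.haveILetI false

namespace Cfsg.Agent.ClassicalMax.UnWreath

open Module Cfsg.Agent.Classical Cfsg.Agent.ClassicalMax Cfsg.Agent.ClassicalMax.UnTensor

variable {F U W U' W' V : Type*} [Field F] [Finite F] [AddCommGroup U] [Module F U] [AddCommGroup W] [Module F W]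
  [AddCommGroup U'] [Module F U'] [AddCommGroup W'] [Module F W']
  [AddCommGroup V] [Module F V] [FiniteDimensional F U] [FiniteDimensional F W] [FiniteDimensional F V]
  [FiniteDimensional F U'] [FiniteDimensional F W']
  {σ : F →+* F} {B : V →ₛₗ[σ] V →ₗ[F] F} {A : U →ₛₗ[σ] U →ₗ[F] F} {C : W →ₛₗ[σ] W →ₗ[F] F}
  {A' : U' →ₛₗ[σ] U' →ₗ[F] F} {C' : W' →ₛₗ[σ] W' →ₗ[F] F}
  {pt : U →ₗ[F] W →ₗ[F] V} {pt' : U' →ₗ[F] W' →ₗ[F] V}

theorem pure_of_plane (hF : Frame B A C pt) (hF' : Frame B A' C' pt') (h3 : 3 ≤ finrank F U)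
    (hW : 0 < finrank F W) (hdim : finrank F W' = finrank F W)
    (hbig : (∃ k : F, σ k = k ∧ k ≠ 0 ∧ k ≠ 1) ∨ 4 ≤ finrank F U) {v : U'} (hv0 : v ≠ 0)
    (hcase : ∀ z, z ≠ 0 → A z z = 0 → link hF hF' z v = 0 ∨ Plane A pt z pt' v)
    {u : U} (hu0 : u ≠ 0) (hu : A u u = 0) (hK : link hF hF' u v ≠ 0) (hP : Plane A pt u pt' v) :
    ∃ w, w ≠ 0 ∧ ∀ t, pt' v t ∈ LinearMap.range (pt w) := by
  classical
  have hA := hF.hA
  obtain ⟨e₀, he₀, hdec⟩ := hP
  obtain ⟨e, he⟩ : ∃ e, e = (A u e₀)⁻¹ • e₀ := ⟨_, rfl⟩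
  have hue : A u e = 1 := by rw [he, map_smul, smul_eq_mul, inv_mul_cancel₀ he₀]
  have heu : A e u = 1 := by rw [← hA.symm, hue, map_one]
  obtain ⟨γf, hγf⟩ := Herm.exists_trace hA.toIsInvol (a := -A e e) (by rw [map_neg σ, Herm.fix_self hA])
  set f := e + γf • u with hfdef
  have huf : A u f = 1 := by rw [hfdef, map_add, map_smul, hue, hu, smul_zero, add_zero]
  have hfu : A f u = 1 := by rw [← hA.symm, huf, map_one]
  have hff : A f f = 0 := by
    simp only [hfdef, map_add, map_smulₛₗ, LinearMap.add_apply, LinearMap.smul_apply, smul_eq_mul, RingHom.id_apply,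
      hu, hue, heu, mul_zero, mul_one, add_zero]
    linear_combination hγf
  set a := cross hF f pt' v
  set b := cross hF u pt' v
  have hdec' : ∀ t, pt' v t = pt u (a t) + pt f (b t) := fun t => by
    obtain ⟨a', b', ht⟩ := hdec t
    have e₀eq : e₀ = A u e₀ • f - (A u e₀ * γf) • u := by
      rw [hfdef, smul_add, smul_smul, add_sub_cancel_right, he, smul_inv_smul₀ he₀]
    obtain ⟨a'', b'', ht'⟩ : ∃ a'' b'', pt' v t = pt u a'' + pt f b'' := ⟨a' - (A u e₀ * γf) • b', A u e₀ • b', by
      rw [ht]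
      conv_lhs => rw [e₀eq]
      simp only [map_sub, map_smul, LinearMap.sub_apply, LinearMap.smul_apply]
      module⟩
    have e1 : b t = b'' := by
      show hF.ev u (pt' v t) = b''
      rw [ht', map_add, hF.ev_pt, hF.ev_pt, hu, huf, zero_smul, zero_add, one_smul]
    have e2 : a t = a'' := by
      show hF.ev f (pt' v t) = a''
      rw [ht', map_add, hF.ev_pt, hF.ev_pt, hfu, hff, zero_smul, add_zero, one_smul]
    rw [e1, e2]; exact ht'
  haveI : Nontrivial W' := Module.nontrivial_of_finrank_pos (R := F) (by omega)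
  obtain ⟨t₀, ht₀⟩ := exists_ne (0 : W')
  have hne : pt' v t₀ ≠ 0 := fun h => ht₀ (hF'.pt_injective hv0 (h.trans (map_zero _).symm))
  by_contra hall
  have hX : ∀ γ : F, ∀ m, m ≠ 0 → A u m = 0 → A f m = 0 → γ + σ γ + A m m = 0 → ∀ y,
      a (cross hF' v pt f y) + γ • a (cross hF' v pt u y) + σ γ • b (cross hF' v pt f y) +
        (γ * σ γ) • b (cross hF' v pt u y) = 0 := by
    intro γ m hm0 hum hfm hN y
    have hmu : A m u = 0 := (Herm.eq_zero_comm hA).1 hum
    have hmf : A m f = 0 := (Herm.eq_zero_comm hA).1 hfm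
    set z := γ • u + f + m with hz
    have hzu : A z u = 1 := by simp [hz, hu, hfu, hmu]
    have hzf : A z f = σ γ := by simp [hz, huf, hff, hmf]
    have hz0 : z ≠ 0 := fun h => one_ne_zero (α := F) (by rw [← hzu, h, map_zero, LinearMap.zero_apply])
    have hzz : A z z = 0 := by
      simp only [hz, map_add, map_smulₛₗ, LinearMap.add_apply, LinearMap.smul_apply, smul_eq_mul, RingHom.id_apply, hu,
        huf, hfu, hff, hum, hfm, hmu, hmf, mul_zero, mul_one, add_zero, zero_add]
      linear_combination hN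
    have hno : ¬ Plane A pt z pt' v := by
      rintro ⟨e', -, hdec₂⟩
      set m' := e' - A f e' • u - A u e' • f with hm'
      obtain ⟨l, hl⟩ : ∃ l : F, m' = l • m := by
        by_contra! hindep
        -- independent remainders force the subspace to vanish
        have hdual : ∀ x y : U, x ∉ F ∙ y → A u x = 0 → A f x = 0 → A u y = 0 → A f y = 0 →
            ∃ n, A n x = 1 ∧ A n y = 0 ∧ A n u = 0 ∧ A n f = 0 := by
          intro x y hxy hux hfx huy hfy
          obtain ⟨n₀, hn₀, hxn⟩ := Unitary.exists_perp hA hxy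
          have hyn : A y n₀ = 0 := hn₀ y (Submodule.mem_span_singleton_self y)
          refine ⟨n₀ - A f n₀ • u - A u n₀ • f, ?_, ?_, ?_, ?_⟩ <;>
            simp only [map_sub, map_smulₛₗ, LinearMap.sub_apply, LinearMap.smul_apply, smul_eq_mul, hA.symm, hu, hff,
              huf, hfu, hux, hfx, huy, hfy, mul_zero, mul_one, sub_zero, sub_self, RingHom.id_apply]
          · rw [← hA.symm, hxn, map_one]
          · exact (Herm.eq_zero_comm hA).1 hyn
        have hum' : A u m' = 0 := by simp [hm', hu, huf]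
        have hfm' : A f m' = 0 := by simp [hm', hfu, hff]
        have hm'm : m' ∉ F ∙ m := fun h => by
          obtain ⟨c, hc⟩ := Submodule.mem_span_singleton.1 h
          exact hindep c hc.symm
        have hmm' : m ∉ F ∙ m' := fun h => by
          obtain ⟨c, hc⟩ := Submodule.mem_span_singleton.1 h
          have hc0 : c ≠ 0 := fun h0 => hm0 (by rw [← hc, h0, zero_smul])
          exact hindep c⁻¹ (by rw [← hc, inv_smul_smul₀ hc0])
        obtain ⟨n, n1, n2, n3, n4⟩ := hdual m m' hmm' hum hfm hum' hfm'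
        obtain ⟨n', p1, p2, p3, p4⟩ := hdual m' m hm'm hum' hfm' hum hfm
        obtain ⟨a', b', ht⟩ := hdec₂ t₀
        have he' : e' = A f e' • u + A u e' • f + m' := by rw [hm']; abel
        have hnz : A n z = 1 := by simp [hz, n1, n3, n4]
        have hne' : A n e' = 0 := by rw [he']; simp [n2, n3, n4]
        have hn'z : A n' z = 0 := by simp [hz, p2, p3, p4]
        have hn'e' : A n' e' = 1 := by rw [he']; simp [p1, p3, p4]
        have k1 := congrArg (hF.ev n) ht
        have k2 := congrArg (hF.ev n') ht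
        rw [map_add, hF.ev_pt, hF.ev_pt, hnz, hne', hdec', map_add, hF.ev_pt, hF.ev_pt, n3, n4, zero_smul, zero_smul,
          zero_smul, one_smul, add_zero, add_zero] at k1
        rw [map_add, hF.ev_pt, hF.ev_pt, hn'z, hn'e', hdec', map_add, hF.ev_pt, hF.ev_pt, p3, p4, zero_smul, zero_smul,
          zero_smul, one_smul, add_zero, zero_add] at k2
        exact hne (by rw [ht, ← k1, ← k2, map_zero, map_zero, add_zero])
      obtain ⟨n₀, -, hmn⟩ := Unitary.exists_perp hA (S := (⊥ : Submodule F U)) (x := m) (by simpa using hm0)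
      set n := n₀ - A f n₀ • u - A u n₀ • f with hn
      have hun : A u n = 0 := by simp [hn, hu, huf]
      have hfn : A f n = 0 := by simp [hn, hfu, hff]
      have hnu := (Herm.eq_zero_comm hA).1 hun
      have hnf := (Herm.eq_zero_comm hA).1 hfn
      have hnm : A n m = 1 := by
        rw [← hA.symm, show A m n = 1 by simp [hn, hmu, hmf, hmn], map_one]
      have he' : e' = A f e' • u + A u e' • f + l • m := by rw [← hl, hm']; abel
      set w := (A f e' - γ * l) • u + (A u e' - l) • f with hw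
      have hmem : ∀ t, pt' v t ∈ LinearMap.range (pt w) := fun t => by
        obtain ⟨a', b', ht⟩ := hdec₂ t
        have k := congrArg (hF.ev n) ht
        rw [map_add, hF.ev_pt, hF.ev_pt, hdec', map_add, hF.ev_pt, hF.ev_pt, hnu, hnf, zero_smul, zero_smul,
          add_zero, show A n z = 1 by simp [hz, hnu, hnf, hnm],
          show A n e' = l by rw [he']; simp [hnu, hnf, hnm], one_smul] at k
        refine ⟨b', ?_⟩
        rw [ht, eq_neg_of_add_eq_zero_left k.symm, hz, hw]
        conv_rhs => rw [he']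
        simp only [map_add, map_smul, LinearMap.add_apply, LinearMap.smul_apply, map_neg]
        module
      refine hall ⟨w, fun h0 => ?_, hmem⟩
      obtain ⟨p, hp⟩ := hmem t₀
      rw [h0, map_zero, LinearMap.zero_apply] at hp
      exact hne hp.symm
    have h0 := LinearMap.congr_fun ((hcase z hz0 hzz).resolve_right hno) y
    have hm' : ∀ x, cross hF' v pt m x = 0 := cross_eq_zero_of_adj (hF := hF) (hF' := hF') fun t => by
      rw [cross_apply, hdec', map_add, hF.ev_pt, hF.ev_pt, hmu, hmf, zero_smul, zero_smul, add_zero]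
    have hQ : cross hF' v pt z y = γ • cross hF' v pt u y + cross hF' v pt f y := by
      have e1 := hm' y
      simp only [cross_apply, hz, map_add, map_smul, LinearMap.add_apply, LinearMap.smul_apply] at e1 ⊢
      rw [e1, add_zero]
    have hPz : ∀ t, cross hF z pt' v t = a t + σ γ • b t := fun t => by
      rw [cross_apply, hdec', map_add, hF.ev_pt, hF.ev_pt, hzu, hzf, one_smul]
    rw [link, LinearMap.comp_apply, hPz, hQ, LinearMap.zero_apply, map_add, map_add, map_smul, map_smul] at h0
    linear_combination (norm := module) h0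
  refine hK (LinearMap.ext fun y => ?_)
  show b (cross hF' v pt u y) = 0
  by_cases hk : ∃ k : F, σ k = k ∧ k ≠ 0 ∧ k ≠ 1
  · obtain ⟨k, hk, hk0, hk1⟩ := hk
    obtain ⟨m, hum, hfm, -, -, hmm⟩ := exists_perp_pair_value hA h3 hu hff huf (c := (-1 : F)) (by simp)
    have hm0 : m ≠ 0 := fun h => one_ne_zero (α := F) (by
      rw [h, map_zero] at hmm; exact neg_eq_zero.1 hmm.symm)
    obtain ⟨g, hg⟩ := Herm.exists_trace hA.toIsInvol (a := (1 : F)) (map_one σ)
    obtain ⟨d, hd0, hd⟩ := Herm.exists_skew hA.toIsInvol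
    have X0 := hX g m hm0 hum hfm (by rw [hmm]; linear_combination hg) y
    have X1 := hX (g + d) m hm0 hum hfm (by rw [hmm, map_add, hd]; linear_combination hg) y
    have X2 := hX (g + k * d) m hm0 hum hfm (by rw [hmm, map_add, map_mul, hk, hd]; linear_combination hg) y
    rw [map_add, hd] at X1
    rw [map_add, map_mul, hk, hd] at X2
    have hne' : (k * (k - 1)) * (d * d) ≠ 0 :=
      mul_ne_zero (mul_ne_zero hk0 (sub_ne_zero.2 hk1)) (mul_ne_zero hd0 hd0)
    refine (smul_eq_zero.1 (show ((k * (k - 1)) * (d * d)) • b (cross hF' v pt u y) = 0 from ?_)).resolve_left hne'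
    linear_combination (norm := module) k • X1 - X2 + (1 - k) • X0
  · have h4 := hbig.resolve_left hk
    push Not at hk
    obtain ⟨h2, ω, hσω, hω⟩ := exists_cube_root hA fun k h => or_iff_not_imp_left.2 (hk k h)
    obtain ⟨m₁, hum₁, hfm₁, -, -, hmm₁⟩ := exists_perp_pair_value hA h3 hu hff huf (c := (1 : F)) (map_one σ)
    have hm₁ : m₁ ≠ 0 := fun h => one_ne_zero (α := F) (by rw [h, map_zero] at hmm₁; exact hmm₁.symm)
    obtain ⟨m₀, m₀', hmm₀, -, hpair, hum₀, hfm₀, -, -⟩ := exists_perp_pair hA h4 hu hff huf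
    have hm₀ : m₀ ≠ 0 := fun h => one_ne_zero (α := F) (by rw [← hpair, h, map_zero])
    have Y0 := hX 0 m₀ hm₀ hum₀ hfm₀ (by rw [hmm₀, map_zero]; ring) y
    have Y1 := hX 1 m₀ hm₀ hum₀ hfm₀ (by rw [hmm₀, map_one, add_zero]; linear_combination h2) y
    have Y2 := hX ω m₁ hm₁ hum₁ hfm₁ (by rw [hmm₁, hσω]; linear_combination hω) y
    have Y3 := hX (ω * ω) m₁ hm₁ hum₁ hfm₁ (by
      rw [hmm₁, map_mul, hσω]; linear_combination (1 + (ω * ω - ω)) * hω) y
    rw [map_zero] at Y0
    rw [map_one] at Y1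
    rw [hσω] at Y2
    rw [map_mul, hσω] at Y3
    set p₁ := a (cross hF' v pt f y)
    set p₂ := a (cross hF' v pt u y)
    set p₃ := b (cross hF' v pt f y)
    set p₄ := b (cross hF' v pt u y)
    have c1 : (1 : F) + ω + ω * ω = 0 := by linear_combination hω
    have c2 : (1 : F) + ω * ω + ω * ω * (ω * ω) = 0 := by
      linear_combination (ω * ω - ω + 1) * hω
    have c3 : (1 : F) + ω * (ω * ω) + ω * ω * (ω * ω * (ω * ω)) = 1 := by
      linear_combination (ω - 1) * (ω * ω * ω + 2) * hω + h2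
    calc p₄ = ((1 : F) + ω * (ω * ω) + ω * ω * (ω * ω * (ω * ω))) • p₄ +
        ((1 : F) + ω + ω * ω) • p₂ + ((1 : F) + ω * ω + ω * ω * (ω * ω)) • p₃ + ((2 : F) + 2) • p₁ := by
          rw [c1, c2, c3, one_smul, zero_smul, zero_smul, h2, add_zero (0 : F), zero_smul, add_zero, add_zero, add_zero]
      _ = 0 := by linear_combination (norm := module) Y0 + Y1 + Y2 + Y3

end Cfsg.Agent.ClassicalMax.UnWreath
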