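import Cfsg.Agent.ClassicalMax.UnWreath.TwoSplit

/-!
Over the field with four elements the reflections of the second frame link to a transvection group trivially or
through a plane.
-/

set_option autoImplicit false
set_option linter.unusedSectionVars false
set_option linter.style.haveILetI false

namespace Cfsg.Agent.ClassicalMax.UnWreath

open Module Cfsg.Agent.Classical Cfsg.Agent.ClassicalMax Cfsg.Agent.ClassicalMax.UnTensor

variable {F U W U' W' V : Type*} [Field F] [Finite F] [AddCommGroup U] [Module F U] [AddCommGroup W] [Module F W]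
  [AddCommGroup U'] [Module F U'] [AddCommGroup W'] [Module F W']
  [AddCommGroup V] [Module F V] [FiniteDimensional F U] [FiniteDimensional F W] [FiniteDimensional F V]
  [FiniteDimensional F U'] [FiniteDimensional F W']
  {σ : F →+* F} {B : V →ₛₗ[σ] V →ₗ[F] F} {A : U →ₛₗ[σ] U →ₗ[F] F} {C : W →ₛₗ[σ] W →ₗ[F] F}
  {A' : U' →ₛₗ[σ] U' →ₗ[F] F} {C' : W' →ₛₗ[σ] W' →ₗ[F] F}
  {pt : U →ₗ[F] W →ₗ[F] V} {pt' : U' →ₗ[F] W' →ₗ[F] V} {hF : Frame B A C pt} {hF' : Frame B A' C' pt'}
  {H : Subgroup (V ≃ₗ[F] V)}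

namespace Rigid

variable (hR : Rigid hF H) {u : U} (hu0 : u ≠ 0) (hu : A u u = 0) {v : U'} {β : F} {r : V ≃ₗ[F] V} (hr : r ∈ H)
  (h1 : IsOne hF' v β r)
include hR hu0 hu hr h1

theorem comp1_one : comp1 hF u r = β • link hF hF' u v ∧ comp1 hF u r⁻¹ = σ β • link hF hF' u v := by
  constructor <;> refine LinearMap.ext fun y => ?_
  · rw [comp1_apply, h1, map_add, map_smul, hF.ev_pt, hu, zero_smul, zero_add]
    rfl
  · rw [comp1_apply, h1.inv_apply (hR.iso r hr), map_add, map_smul, hF.ev_pt, hu, zero_smul, zero_add]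
    rfl

/-- square-zero links of reflections vanish -/
theorem zero_of_sq_refl (hβ : σ β ≠ β) (h1skew : (1 : F) + σ 1 = 0)
    (hK2 : ∀ y, link hF hF' u v (link hF hF' u v y) = 0) : link hF hF' u v = 0 := by
  have hA := hF.hA
  obtain ⟨f, -, huf, hfu⟩ := exists_iso_partner hA hu0 hu
  have hβ0 : β ≠ 0 := fun e => hβ (by rw [e, map_zero])
  set K := link hF hF' u v
  set φ : W →ₗ[F] W := hF.ev f ∘ₗ pt' v ∘ₗ cross hF' v pt u ∘ₗ K with hφ
  have hy : ∀ (b : F) (g : V ≃ₗ[F] V), b ≠ 0 → g ∈ H → IsOne hF' v b g →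
      (∀ y, pt' v (cross hF' v pt u (K y)) = pt u (φ y)) ∧
      (∀ y, (g * hF.lt u 1 * g⁻¹) (pt u y) = pt u (y + σ b • K y + (b * σ b) • φ y)) ∧
      ∀ z, hF.ev u z = 0 → (g * hF.lt u 1 * g⁻¹) z - z -
        (b * σ b) • pt' v (cross hF' v pt u (cross hF u pt' v (hF'.ev v z))) ∈ LinearMap.range (pt u) := by
    intro b g hb hg hg1
    have hgi := hR.iso g hg
    set h := g * hF.lt u 1 * g⁻¹
    have hh : h ∈ H := mul_mem (mul_mem hg (hR.toSlot.lt_mem hu h1skew)) (inv_mem hg)
    have hgu : ∀ y, g (pt u y) = pt u y + b • pt' v (cross hF' v pt u y) := fun y => hg1 _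
    have hgev : ∀ z, hF.ev u (g⁻¹ z) = hF.ev u z + σ b • cross hF u pt' v (hF'.ev v z) := fun z => by
      rw [hg1.inv_apply hgi, map_add, map_smul]; rfl
    have heq : ∀ z, h z = z + g (pt u (hF.ev u (g⁻¹ z))) := fun z => by
      rw [LinearEquiv.mul_apply, LinearEquiv.mul_apply, hF.lt_apply hu, one_smul, map_add, apply_inv]
    have hh1 : IsOne (frame_map hF hgi) u 1 h := fun z => by rw [heq, one_smul, frame_map_ev hF hgi]; rfl
    obtain ⟨e1, e2⟩ := hR.comp1_one hu0 hu hg hg1
    have hlink : link hF (frame_map hF hgi) u u = 0 := by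
      rw [link_map hgi, e1, e2, smul_mul_smul_comm]
      refine LinearMap.ext fun y => ?_
      show (b * σ b) • K (K y) = 0
      rw [hK2, smul_zero]
    obtain ⟨hmem, -⟩ := hR.comm_of_zero rfl hu0 hu one_ne_zero (fun _ => by rw [hu, mul_zero]) hh hh1 hlink
    have hraw : ∀ y, h (pt u y) = pt u (y + σ b • K y) + (b * σ b) • pt' v (cross hF' v pt u (K y)) := fun y => by
      rw [heq, hgev, hF.ev_pt, hu, zero_smul, zero_add]
      show _ + g (pt u (σ b • K y)) = _
      rw [hgu, map_smul (cross hF' v pt u), map_smul (pt' v), smul_smul, map_add (pt u)]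
      abel
    have hjφ : ∀ y, pt' v (cross hF' v pt u (K y)) = pt u (φ y) := fun y => by
      obtain ⟨p, hp⟩ := hmem y
      have e := hraw y
      rw [← hp] at e
      have hne : b * σ b ≠ 0 := mul_ne_zero hb ((map_ne_zero σ).2 hb)
      have e' : pt' v (cross hF' v pt u (K y)) = pt u ((b * σ b)⁻¹ • (p - (y + σ b • K y))) := by
        rw [map_smul, map_sub, e, add_sub_cancel_left, inv_smul_smul₀ hne]
      show _ = pt u (hF.ev f (pt' v (cross hF' v pt u (K y))))
      rw [e', hF.ev_pt, hfu, one_smul]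
    refine ⟨hjφ, fun y => by rw [hraw, hjφ, map_add (pt u) _ ((b * σ b) • φ y), map_smul (pt u) _ (φ y)],
      fun z hz => ⟨σ b • cross hF u pt' v (hF'.ev v z), ?_⟩⟩
    rw [heq, hgev, hz, zero_add, hgu, map_smul (cross hF' v pt u), map_smul (pt' v), smul_smul]
    abel
  have h1' : IsOne hF' v (σ β) r⁻¹ := fun z => h1.inv_apply (hR.iso r hr) z
  obtain ⟨hjφ, ha₁, hq₁⟩ := hy β r hβ0 hr h1
  obtain ⟨-, ha₂, hq₂⟩ := hy (σ β) r⁻¹ ((map_ne_zero σ).2 hβ0) (inv_mem hr) h1'
  have hU : σ β * σ (σ β) = β * σ β := by rw [hA.invol, mul_comm]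
  obtain ⟨c, hc⟩ := hR.two_stab hu0 hu (mul_mem (mul_mem hr (hR.toSlot.lt_mem hu h1skew)) (inv_mem hr))
    (mul_mem (mul_mem (inv_mem hr) (hR.toSlot.lt_mem hu h1skew)) (inv_mem (inv_mem hr)))
    (a₁ := (LinearMap.id : W →ₗ[F] W) + σ β • K + (β * σ β) • φ)
    (a₂ := (LinearMap.id : W →ₗ[F] W) + β • K + (β * σ β) • φ)
    (fun y => by rw [ha₁]; rfl) (fun y => by rw [ha₂, hU, hA.invol]; rfl) (fun z hz => by
      have h2 := hq₂ z hz
      rw [hU] at h2
      have := sub_mem h2 (hq₁ z hz)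
      rwa [sub_sub_sub_cancel_right, sub_sub_sub_cancel_right] at this)
  have hKφ : ∀ y, K (φ y) = 0 := fun y => by
    have h := congrArg (hF'.ev v) (hjφ y)
    rw [hF'.ev_pt] at h
    show cross hF u pt' v (cross hF' v pt u (φ y)) = 0
    rw [cross_apply (hF := hF') v u, ← h, map_smul]
    show _ • K (K y) = 0
    rw [hK2, smul_zero]
  by_contra hne
  obtain ⟨w, hw⟩ : ∃ w, K w ≠ 0 := by
    by_contra! h
    exact hne (LinearMap.ext h)
  have hc1 : c = 1 := by
    have h2 := congrArg K (hc w)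
    simp only [LinearMap.add_apply, LinearMap.id_apply, LinearMap.smul_apply, map_add, map_smul, hK2, hKφ,
      smul_zero, add_zero] at h2
    exact sub_eq_zero.1 ((smul_eq_zero.1 (show (c - 1) • K w = 0 by
      rw [sub_smul, one_smul, ← h2, sub_self])).resolve_right hw)
  have h3 := hc w
  simp only [hc1, one_smul, LinearMap.add_apply, LinearMap.id_apply, LinearMap.smul_apply, add_left_inj,
    add_right_inj] at h3
  exact hβ (sub_eq_zero.1 ((smul_eq_zero.1 (show (σ β - β) • K w = 0 by rw [sub_smul, h3, sub_self])).resolve_right hw))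

variable (hdim : finrank F W' = finrank F W)
include hdim

/-- a reflection links trivially or through a plane -/
theorem refl_cases (hv0 : v ≠ 0) (hβ : σ β ≠ β) (hr3 : r ^ 3 = 1) (h2 : (2 : F) = 0)
    (hfix : ∀ k : F, σ k = k → k = 0 ∨ k = 1) (hU : 4 ≤ finrank F U) :
    link hF hF' u v = 0 ∨ Plane A pt u pt' v := by
  classical
  have hσ1 : (1 : F) + σ 1 = 0 := by rw [map_one]; linear_combination h2
  have hβ0 : β ≠ 0 := fun e => hβ (by rw [e, map_zero])
  have hσβ : σ β ≠ 0 := (map_ne_zero σ).2 hβ0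
  obtain ⟨e1, e2⟩ := hR.comp1_one hu0 hu hr h1
  set κ : Module.End F W := link hF hF' u v
  have hKe : comp1 hF u r * comp1 hF u r⁻¹ = (β * σ β) • (κ * κ) := by rw [e1, e2, smul_mul_smul_comm]
  by_cases hnil : ∃ n : ℕ, (comp1 hF u r * comp1 hF u r⁻¹) ^ 2 ^ n = 0
  · left
    obtain ⟨n, hn⟩ := hnil
    have h0 := nilp_map_two hR hσ1 hU hu0 hu n r hr hn
    rw [hKe, smul_eq_zero] at h0
    exact hR.zero_of_sq_refl hu0 hu hr h1 hβ hσ1 fun y =>
      LinearMap.congr_fun (h0.resolve_left (mul_ne_zero hβ0 hσβ)) y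
  push Not at hnil
  have hinj := hR.not_singular hu0 hu h2 hfix hU hr hnil
  have hκ : Function.Injective κ := fun a b e => hinj (by
    rw [hKe, LinearMap.smul_apply, LinearMap.smul_apply, Module.End.mul_apply, Module.End.mul_apply, e])
  have hQ : Function.Injective (cross hF' v pt u) := fun a b e => hκ (by
    show cross hF u pt' v (cross hF' v pt u a) = _
    rw [e]; rfl)
  have hP : Function.Injective (cross hF u pt' v) := fun a b e => by
    obtain ⟨a, rfl⟩ := (LinearMap.injective_iff_surjective_of_finrank_eq_finrank hdim.symm).1 hQ a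
    obtain ⟨b, rfl⟩ := (LinearMap.injective_iff_surjective_of_finrank_eq_finrank hdim.symm).1 hQ b
    exact congrArg _ (hκ e)
  set x := hF.lt u 1 with hxdef
  have hx : x ∈ H := hR.toSlot.lt_mem hu hσ1
  set S : Set (V ≃ₗ[F] V) := {x, r}
  have hGH : Subgroup.closure S ≤ H := (Subgroup.closure_le _).2 (by rintro g (rfl | rfl); exacts [hx, hr])
  rcases hR.plane_or_stab hdim hu0 hu hv0 hF' (fun t ht => by
      rw [hP (ht.trans (map_zero _).symm), map_zero]
      exact zero_mem _) hGH (fun g hg z => move_into (fun g hg z => by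
      rcases hg with rfl | rfl
      · rw [hxdef, hF.lt_apply hu, add_sub_cancel_left]
        exact Submodule.smul_mem _ _ (Submodule.mem_sup_left ⟨_, rfl⟩)
      · rw [h1, add_sub_cancel_left]
        exact Submodule.smul_mem _ _ (Submodule.mem_sup_right ⟨_, rfl⟩)) hg z) with ⟨hpl, -⟩ | hstab
  · exact Or.inr hpl
  exfalso
  haveI : CharP F 2 := CharP.ringChar_of_prime_eq_zero Nat.prime_two (by exact_mod_cast h2) ▸ ringChar.charP F
  haveI : Fact (Nat.Prime 2) := ⟨Nat.prime_two⟩
  have hlt0 : hF.lt u 0 = 1 := by rw [Frame.lt, zero_smul, hF.rad_zero hu]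
  obtain ⟨X, O, hO, hX⟩ := hR.exists_compl_lt hu0 hu (p := 2) (G := Subgroup.closure S) (fun c hc => by
    rcases hfix c (by linear_combination hc - c * h2) with rfl | rfl
    · rw [hlt0]; exact one_mem _
    · exact Subgroup.subset_closure (Or.inl rfl)) hstab
  let rG : Subgroup.closure S := ⟨r, Subgroup.subset_closure (Or.inr rfl)⟩
  let xG : Subgroup.closure S := ⟨x, Subgroup.subset_closure (Or.inl rfl)⟩
  have hxx : x * x = 1 := by
    rw [hxdef, Frame.lt, hF.rad_add hu, ← add_smul, show (1 : F) + 1 = 0 by linear_combination h2, zero_smul,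
      hF.rad_zero hu]
  have hxG : xG * xG = 1 := Subtype.ext hxx
  haveI : Finite V := Module.finite_of_finite F
  haveI : Finite (V ≃ₗ[F] V) := Finite.of_injective _ DFunLike.coe_injective
  have hrO : rG ∈ O := hO.mem_of_pow (l := 3) (Subtype.ext (by rw [Subgroup.coe_pow]; exact hr3)) fun b hb hb3 => by
    have h3 := hO.disj _ hb3 (pow_mem hb 3)
    obtain ⟨c, hc, ec⟩ := (hX b).1 hb
    rcases hfix c (by linear_combination hc - c * h2) with rfl | rfl
    · exact Subtype.ext (ec.trans hlt0)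
    · rwa [show b ^ 3 = b * b * b by rw [pow_succ, pow_two], show b * b = 1 from Subtype.ext (by
        rw [Subgroup.coe_mul, ec]; exact hxx), one_mul] at h3
  haveI : Nontrivial W := Module.nontrivial_of_finrank_pos hR.posW
  obtain ⟨y, hy⟩ := exists_ne (0 : W)
  have hxX : xG ∈ X := (hX xG).2 ⟨1, hσ1, rfl⟩
  have hx1 : xG ≠ 1 := fun e => by
    obtain ⟨f, -, huf, -⟩ := exists_iso_partner hF.hA hu0 hu
    have h := LinearEquiv.congr_fun (congrArg Subtype.val e) (pt f y)
    change x (pt f y) = pt f y at h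
    rw [hxdef, hF.lt_apply hu, hF.ev_pt, huf, one_smul, one_smul, add_eq_left] at h
    exact hy (hF.pt_injective hu0 (h.trans (map_zero _).symm))
  obtain ⟨k, -, hk⟩ := hO.conj rG hrO xG hxX hx1
  have hrel : r * x = x * r⁻¹ := by
    have hsq : rG * xG * (rG * xG) = 1 := by
      rw [hk]
      calc k * xG * k⁻¹ * (k * xG * k⁻¹) = k * (xG * xG) * k⁻¹ := by group
        _ = 1 := by rw [hxG]; group
    have hsq' : r * x * (r * x) = 1 := congrArg Subtype.val hsq
    have h := eq_inv_of_mul_eq_one_left hsq'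
    rwa [mul_inv_rev, inv_eq_of_mul_eq_one_right hxx] at h
  have h := congrArg (hF.ev u) (LinearEquiv.congr_fun hrel (pt u y))
  rw [LinearEquiv.mul_apply, LinearEquiv.mul_apply, hxdef, hF.lt_apply hu, hF.lt_apply hu, h1.inv_apply (hR.iso r hr),
    hF.ev_pt, hu, zero_smul, map_zero, smul_zero, add_zero, one_smul, h1] at h
  simp only [map_add, map_smul, hF.ev_pt, hu, zero_smul, smul_zero, zero_add, add_zero] at h
  change β • κ y = σ β • κ y at h
  exact hy (hκ (((smul_eq_zero.1 (show (β - σ β) • κ y = 0 by rw [sub_smul, h, sub_self])).resolve_left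
    (sub_ne_zero.2 hβ.symm)).trans (map_zero _).symm))

end Rigid

end Cfsg.Agent.ClassicalMax.UnWreath
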