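import Cfsg.Agent.ClassicalMax.UnWreath.Link

/-!
The descent through conjugated transvections: over fields with more than two fixed elements a link is zero or
invertible.
-/

set_option autoImplicit false
set_option linter.unusedSectionVars false
set_option linter.style.haveILetI false

namespace Cfsg.Agent.ClassicalMax.UnWreath

open Module Cfsg.Agent.Classical Cfsg.Agent.ClassicalMax Cfsg.Agent.ClassicalMax.UnTensor

variable {F U W U' W' V : Type*} [Field F] [Finite F] [AddCommGroup U] [Module F U] [AddCommGroup W] [Module F W]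
  [AddCommGroup U'] [Module F U'] [AddCommGroup W'] [Module F W']
  [AddCommGroup V] [Module F V] [FiniteDimensional F U] [FiniteDimensional F W] [FiniteDimensional F V]
  [FiniteDimensional F U'] [FiniteDimensional F W']
  {σ : F →+* F} {B : V →ₛₗ[σ] V →ₗ[F] F} {A : U →ₛₗ[σ] U →ₗ[F] F} {C : W →ₛₗ[σ] W →ₗ[F] F}
  {A' : U' →ₛₗ[σ] U' →ₗ[F] F} {C' : W' →ₛₗ[σ] W' →ₗ[F] F}
  {pt : U →ₗ[F] W →ₗ[F] V} {pt' : U' →ₗ[F] W' →ₗ[F] V} {hF : Frame B A C pt} {hF' : Frame B A' C' pt'}
  {H : Subgroup (V ≃ₗ[F] V)}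

namespace Rigid

variable (hR : Rigid hF H) {u : U} (hu0 : u ≠ 0) (hu : A u u = 0)
include hR hu0 hu

/-- nilpotent links of conjugates of one transvection group vanish -/
theorem nilp_map {k₁ : F} (hk : σ k₁ = k₁) (hk0 : k₁ ≠ 0) (hk1 : k₁ ≠ 1) :
    ∀ n : ℕ, ∀ g ∈ H, (comp1 hF u g * comp1 hF u g⁻¹) ^ 2 ^ n = 0 → comp1 hF u g * comp1 hF u g⁻¹ = 0 := by
  intro n
  induction n with
  | zero => intro g _ h; rwa [pow_zero, pow_one] at h
  | succ n ih =>
    intro g hg h
    obtain ⟨d, hd0, hd⟩ := Herm.exists_skew hF.hA.toIsInvol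
    have hd' : d + σ d = 0 := by rw [hd, add_neg_cancel]
    set K := comp1 hF u g * comp1 hF u g⁻¹
    obtain ⟨e1, e2⟩ := comp1_conj (hF := hF) hu (g := g) d
    have hy : g * hF.lt u d * g⁻¹ ∈ H := mul_mem (mul_mem hg (hR.toSlot.lt_mem hu hd')) (inv_mem hg)
    have h0 := ih _ hy (by
      rw [e1, e2, smul_mul_smul_comm, smul_pow, ← pow_two, ← pow_mul,
        show 2 * 2 ^ n = 2 ^ (n + 1) by rw [pow_succ, mul_comm], h, smul_zero])
    rw [e1, e2, smul_mul_smul_comm, smul_eq_zero] at h0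
    have hsq := h0.resolve_left (mul_ne_zero hd0 (neg_ne_zero.2 hd0))
    have hg' := hR.iso g hg
    have := hR.zero_of_sq_zero (hF' := frame_map hF hg') (hR.map hg).toSlot rfl hk hk0 hk1 hu0 hu (v := u) hu fun y => by
      rw [link_map hg']
      exact LinearMap.congr_fun hsq y
    rwa [link_map hg'] at this

variable {v : U'} (hR' : Slot hF' H) (hdim : finrank F W' = finrank F W)
include hR'

/-- compressions to all powers of two of the link -/
theorem chain (hv : A' v v = 0) : ∀ n : ℕ, ∃ g ∈ H, ∃ c c' : F, c ≠ 0 ∧ c' ≠ 0 ∧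
    comp1 hF u g = c • (link hF hF' u v) ^ 2 ^ n ∧ comp1 hF u g⁻¹ = c' • (link hF hF' u v) ^ 2 ^ n := by
  obtain ⟨d, hd0, hd⟩ := Herm.exists_skew hF.hA.toIsInvol
  have hd' : d + σ d = 0 := by rw [hd, add_neg_cancel]
  intro n
  induction n with
  | zero =>
    obtain ⟨e1, e2⟩ := comp1_lt (hF := hF) (hF' := hF') hu hv d
    exact ⟨_, hR'.lt_mem hv hd', d, -d, hd0, neg_ne_zero.2 hd0, by rw [e1, pow_zero, pow_one],
      by rw [e2, pow_zero, pow_one]⟩
  | succ n ih =>
    obtain ⟨g, hg, c, c', hc, hc', e, e'⟩ := ih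
    obtain ⟨e1, e2⟩ := comp1_conj (hF := hF) hu (g := g) d
    refine ⟨_, mul_mem (mul_mem hg (hR.toSlot.lt_mem hu hd')) (inv_mem hg), d * (c * c'), -d * (c * c'),
      mul_ne_zero hd0 (mul_ne_zero hc hc'), mul_ne_zero (neg_ne_zero.2 hd0) (mul_ne_zero hc hc'), ?_, ?_⟩
    · rw [e1, e, e', smul_mul_smul_comm, smul_smul, ← pow_add, ← two_mul, pow_succ']
    · rw [e2, e, e', smul_mul_smul_comm, smul_smul, ← pow_add, ← two_mul, pow_succ']

include hdim in
/-- the link is zero or invertible with the second subspace in a plane -/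
theorem root_cases (hv0 : v ≠ 0) (hv : A' v v = 0) {k₁ : F} (hk : σ k₁ = k₁) (hk0 : k₁ ≠ 0) (hk1 : k₁ ≠ 1) :
    link hF hF' u v = 0 ∨ (Function.Injective (link hF hF' u v) ∧ Plane A pt u pt' v) := by
  classical
  haveI : Nontrivial W := Module.nontrivial_of_finrank_pos hR.posW
  obtain ⟨d, hd0, hd⟩ := Herm.exists_skew hF.hA.toIsInvol
  have hd' : d + σ d = 0 := by rw [hd, add_neg_cancel]
  set K : Module.End F W := link hF hF' u v with hKdef
  by_cases hKi : Function.Injective K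
  · have hQ : Function.Injective (cross hF' v pt u) := fun a b e => hKi (by
      show cross hF u pt' v (cross hF' v pt u a) = _
      rw [e]; rfl)
    have hP : Function.Injective (cross hF u pt' v) := fun a b e => by
      obtain ⟨a, rfl⟩ := (LinearMap.injective_iff_surjective_of_finrank_eq_finrank hdim.symm).1 hQ a
      obtain ⟨b, rfl⟩ := (LinearMap.injective_iff_surjective_of_finrank_eq_finrank hdim.symm).1 hQ b
      exact congrArg _ (hKi e)
    obtain ⟨y, hy⟩ := exists_ne (0 : W)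
    refine Or.inr ⟨hKi, (hR.plane_of_link hdim hu0 hu hR' hv0 hv hk hk0 hk1 (fun t ht => ?_)
      ⟨y, fun h => hy (hKi (hKi (h.trans (by rw [map_zero, map_zero]))))⟩).1⟩
    rw [hP (ht.trans (map_zero _).symm), map_zero]
    exact zero_mem _
  by_cases hnil : ∃ n, K ^ 2 ^ n = 0
  · left
    obtain ⟨n, hn⟩ := hnil
    obtain ⟨e1, e2⟩ := comp1_lt (hF := hF) (hF' := hF') hu hv d
    have hsq := hR.nilp_map hu0 hu hk hk0 hk1 n _ (hR'.lt_mem hv hd') (by
      rw [e1, e2, smul_mul_smul_comm, smul_pow, ← pow_two, ← pow_mul]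
      show _ • K ^ (2 * 2 ^ n) = 0
      rw [mul_comm 2 (2 ^ n), pow_mul, hn, zero_pow two_ne_zero, smul_zero])
    rw [e1, e2, smul_mul_smul_comm, smul_eq_zero] at hsq
    have h2 := hsq.resolve_left (mul_ne_zero hd0 (neg_ne_zero.2 hd0))
    exact hR.zero_of_sq_zero hR' hdim hk hk0 hk1 hu0 hu hv fun y => LinearMap.congr_fun h2 y
  exfalso
  push Not at hnil
  set N := finrank F W
  obtain ⟨g, hg, c, c', hc, hc', e, e'⟩ := hR.chain hu0 hu hR' hv N
  have hN : N ≤ 2 ^ N := Nat.lt_two_pow_self.le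
  set L := 2 ^ N
  set h := g * hF.lt u d * g⁻¹
  have hh : h ∈ H := mul_mem (mul_mem hg (hR.toSlot.lt_mem hu hd')) (inv_mem hg)
  have hhi := hR.iso h hh
  obtain ⟨e1, e2⟩ := comp1_conj (hF := hF) hu (g := g) d
  rw [e, e', smul_mul_smul_comm, smul_smul, ← pow_add] at e1 e2
  have hlink : link hF (frame_map hF hhi) u u = ((d * (c * c')) * (-d * (c * c'))) • K ^ (L + L + (L + L)) := by
    rw [link_map hhi, e1, e2, smul_mul_smul_comm, ← pow_add]
  have hne : ∀ l, K ^ l ≠ 0 := fun l hl => hnil l (by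
    rw [← Nat.add_sub_cancel' (Nat.lt_two_pow_self (n := l)).le, pow_add, hl, zero_mul])
  have hcoef : (d * (c * c')) * (-d * (c * c')) ≠ 0 :=
    mul_ne_zero (mul_ne_zero hd0 (mul_ne_zero hc hc')) (mul_ne_zero (neg_ne_zero.2 hd0) (mul_ne_zero hc hc'))
  obtain ⟨y, hy⟩ : ∃ y, link hF (frame_map hF hhi) u u (link hF (frame_map hF hhi) u u y) ≠ 0 := by
    by_contra! hall
    have : (link hF (frame_map hF hhi) u u : Module.End F W) * link hF (frame_map hF hhi) u u = 0 := LinearMap.ext hall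
    rw [hlink, smul_mul_smul_comm, ← pow_add, smul_eq_zero] at this
    exact hne _ (this.resolve_left (mul_ne_zero hcoef hcoef))
  obtain ⟨-, hinj⟩ := hR.plane_of_link (hF' := frame_map hF hhi) rfl hu0 hu (hR.map hh).toSlot hu0 hu hk hk0 hk1
    (fun t ht => by
      have h1 : (d * (c * c')) • (K ^ (L + L)) t = 0 := by
        rw [← LinearMap.smul_apply, ← e1]; exact ht
      have h2 : (K ^ L) t = 0 := by
        have h3 : t ∈ LinearMap.ker (K ^ (L + L)) :=
          (smul_eq_zero.1 h1).resolve_left (mul_ne_zero hd0 (mul_ne_zero hc hc'))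
        rwa [Module.End.ker_pow_eq_ker_pow_finrank_of_le (by omega : finrank F W ≤ L + L),
          ← Module.End.ker_pow_eq_ker_pow_finrank_of_le (by omega : finrank F W ≤ L), LinearMap.mem_ker] at h3
      refine ⟨t, ?_⟩
      show pt u t = h (pt u t)
      rw [LinearEquiv.mul_apply, LinearEquiv.mul_apply, hF.lt_apply hu, ← comp1_apply, e', LinearMap.smul_apply, h2,
        smul_zero, map_zero, smul_zero, add_zero, apply_inv]) ⟨y, hy⟩
  refine hKi fun a b hab => hinj ?_
  have h4 : L + L + (L + L) = (L + L + (L + L) - 1) + 1 := by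
    have := Nat.two_pow_pos N
    omega
  rw [hlink, LinearMap.smul_apply, LinearMap.smul_apply, h4, pow_succ, Module.End.mul_apply, Module.End.mul_apply, hab]

end Rigid

end Cfsg.Agent.ClassicalMax.UnWreath
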