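import Cfsg.Agent.ClassicalMax.UnWreath.SlotOps
import Cfsg.Agent.ClassicalMax.UnWreath.Roots
import Cfsg.Agent.ClassicalMax.UnWreath.PlanePure
import Cfsg.Agent.ClassicalMax.UnWreath.Refl

/-!
An isometry of a tensor power whose moved slot frames are all rigid permutes the slots.
-/

set_option autoImplicit false
set_option linter.unusedSectionVars false
set_option linter.style.haveILetI false

namespace Cfsg.Agent.ClassicalMax.UnWreath

open Module Cfsg.Agent.Classical Cfsg.Agent.ClassicalMax Cfsg.Agent.ClassicalMax.UnTensor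

/-! ### transporting an operator along a pure image -/

section Frames

variable {F U W U' W' V : Type*} [Field F] [Finite F] [AddCommGroup U] [Module F U] [AddCommGroup W] [Module F W]
  [AddCommGroup U'] [Module F U'] [AddCommGroup W'] [Module F W']
  [AddCommGroup V] [Module F V] [FiniteDimensional F U] [FiniteDimensional F W] [FiniteDimensional F V]
  [FiniteDimensional F U'] [FiniteDimensional F W']
  {σ : F →+* F} {B : V →ₛₗ[σ] V →ₗ[F] F} {A : U →ₛₗ[σ] U →ₗ[F] F} {C : W →ₛₗ[σ] W →ₗ[F] F}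
  {A' : U' →ₛₗ[σ] U' →ₗ[F] F} {C' : W' →ₛₗ[σ] W' →ₗ[F] F}
  {pt : U →ₗ[F] W →ₗ[F] V} {pt' : U' →ₗ[F] W' →ₗ[F] V} {hF : Frame B A C pt} {hF' : Frame B A' C' pt'}

variable (hW : 0 < finrank F W) (hdim : finrank F W' = finrank F W) {v : U'} (hv0 : v ≠ 0) {w : U} (hw0 : w ≠ 0)
  (hmem : ∀ t, pt' v t ∈ LinearMap.range (pt w))
include hW hdim hv0 hw0 hmem

/-- the operator of a subspace with a pure image -/
theorem pure_op : ∃ S : W →ₗ[F] W, Function.Injective S ∧ (∀ x, pt' v (hF'.ev v x) = pt w (S (hF.ev w x))) ∧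
    (A' v v = 0 ↔ A w w = 0) ∧ (A' v v • S = A w w • S * S) := by
  have hle : LinearMap.range (pt' v) ≤ LinearMap.range (pt w) := by rintro _ ⟨t, rfl⟩; exact hmem t
  have heq : LinearMap.range (pt' v) = LinearMap.range (pt w) :=
    Submodule.eq_of_le_of_finrank_eq hle (by rw [hF'.finrank_R hv0, hF.finrank_R hw0, hdim])
  obtain ⟨f, hfw, hwf⟩ := exists_pairing_one hF.hA hw0
  have hzero : ∀ x, hF.ev w x = 0 → hF'.ev v x = 0 := fun x hx => hF'.eq_of_C fun t => by
    obtain ⟨s, hs⟩ := hmem t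
    rw [hF'.C_ev, map_zero, ← hs, ← hF.C_ev, hx, map_zero]
  set P : V →ₗ[F] V := pt' v ∘ₗ hF'.ev v
  set S : W →ₗ[F] W := hF.ev f ∘ₗ P ∘ₗ pt f with hS
  have hPS : ∀ a, P (pt f a) = pt w (S a) := fun a => by
    obtain ⟨p, hp⟩ := hmem (hF'.ev v (pt f a))
    show pt' v _ = pt w (hF.ev f (pt' v (hF'.ev v (pt f a))))
    rw [← hp, hF.ev_pt, hfw, one_smul]
  have hP : ∀ x, P x = pt w (S (hF.ev w x)) := fun x => by
    rw [← hPS, ← sub_eq_zero, ← map_sub]
    show pt' v _ = 0
    rw [hzero _ (by rw [map_sub, hF.ev_pt, hwf, one_smul, sub_self]), map_zero]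
  have hinj : Function.Injective S := (injective_iff_map_eq_zero _).2 fun a ha => by
    have h1 : hF'.ev v (pt f a) = 0 := hF'.pt_injective hv0 (by
      show P (pt f a) = _
      rw [hPS, ha, map_zero, map_zero])
    refine hF.eq_of_C fun s => ?_
    obtain ⟨t, ht⟩ : pt w s ∈ LinearMap.range (pt' v) := heq ▸ ⟨s, rfl⟩
    have h2 := hF'.C_ev v (pt f a) t
    rw [h1, map_zero, ht, hF.prod, hwf, one_mul] at h2
    rw [map_zero, ← h2]
  have hsq : A' v v • S = A w w • S * S := LinearMap.ext fun a => hF.pt_injective hw0 (by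
    rw [LinearMap.smul_apply, map_smul, ← hPS, smul_mul_assoc, LinearMap.smul_apply, Module.End.mul_apply, map_smul,
      ← map_smul (pt w) (A w w), ← map_smul S (A w w), ← hF.ev_pt w w (S a), ← hP, ← hPS]
    show _ • pt' v _ = pt' v (hF'.ev v (pt' v _))
    rw [hF'.ev_pt, map_smul])
  refine ⟨S, hinj, hP, ?_, hsq⟩
  haveI : Nontrivial W := Module.nontrivial_of_finrank_pos hW
  obtain ⟨a, ha⟩ := exists_ne (0 : W)
  have hSa : S a ≠ 0 := fun h => ha (hinj (h.trans (map_zero S).symm))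
  have h1 := LinearMap.congr_fun hsq a
  rw [LinearMap.smul_apply, smul_mul_assoc, LinearMap.smul_apply, Module.End.mul_apply] at h1
  constructor <;> intro h <;> rw [h, zero_smul] at h1
  · exact ((smul_eq_zero.1 h1.symm).resolve_right fun h2 => hSa (hinj (h2.trans (map_zero S).symm)))
  · exact (smul_eq_zero.1 h1).resolve_right hSa

end Frames

/-! ### the tensor power -/

section Tensor

open Matrix Cfsg.Agent.ClassicalMax.TPow
open Cfsg.Agent.ClassicalMax.SpWreath (GV)

variable {F : Type*} [Field F] [Finite F] {σ : F →+* F} {k t : ℕ} {J : Matrix (Fin k) (Fin k) F} (hJ : HMat σ J)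

include hJ

theorem sl_hrk_apply (i : Fin t) (a b : Fin k → F) (x : (Fin t → Fin k) → F) :
    sl i (hrk σ J a b) *ᵥ x = pts i a ((frame hJ i).ev b x) := by
  have h : Matrix.toLin' (sl i (hrk σ J a b)) = pts i a ∘ₗ (frame hJ i).ev b :=
    (frame hJ i).ext_pure fun u y => by
      rw [Matrix.toLin'_apply, LinearMap.comp_apply, ← smat_sl, smat_pts, one_mulVec, hrk_mulVec, (frame hJ i).ev_pt,
        map_smul (pts i), LinearMap.smul_apply, map_smul (pts i a)]
  exact LinearMap.congr_fun h x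

/-- a slot point carried to a slot point -/
def Moves (g : (((Fin t → Fin k) → F)) ≃ₗ[F] ((Fin t → Fin k) → F)) (l : Fin t) (z : Fin k → F) : Prop :=
  ∃ (i : Fin t) (w : Fin k → F) (ν : F), w ≠ 0 ∧ ν ≠ 0 ∧
    ∀ x, g (sl l (hrk σ J z z) *ᵥ x) = ν • sl i (hrk σ J w w) *ᵥ g x

omit hJ in
theorem finrank_rest (i l : Fin t) :
    finrank F ((RS' l → Fin k) → F) = finrank F ((RS' i → Fin k) → F) := by
  have h : ∀ j : Fin t, Fintype.card (RS' j → Fin k) * k = Fintype.card (Fin t → Fin k) := fun j => by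
    rw [Fintype.card_congr (spl j), Fintype.card_prod, Fintype.card_fin, mul_comm]
  rcases Nat.eq_zero_or_pos k with rfl | hk
  · rw [Module.finrank_fintype_fun_eq_card, Module.finrank_fintype_fun_eq_card, Fintype.card_fun, Fintype.card_fun,
      Fintype.card_fin]
    have hc : ∀ j : Fin t, Fintype.card (RS' j) = t - 1 := fun j => by
      rw [show Fintype.card (RS' j) = Fintype.card {x : Fin t // ¬ x = j} from
        Fintype.card_congr (Equiv.subtypeEquivRight fun x => ⟨fun h e => h () e.symm, fun h _ e => h e.symm⟩),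
        Fintype.card_subtype_compl, Fintype.card_fin, Fintype.card_subtype_eq]
    rw [hc, hc]
  rw [Module.finrank_fintype_fun_eq_card, Module.finrank_fintype_fun_eq_card]
  exact Nat.eq_of_mul_eq_mul_right hk (by rw [h, h])

theorem hrk_not_scalar (h3 : 3 ≤ k) {w : Fin k → F} (hw0 : w ≠ 0) (r : F) :
    hrk σ J w w ≠ r • (1 : Matrix (Fin k) (Fin k) F) := fun h => by
  obtain ⟨x, hx, hx0⟩ : ∃ x, hf σ J w x = 0 ∧ x ≠ 0 := by
    by_contra! hall
    have h1 := (LinearMap.finrank_le_finrank_of_injective (f := hf σ J w) ((injective_iff_map_eq_zero _).2 hall))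
    rw [Module.finrank_fintype_fun_eq_card, Fintype.card_fin, Module.finrank_self] at h1
    omega
  have h1 := congrArg (fun M => M *ᵥ x) h
  simp only [hrk_mulVec, hx, zero_smul, smul_mulVec, one_mulVec] at h1
  have hr : r = 0 := (smul_eq_zero.1 h1.symm).resolve_right hx0
  exact hJ.hrk_ne_zero hw0 hw0 (by rw [h, hr, zero_smul])

variable {H : Subgroup ((((Fin t → Fin k) → F)) ≃ₗ[F] ((Fin t → Fin k) → F))} (hR : ∀ i, Rigid (frame hJ i) H)
  (h3 : 3 ≤ k) (hbig : (∃ c : F, σ c = c ∧ c ≠ 0 ∧ c ≠ 1) ∨ 4 ≤ k)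
include hR h3 hbig

/-- a moved slot point is linked to some slot -/
theorem exists_pure {g : (((Fin t → Fin k) → F)) ≃ₗ[F] ((Fin t → Fin k) → F)}
    (hg : g ∈ H) {l : Fin t} {z : Fin k → F} (hz0 : z ≠ 0) {β : F} (hβ : β ≠ 0)
    (hβε : σ (1 + β * hf σ J z z) = 1 + β * hf σ J z z → β * hf σ J z z = 0)
    {h : (((Fin t → Fin k) → F)) ≃ₗ[F] ((Fin t → Fin k) → F)} (hh : h ∈ H)
    (h1 : IsOne (frame_map (frame hJ l) ((hR l).iso g hg)) z β h)
    (hcase : ∀ (i : Fin t) (u : Fin k → F), u ≠ 0 → hf σ J u u = 0 →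
      link (frame hJ i) (frame_map (frame hJ l) ((hR l).iso g hg)) u z = 0 ∨
        Plane (hf σ J) (pts i) u ((pts l).compr₂ g.toLinearMap) z) :
    ∃ (i : Fin t) (w : Fin k → F), w ≠ 0 ∧
      ∀ y, ((pts l).compr₂ g.toLinearMap) z y ∈ LinearMap.range (pts i w) := by
  classical
  haveI : Nonempty (Fin k) := ⟨⟨0, by omega⟩⟩
  have hn : finrank F (Fin k → F) = k := by rw [Module.finrank_fintype_fun_eq_card, Fintype.card_fin]
  by_cases hlink : ∃ i u, u ≠ 0 ∧ hf σ J u u = 0 ∧
      link (frame hJ i) (frame_map (frame hJ l) ((hR l).iso g hg)) u z ≠ 0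
  · obtain ⟨i, u, hu0, hu, hK⟩ := hlink
    exact ⟨i, pure_of_plane (frame hJ i) (frame_map (frame hJ l) ((hR l).iso g hg)) (hR i).dimU (hR i).posW
      (finrank_rest i l) (hbig.imp_right fun h4 => by rwa [hn]) hz0 (fun u hu0 hu => hcase i u hu0 hu) hu0 hu hK
      ((hcase i u hu0 hu).resolve_left hK)⟩
  exfalso
  push Not at hlink
  set M := LinearMap.toMatrix' g.toLinearMap with hM
  set M' := LinearMap.toMatrix' g.symm.toLinearMap with hM'
  have hMx : ∀ x, M *ᵥ x = g x := fun x => by rw [hM, LinearMap.toMatrix'_mulVec]; rfl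
  have hM'x : ∀ x, M' *ᵥ x = g.symm x := fun x => by rw [hM', LinearMap.toMatrix'_mulVec]; rfl
  set P := M * sl l (hrk σ J z z) * M' with hP
  have hPx : ∀ x, P *ᵥ x = ((pts l).compr₂ g.toLinearMap) z ((frame_map (frame hJ l) ((hR l).iso g hg)).ev z x) :=
    fun x => by
      rw [hP, ← mulVec_mulVec, ← mulVec_mulVec, hM'x, sl_hrk_apply hJ, hMx, frame_map_ev (frame hJ l) ((hR l).iso g hg)]
      rfl
  have hcomm : ∀ i u, u ≠ 0 → hf σ J u u = 0 → Commute P (sl i (hrk σ J u u)) := fun i u hu0 hu => by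
    obtain ⟨-, hc⟩ := (hR i).comm_of_zero (finrank_rest i l) hu0 hu hβ hβε hh h1 (hlink i u hu0 hu)
    obtain ⟨d, hd0, hd⟩ := Herm.exists_skew hJ.invol
    refine Matrix.toLin'.injective (LinearMap.ext fun y => ?_)
    have e := LinearEquiv.congr_fun (hc d (by rw [hd, add_neg_cancel])) y
    rw [LinearEquiv.mul_apply, LinearEquiv.mul_apply, (frame hJ i).lt_apply hu, (frame hJ i).lt_apply hu, h1, h1,
      ← hPx, ← hPx, ← sl_hrk_apply hJ, ← sl_hrk_apply hJ] at e
    simp only [mulVec_add, mulVec_smul, mulVec_mulVec] at e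
    rw [toLin'_apply, toLin'_apply]
    refine smul_right_injective _ (mul_ne_zero hd0 hβ) ?_
    show (d * β) • _ = (d * β) • _
    linear_combination (norm := module) e
  obtain ⟨r, hr⟩ := eq_smul_one_of_commute P fun i A => by
    let N : Submodule F (Matrix (Fin k) (Fin k) F) :=
      { carrier := {A | Commute P (sl i A)}
        add_mem' := fun {A B} hA hB => by
          show Commute P (sl i (A + B))
          rw [sl_add]; exact hA.add_right hB
        zero_mem' := by
          show Commute P (sl i 0)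
          rw [sl_zero]; exact Commute.zero_right P
        smul_mem' := fun c A hA => by
          show Commute P (sl i (c • A))
          rw [sl_smul]; exact hA.smul_right c }
    have htop : N = ⊤ := span_hrk hJ h3 N fun a b ha hb hab => by
      have h := ((hcomm i a (fun e => hab (by rw [e, map_zero, LinearMap.zero_apply])) ha).mul_right
        (hcomm i b (fun e => hab (by rw [e, map_zero])) hb)).smul_right (hf σ J a b)⁻¹
      rw [sl_mul, hrk_mul_hrk, sl_smul, inv_smul_smul₀ hab] at h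
      exact h
    exact ((htop ▸ Submodule.mem_top : A ∈ N) : Commute P (sl i A)).eq
  refine hrk_not_scalar hJ h3 hz0 r (sl_injective l ?_)
  have hM'M : M' * M = 1 := by rw [hM, hM', ← LinearMap.toMatrix'_comp]; simp
  calc sl l (hrk σ J z z) = M' * P * M := by
        rw [hP, show M' * (M * sl l (hrk σ J z z) * M') * M = (M' * M) * sl l (hrk σ J z z) * (M' * M) by
          simp only [mul_assoc], hM'M, one_mul, mul_one]
    _ = sl l (r • 1) := by rw [hr, sl_smul, sl_one, mul_smul_comm, mul_one, smul_mul_assoc, hM'M]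

/-- isotropic points over fields with more than two fixed elements -/
theorem moves_iso {c : F} (hc : σ c = c) (hc0 : c ≠ 0) (hc1 : c ≠ 1) {g : (((Fin t → Fin k) → F)) ≃ₗ[F] ((Fin t → Fin k) → F)}
    (hg : g ∈ H) (l : Fin t) {z : Fin k → F} (hz0 : z ≠ 0) (hz : hf σ J z z = 0) : Moves (σ := σ) (J := J) g l z := by
  obtain ⟨d, hd0, hd⟩ := Herm.exists_skew hJ.invol
  have hd' : d + σ d = 0 := by rw [hd, add_neg_cancel]
  have hj := (hR l).map hg
  have hlt := hj.toSlot.lt_mem hz hd'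
  obtain ⟨i, w, hw0, hmem⟩ := exists_pure hJ hR h3 hbig hg hz0 hd0 (fun _ => by rw [hz, mul_zero]) hlt (isOne_lt hz d)
    fun i u hu0 hu => ((hR i).root_cases hu0 hu hj.toSlot (finrank_rest i l) hz0 hz hc hc0 hc1).imp_right And.right
  obtain ⟨S, hinj, hS, hiso, -⟩ := pure_op (hF := frame hJ i) (hF' := frame_map (frame hJ l) ((hR l).iso g hg))
    (hR i).posW (finrank_rest i l) hz0 hw0 hmem
  have hw : hf σ J w w = 0 := hiso.1 hz
  obtain ⟨μ, hμ⟩ := (hR i).scal w hw0 hw (d • S) (by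
    convert hlt using 1
    refine LinearEquiv.ext fun x => ?_
    rw [(frame hJ i).rad_apply hw, (frame_map (frame hJ l) ((hR l).iso g hg)).lt_apply hz, hS, LinearMap.smul_apply,
      map_smul])
  have hν : ∀ y, S y = (d⁻¹ * μ) • y := fun y => by rw [mul_smul, ← hμ, LinearMap.smul_apply, inv_smul_smul₀ hd0]
  haveI : Nontrivial ((RS' i → Fin k) → F) := Module.nontrivial_of_finrank_pos (hR i).posW
  obtain ⟨y, hy⟩ := exists_ne (0 : (RS' i → Fin k) → F)
  refine ⟨i, w, d⁻¹ * μ, hw0, fun e => hy (hinj (by rw [hν, e, zero_smul, map_zero])), fun x => ?_⟩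
  have e := hS (g x)
  rw [frame_map_ev (frame hJ l) ((hR l).iso g hg), inv_apply, hν, map_smul, ← sl_hrk_apply hJ] at e
  rw [sl_hrk_apply hJ l]
  exact e

/-- unit points over the field with four elements -/
theorem moves_unit (h2 : (2 : F) = 0) (hfix : ∀ c : F, σ c = c → c = 0 ∨ c = 1) {β : F} (hβ : σ β ≠ β)
    (hβ3 : (1 + β) * (1 + β) * (1 + β) = 1) {g : (((Fin t → Fin k) → F)) ≃ₗ[F] ((Fin t → Fin k) → F)}
    (hg : g ∈ H) (l : Fin t) {z : Fin k → F} (hz : hf σ J z z = 1)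
    (hrefl : ∃ r ∈ H, ∀ x, r x = x + β • sl l (hrk σ J z z) *ᵥ x) : Moves (σ := σ) (J := J) g l z := by
  have hn : finrank F (Fin k → F) = k := by rw [Module.finrank_fintype_fun_eq_card, Fintype.card_fin]
  have h4 : 4 ≤ k := hbig.resolve_left fun ⟨c, hc, hc0, hc1⟩ => (hfix c hc).elim hc0 hc1
  have hz0 : z ≠ 0 := fun e => zero_ne_one (α := F) (by rw [← hz, e, map_zero])
  have hj := frame_map (frame hJ l) ((hR l).iso g hg)
  obtain ⟨r, hr, hrx⟩ := hrefl
  have hh : g * r * g⁻¹ ∈ H := mul_mem (mul_mem hg hr) (inv_mem hg)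
  have h1 : IsOne hj z β (g * r * g⁻¹) := fun x => by
    rw [LinearEquiv.mul_apply, LinearEquiv.mul_apply, hrx, map_add, apply_inv, map_smul, sl_hrk_apply hJ,
      frame_map_ev (frame hJ l) ((hR l).iso g hg)]
    rfl
  have h3' : (g * r * g⁻¹) ^ 3 = 1 := LinearEquiv.ext fun x => by
    rw [pow_succ, pow_two, LinearEquiv.mul_apply, LinearEquiv.mul_apply, h1, h1, h1]
    simp only [map_add, map_smul, hj.ev_pt, hz, one_smul, smul_add, smul_smul]
    have e : β + β + β + (β * β + β * β + β * β) + β * β * β = 0 := by linear_combination hβ3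
    show _ = x
    linear_combination (norm := module) e • ((pts l).compr₂ g.toLinearMap) z (hj.ev z x)
  have hβ0 : β ≠ 0 := fun e => hβ (by rw [e, map_zero])
  obtain ⟨i, w, hw0, hmem⟩ := exists_pure hJ hR h3 hbig hg hz0 hβ0 (fun e => by
      rw [hz, mul_one, map_add, map_one] at e
      exact absurd (add_left_cancel e) hβ) hh h1
    fun i u hu0 hu => (hR i).refl_cases hu0 hu hh h1 (finrank_rest i l) hz0 hβ h3' h2 hfix (by rwa [hn])
  obtain ⟨S, hinj, hS, hiso, hsq⟩ := pure_op (hF := frame hJ i) (hF' := hj) (hR i).posW (finrank_rest i l) hz0 hw0 hmem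
  have hw : hf σ J w w = 1 := (hfix _ (Herm.fix_self hJ.isHerm w)).resolve_left fun e => by
    have h := hiso.2 e
    rw [hz] at h
    exact one_ne_zero h
  rw [hz, hw, one_smul] at hsq
  refine ⟨i, w, 1, hw0, one_ne_zero, fun x => ?_⟩
  have hS1 : ∀ y, S y = y := fun y => (hinj (LinearMap.congr_fun hsq y)).symm
  have e := hS (g x)
  rw [frame_map_ev (frame hJ l) ((hR l).iso g hg), inv_apply, hS1, ← sl_hrk_apply hJ] at e
  rw [sl_hrk_apply hJ l, one_smul]
  exact e

omit hR hbig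

/-- isometries carrying enough slot points to slot points lie in the wreath group -/
theorem wreath_of_points (ht : 0 < t) (G : (Fin k → F) → Prop) (hne : ∀ z, G z → z ≠ 0) (hex : ∃ z, G z)
    (hconn : ∀ a b, G a → G b → hf σ J a b = 0 → ∃ e, G e ∧ hf σ J a e ≠ 0 ∧ hf σ J b e ≠ 0)
    (hspan : ∀ N : Submodule F (Matrix (Fin k) (Fin k) F), (∀ A ∈ N, ∀ B ∈ N, A * B ∈ N) →
      (∀ z, G z → hrk σ J z z ∈ N) → N = ⊤)
    (g : (((Fin t → Fin k) → F)) ≃ₗ[F] ((Fin t → Fin k) → F))
    (hmove : ∀ l z, G z → Moves (σ := σ) (J := J) g l z) :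
    (glEquiv (Fin t → Fin k) F).symm g ∈ Cfsg.Geo.tensorWreathStandard k t F := by
  classical
  haveI : Nonempty (Fin k) := ⟨⟨0, by omega⟩⟩
  set G₀ := (glEquiv (Fin t → Fin k) F).symm g
  set M : Matrix (Fin t → Fin k) (Fin t → Fin k) F := (G₀ : Matrix (Fin t → Fin k) (Fin t → Fin k) F) with hM
  have cancel : ∀ {X Y : Matrix (Fin t → Fin k) (Fin t → Fin k) F}, X * M = Y * M → X = Y :=
    fun {X Y} e => G₀.isUnit.mul_left_injective e
  choose π₀ w₀ ν₀ hw₀ hν₀ hmv using hmove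
  have hrel : ∀ l z (hz : G z), M * sl l (hrk σ J z z) =
      (ν₀ l z hz • sl (π₀ l z hz) (hrk σ J (w₀ l z hz) (w₀ l z hz))) * M := fun l z hz =>
    Matrix.toLin'.injective (LinearMap.ext fun x => by
      rw [toLin'_apply, toLin'_apply, ← mulVec_mulVec, ← mulVec_mulVec, hM, symm_mulVec, symm_mulVec, hmv l z hz,
        smul_mulVec])
  have hnon : ∀ l a b (ha : G a) (hb : G b), hf σ J a b ≠ 0 → π₀ l a ha = π₀ l b hb := by
    intro l a b ha hb hab
    by_contra hne'
    have hab' : hf σ J b a ≠ 0 := fun e => hab ((Herm.eq_zero_comm hJ.isHerm).1 e)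
    have e : M * (sl l (hrk σ J a a) * sl l (hrk σ J b b) * sl l (hrk σ J a a)) =
        M * ((hf σ J a b * hf σ J b a) • sl l (hrk σ J a a)) := by
      rw [sl_mul, hrk_mul_hrk, sl_smul, smul_mul_assoc, sl_mul, hrk_mul_hrk, sl_smul, smul_smul]
    rw [← mul_assoc, ← mul_assoc, hrel l a ha, mul_assoc _ M, hrel l b hb, mul_assoc, mul_assoc _ M, hrel l a ha,
      mul_smul_comm, hrel l a ha, ← mul_assoc, ← mul_assoc, ← smul_mul_assoc] at e
    have e' := cancel e
    set i := π₀ l a ha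
    set j := π₀ l b hb
    set X := hrk σ J (w₀ l a ha) (w₀ l a ha) with hX
    set Y := hrk σ J (w₀ l b hb) (w₀ l b hb)
    set δ := hf σ J (w₀ l a ha) (w₀ l a ha)
    simp only [smul_mul_assoc, mul_smul_comm, smul_smul] at e'
    have hXX : sl i X * sl i X = δ • sl i X := by rw [sl_mul, hX, hrk_mul_hrk, sl_smul]
    have hc3 : sl i X * (sl j Y * sl i X) = δ • (sl i X * sl j Y) := by
      rw [← (sl_commute hne' X Y).eq, ← mul_assoc, hXX, smul_mul_assoc]
    simp only [mul_assoc, hc3, smul_smul] at e'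
    set p := ν₀ l a ha * ν₀ l b hb * ν₀ l a ha * δ with hp
    set q := hf σ J a b * hf σ J b a * ν₀ l a ha with hq
    have e'' : sl i X * sl j (p • Y - q • 1) = 0 := by
      rw [sub_eq_add_neg, ← neg_smul, sl_add, sl_smul, sl_smul, sl_one, mul_add, mul_smul_comm, mul_smul_comm, mul_one,
        neg_smul, ← sub_eq_add_neg, sub_eq_zero, hp, hq]
      linear_combination (norm := module) e'
    rw [sl, sl, tens_mul] at e''
    obtain ⟨m, hm⟩ := tens_eq_zero_iff.1 e''
    by_cases hmi : m = i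
    · subst hmi
      rw [Pi.mul_apply, Function.update_self, Function.update_of_ne hne', Pi.one_apply, mul_one] at hm
      exact hJ.hrk_ne_zero (hw₀ l a ha) (hw₀ l a ha) hm
    rw [Pi.mul_apply, Function.update_of_ne hmi, Pi.one_apply, one_mul] at hm
    by_cases hmj : m = j
    · subst hmj
      rw [Function.update_self, sub_eq_zero] at hm
      have hq0 : q ≠ 0 := mul_ne_zero (mul_ne_zero hab hab') (hν₀ l a ha)
      have hp0 : p ≠ 0 := fun e0 => by
        rw [e0, zero_smul, eq_comm, smul_eq_zero] at hm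
        exact hm.elim hq0 one_ne_zero
      refine hrk_not_scalar hJ h3 (hw₀ l b hb) (p⁻¹ * q) ?_
      rw [mul_smul, ← hm, inv_smul_smul₀ hp0]
    · rw [Function.update_of_ne hmj, Pi.one_apply] at hm
      exact one_ne_zero hm
  obtain ⟨z₁, hz₁⟩ := hex
  let π : Fin t → Fin t := fun l => π₀ l z₁ hz₁
  have hall : ∀ l z (hz : G z), π₀ l z hz = π l := fun l z hz => by
    by_cases h : hf σ J z z₁ = 0
    · obtain ⟨e, he, h1, h2⟩ := hconn z z₁ hz hz₁ h
      exact (hnon l z e hz he h1).trans (hnon l z₁ e hz₁ he h2).symm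
    · exact hnon l z z₁ hz hz₁ h
  refine TPow.mem_wreath (by omega) ht π fun l A => ?_
  let N : Submodule F (Matrix (Fin k) (Fin k) F) :=
    { carrier := {A | ∃ B, M * sl l A = sl (π l) B * M}
      add_mem' := by
        rintro A A' ⟨B, hB⟩ ⟨B', hB'⟩
        exact ⟨B + B', by rw [sl_add, mul_add, hB, hB', sl_add, add_mul]⟩
      zero_mem' := ⟨0, by rw [sl_zero, sl_zero, mul_zero, zero_mul]⟩
      smul_mem' := fun c A ⟨B, hB⟩ => ⟨c • B, by rw [sl_smul, mul_smul_comm, hB, sl_smul, smul_mul_assoc]⟩ }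
  have htop : N = ⊤ := hspan N (fun A ⟨B, hB⟩ A' ⟨B', hB'⟩ => ⟨B * B', by
      rw [← sl_mul, ← mul_assoc, hB, mul_assoc, hB', ← mul_assoc, sl_mul]⟩) fun z hz =>
    ⟨ν₀ l z hz • hrk σ J (w₀ l z hz) (w₀ l z hz), by rw [hrel l z hz, hall l z hz, sl_smul]⟩
  exact (htop ▸ Submodule.mem_top : A ∈ N)

include hR hbig

/-- every element lies in the wreath group -/
theorem mem_wreath_of_rigid (ht : 0 < t)
    (hrefl : (∀ c : F, σ c = c → c = 0 ∨ c = 1) → ∀ β : F, σ β ≠ β → ∀ l z, hf σ J z z = 1 →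
      (1 + β) * σ (1 + β) = 1 → ∃ r ∈ H, ∀ x, r x = x + β • sl l (hrk σ J z z) *ᵥ x)
    {g : (((Fin t → Fin k) → F)) ≃ₗ[F] ((Fin t → Fin k) → F)} (hg : g ∈ H) :
    (glEquiv (Fin t → Fin k) F).symm g ∈ Cfsg.Geo.tensorWreathStandard k t F := by
  classical
  have hA := hJ.isHerm
  have hn : finrank F (Fin k → F) = k := by rw [Module.finrank_fintype_fun_eq_card, Fintype.card_fin]
  obtain ⟨u, f, hu, hf', huf, hfu⟩ := exists_pair hA (E := Fin k → F) (by omega)
  have hu0 : u ≠ 0 := (pair_ne hA huf).1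
  have hprod : ∀ N : Submodule F (Matrix (Fin k) (Fin k) F), (∀ A ∈ N, ∀ B ∈ N, A * B ∈ N) →
      (∀ z, z ≠ 0 → hf σ J z z = 0 → hrk σ J z z ∈ N) → N = ⊤ := fun N hmul hz =>
    span_hrk hJ h3 N fun a b ha hb hab => by
      have h := N.smul_mem (hf σ J a b)⁻¹ (hmul _ (hz a (fun e => hab (by rw [e, map_zero, LinearMap.zero_apply])) ha)
        _ (hz b (fun e => hab (by rw [e, map_zero])) hb))
      rwa [hrk_mul_hrk, inv_smul_smul₀ hab] at h
  by_cases hk : ∃ c : F, σ c = c ∧ c ≠ 0 ∧ c ≠ 1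
  · obtain ⟨c, hc, hc0, hc1⟩ := hk
    refine wreath_of_points hJ h3 ht (fun z => z ≠ 0 ∧ hf σ J z z = 0) (fun z hz => hz.1) ⟨u, hu0, hu⟩ ?_
      (fun N hmul hz => hprod N hmul fun z h0 h1 => hz z ⟨h0, h1⟩) g
      fun l z hz => moves_iso hJ hR h3 hbig hc hc0 hc1 hg l hz.1 hz.2
    intro a b ha hb _
    by_contra! h
    refine hb.1 (hA.nondeg b fun y => ?_)
    have := span_iso_nonorth hA (by omega) ha.1 ha.2 (LinearMap.ker (hf σ J b)) fun e he hae =>
      LinearMap.mem_ker.2 (h e ⟨fun e0 => hae (by rw [e0, map_zero]), he⟩ hae)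
    exact LinearMap.mem_ker.1 (this ▸ Submodule.mem_top : y ∈ LinearMap.ker (hf σ J b))
  push Not at hk
  have hfix : ∀ c : F, σ c = c → c = 0 ∨ c = 1 := fun c h => or_iff_not_imp_left.2 (hk c h)
  obtain ⟨h2, ω, hσω, hω⟩ := exists_cube_root hA hfix
  have hσβ : σ (ω * ω) ≠ ω * ω := fun e => by
    rw [map_mul, hσω] at e
    exact zero_ne_one (α := F) (by linear_combination (ω * (ω - 1) - 1) * hω - e + ω * h2)
  obtain ⟨m, -, -, -, -, hmm⟩ := exists_perp_pair_value hA (by omega) hu hf' huf (c := (1 : F)) (map_one σ)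
  refine wreath_of_points hJ h3 ht (fun z => hf σ J z z = 1) (fun z hz e => zero_ne_one (α := F) (by
    rw [← hz, e, map_zero])) ⟨m, hmm⟩ ?_ (fun N hmul hz => hprod N hmul fun z hz0 hzz => ?_) g
    fun l z hz => moves_unit hJ hR h3 hbig h2 hfix hσβ ?_ hg l hz (hrefl hfix _ hσβ l z hz ?_)
  · intro a b ha hb hab
    have hba := (Herm.eq_zero_comm hA).1 hab
    have hON : Herm.IsON (hf σ J) ![a, b] := fun i j => by
      fin_cases i <;> fin_cases j <;> simp [ha, hb, hab, hba]
    obtain ⟨e, he, hee⟩ := exists_perp_value hA hON (by omega) (c := (1 : F)) (map_one σ)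
    have hea : hf σ J a e = 0 := he 0
    have heb : hf σ J b e = 0 := he 1
    refine ⟨a + b + e, ?_, by simp [ha, hab, hea], by simp [hb, hba, heb]⟩
    simp [ha, hb, hab, hba, hea, heb, hee, (Herm.eq_zero_comm hA).1 hea, (Herm.eq_zero_comm hA).1 heb]
    linear_combination h2
  · obtain ⟨p, hp, hzp, hpz⟩ := exists_iso_partner hA hz0 hzz
    obtain ⟨m, hzm, -, hmz, -, hmm⟩ := exists_perp_pair_value hA (by omega) hzz hp hzp (c := (1 : F)) (map_one σ)
    have hb : hf σ J (m + z) (m + z) = 1 := by simp [hzz, hzm, hmz, hmm]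
    have hab : hf σ J m (m + z) = 1 := by simp [hmz, hmm]
    have hba : hf σ J (m + z) m = 1 := by simp [hzm, hmm]
    have h1 := hmul _ (hz m hmm) _ (hz _ hb)
    have h2' := hmul _ (hz _ hb) _ (hz m hmm)
    rw [hrk_mul_hrk, hab, one_smul] at h1
    rw [hrk_mul_hrk, hba, one_smul] at h2'
    have := N.sub_mem (N.sub_mem (N.add_mem (hz m hmm) (hz _ hb)) h1) h2'
    convert this using 1
    simp only [hrk_add_left, hrk_add_right]
    abel
  · linear_combination ((1 + ω * ω) * (1 + ω * ω) - (1 + ω * ω) * ω + ω * ω - (ω - 1)) * hω - h2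
  · rw [map_add, map_one, map_mul, hσω]
    linear_combination ((1 + ω * ω) * ω * (ω - 1) + ω) * hω

end Tensor

end Cfsg.Agent.ClassicalMax.UnWreath
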