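import Mathlib

/-!
An abelian `p`-subgroup containing the centraliser-type transporters of its non-trivial elements has a normal
complement, and each coset of the complement consists of conjugates.
-/

set_option autoImplicit false

namespace Cfsg.Agent.ClassicalMax.UnWreath

variable {G : Type*} [Group G] [Finite G] {p : ℕ} [hp : Fact p.Prime]

/-- the normal complement -/
structure Compl (p : ℕ) (X O : Subgroup G) : Prop where
  normal : O.Normal
  prod : ∀ g, ∃ o ∈ O, ∃ b ∈ X, g = o * b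
  disj : ∀ o ∈ O, o ∈ X → o = 1
  conj : ∀ o ∈ O, ∀ x ∈ X, x ≠ 1 → ∃ w ∈ O, o * x = w * x * w⁻¹
  prime_to : ∀ o ∈ O, o ^ p = 1 → o = 1

theorem exists_compl (X : Subgroup G) (hX : IsPGroup p X) (hne : X ≠ ⊥) (hcomm : ∀ a ∈ X, ∀ b ∈ X, a * b = b * a)
    (hC : ∀ x ∈ X, x ≠ 1 → ∀ g : G, g * x * g⁻¹ ∈ X → g ∈ X) : ∃ O, Compl p X O := by
  classical
  obtain ⟨x₀, hx₀, hx₀1⟩ : ∃ x ∈ X, x ≠ 1 := by
    by_contra! h
    exact hne ((Subgroup.eq_bot_iff_forall _).2 h)
  obtain ⟨P, hP⟩ := hX.exists_le_sylow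
  have hPX : (P : Subgroup G) ≤ X := by
    haveI : Nontrivial (P : Subgroup G) :=
      (Subgroup.nontrivial_iff_ne_bot _).2 fun h => hx₀1 (by
        have := hP hx₀
        rwa [h, Subgroup.mem_bot] at this)
    haveI := P.isPGroup'.center_nontrivial
    obtain ⟨⟨z, hz⟩, hz1⟩ := exists_ne (1 : Subgroup.center (P : Subgroup G))
    have hz1' : (z : G) ≠ 1 := fun h => hz1 (Subtype.ext (Subtype.ext h))
    have hzX : (z : G) ∈ X := hC x₀ hx₀ hx₀1 _ (by
      have h1 := congrArg Subtype.val (Subgroup.mem_center_iff.1 hz ⟨x₀, hP hx₀⟩)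
      simp only [Subgroup.coe_mul] at h1
      rw [← h1, mul_inv_cancel_right]
      exact hx₀)
    intro g hg
    refine hC _ hzX hz1' g ?_
    have h1 := congrArg Subtype.val (Subgroup.mem_center_iff.1 hz ⟨g, hg⟩)
    simp only [Subgroup.coe_mul] at h1
    rw [h1, mul_inv_cancel_right]
    exact hzX
  have hN : Subgroup.normalizer ((P : Subgroup G) : Set G) ≤ Subgroup.centralizer ((P : Subgroup G) : Set G) := by
    intro g hg
    have hgX : g ∈ X := hC x₀ hx₀ hx₀1 g (hPX ((Subgroup.mem_normalizer_iff.1 hg x₀).1 (hP hx₀)))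
    exact Subgroup.mem_centralizer_iff.2 fun y hy => hcomm y (hPX hy) g hgX
  set O := (MonoidHom.transferSylow P hN).ker
  have hcompl : Subgroup.IsComplement' O (P : Subgroup G) := MonoidHom.ker_transferSylow_isComplement' P hN
  have hdisj : ∀ o ∈ O, o ∈ X → o = 1 := fun o ho hoX => by
    have := hcompl.disjoint
    rw [Subgroup.disjoint_def] at this
    exact this ho (hP hoX)
  refine ⟨O, inferInstance, fun g => ?_, hdisj, fun o ho x hx hx1 => ?_, fun o ho hop => ?_⟩
  · obtain ⟨⟨⟨o, ho⟩, ⟨b, hb⟩⟩, e⟩ := hcompl.2 g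
    exact ⟨o, ho, b, hPX hb, e.symm⟩
  · let φ : O → O := fun w => ⟨w * x * (w : G)⁻¹ * x⁻¹, by
      rw [mul_assoc (w : G), mul_assoc (w : G)]
      exact mul_mem w.2 ((inferInstance : O.Normal).conj_mem _ (inv_mem w.2) x)⟩
    have hinj : Function.Injective φ := fun w w' h => by
      have h1 : (w : G) * x * (w : G)⁻¹ = w' * x * (w' : G)⁻¹ := mul_right_cancel (congrArg Subtype.val h)
      have h2 : ((w' : G)⁻¹ * w) * x * ((w' : G)⁻¹ * w)⁻¹ = x := by
        calc _ = (w' : G)⁻¹ * (w * x * (w : G)⁻¹) * w' := by group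
          _ = x := by rw [h1]; group
      have h3 := hdisj _ (mul_mem (inv_mem w'.2) w.2) (hC x hx hx1 _ (h2.symm ▸ hx))
      exact Subtype.ext (inv_mul_eq_one.1 h3).symm
    obtain ⟨w, hw⟩ := Finite.injective_iff_surjective.1 hinj ⟨o, ho⟩
    have hw' : (w : G) * x * (w : G)⁻¹ * x⁻¹ = o := congrArg Subtype.val hw
    exact ⟨w, w.2, by rw [← hw', inv_mul_cancel_right]⟩
  · by_contra h1
    refine MonoidHom.not_dvd_card_ker_transferSylow P hN ?_
    have := orderOf_dvd_natCard (⟨o, ho⟩ : O)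
    rwa [← Subgroup.orderOf_coe, orderOf_eq_prime hop h1] at this

/-- an element of order prime to the exponent of the complemented group lies in the complement -/
theorem Compl.mem_of_pow {X O : Subgroup G} (hO : Compl p X O) {g : G} {l : ℕ} (hg : g ^ l = 1)
    (hl : ∀ b ∈ X, b ^ l ∈ O → b = 1) : g ∈ O := by
  obtain ⟨o, ho, b, hb, rfl⟩ := hO.prod g
  have key : ∀ j : ℕ, ∃ o' ∈ O, (o * b) ^ j = o' * b ^ j := fun j => by
    induction j with
    | zero => exact ⟨1, one_mem _, by simp⟩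
    | succ j ih =>
      obtain ⟨o', ho', e⟩ := ih
      exact ⟨o' * (b ^ j * o * (b ^ j)⁻¹), mul_mem ho' (hO.normal.conj_mem o ho _), by rw [pow_succ, e, pow_succ]; group⟩
  obtain ⟨o', ho', e⟩ := key l
  have : b = 1 := hl b hb (by
    rw [show b ^ l = o'⁻¹ * (o * b) ^ l by rw [e, inv_mul_cancel_left], hg, mul_one]
    exact inv_mem ho')
  rwa [this, mul_one]

end Cfsg.Agent.ClassicalMax.UnWreath
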