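import Cfsg.Agent.ClassicalMax.UnTensor.Space

/-!
Forms vanishing on all isotropic vectors, and spanning by isotropic vectors.
-/

set_option autoImplicit false
set_option linter.unusedSectionVars false

namespace Cfsg.Agent.ClassicalMax.UnWreath

open Module Cfsg.Agent.Classical Cfsg.Agent.ClassicalMax Cfsg.Agent.ClassicalMax.UnTensor

variable {F E : Type*} [Field F] [Finite F] [AddCommGroup E] [Module F E] [FiniteDimensional F E]
  {σ : F →+* F} {A : E →ₛₗ[σ] E →ₗ[F] F} (hA : Herm.IsHerm A)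
include hA

/-- a sesquilinear form vanishing on the isotropic vectors is a multiple of the Hermitian form -/
theorem scalar_of_iso (hn : 2 ≤ finrank F E) (Φ : E →ₛₗ[σ] E →ₗ[F] F) (h : ∀ a, A a a = 0 → Φ a a = 0) :
    ∃ c : F, ∀ x y, Φ x y = c * A x y := by
  obtain ⟨u, f, hu, hf, huf, hfu⟩ := exists_pair hA hn
  obtain ⟨d, hd0, hd⟩ := Herm.exists_skew hA.toIsInvol
  obtain ⟨ω, hω⟩ := Herm.exists_moved hA.toIsInvol
  have hu0 := h u hu
  have hf0 := h f hf
  set c := Φ u f with hc
  have hcf : Φ f u = c := by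
    have h1 := h (f + d • u) (by
      simp only [map_add, map_smulₛₗ, LinearMap.add_apply, LinearMap.smul_apply, smul_eq_mul, RingHom.id_apply, hu, hf,
        huf, hfu, mul_zero, mul_one, add_zero, zero_add, hd]
      ring)
    simp only [map_add, map_smulₛₗ, LinearMap.add_apply, LinearMap.smul_apply, smul_eq_mul, RingHom.id_apply, hu0, hf0,
      mul_zero, add_zero, zero_add, hd] at h1
    refine sub_eq_zero.1 ((mul_eq_zero.1 (show d * (Φ f u - c) = 0 by linear_combination h1)).resolve_left hd0)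
  let Ψ : E →ₛₗ[σ] E →ₗ[F] F := Φ - c • A
  have hΨ : ∀ x y, Ψ x y = Φ x y - c * A x y := fun x y => rfl
  have hiso : ∀ a, A a a = 0 → Ψ a a = 0 := fun a ha => by rw [hΨ, h a ha, ha, mul_zero, sub_zero]
  have puu : Ψ u u = 0 := hiso u hu
  have pff : Ψ f f = 0 := hiso f hf
  have puf : Ψ u f = 0 := by rw [hΨ, huf, mul_one, sub_self]
  have pfu : Ψ f u = 0 := by rw [hΨ, hfu, mul_one, hcf, sub_self]
  have hperp : ∀ x, A u x = 0 → A f x = 0 → Ψ u x = 0 ∧ Ψ x u = 0 ∧ Ψ f x = 0 ∧ Ψ x f = 0 ∧ Ψ x x = 0 := by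
    intro x hux hfx
    have hxu : A x u = 0 := (Herm.eq_zero_comm hA).1 hux
    have hxf : A x f = 0 := (Herm.eq_zero_comm hA).1 hfx
    have hexp : ∀ r γ : F, γ + σ γ + r * σ r * A x x = 0 →
        r * Ψ f x + σ r * Ψ x f + σ γ * r * Ψ u x + σ r * γ * Ψ x u + r * σ r * Ψ x x = 0 := by
      intro r γ hγ
      have h1 := hiso (γ • u + f + r • x) (by
        simp only [map_add, map_smulₛₗ, LinearMap.add_apply, LinearMap.smul_apply, smul_eq_mul, RingHom.id_apply, hu, hf,
          huf, hfu, hux, hfx, hxu, hxf, mul_zero, mul_one, add_zero, zero_add]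
        linear_combination hγ)
      simp only [map_add, map_smulₛₗ, LinearMap.add_apply, LinearMap.smul_apply, smul_eq_mul, RingHom.id_apply, puu, pff,
        puf, pfu, mul_zero, add_zero, zero_add] at h1
      linear_combination h1
    have hlin : ∀ r : F, r * Ψ u x = σ r * Ψ x u := fun r => by
      obtain ⟨γ, hγ⟩ := Herm.exists_trace hA.toIsInvol (a := -(r * σ r * A x x))
        (by rw [map_neg, map_mul, map_mul, hA.invol, Herm.fix_self hA, mul_comm (σ r)])
      have e1 := hexp r γ (by linear_combination hγ)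
      have e2 := hexp r (γ + d) (by rw [map_add, hd]; linear_combination hγ)
      rw [map_add, hd] at e2
      exact mul_left_cancel₀ hd0 (by linear_combination e1 - e2)
    have h1 := hlin 1
    rw [map_one, one_mul, one_mul] at h1
    have h2 := hlin ω
    rw [h1] at h2
    have hxu0 : Ψ x u = 0 :=
      (mul_eq_zero.1 (show (ω - σ ω) * Ψ x u = 0 by linear_combination h2)).resolve_left (sub_ne_zero.2 hω.symm)
    have hux0 : Ψ u x = 0 := h1.trans hxu0
    have hq : ∀ r : F, r * Ψ f x + σ r * Ψ x f + r * σ r * Ψ x x = 0 := fun r => by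
      obtain ⟨γ, hγ⟩ := Herm.exists_trace hA.toIsInvol (a := -(r * σ r * A x x))
        (by rw [map_neg, map_mul, map_mul, hA.invol, Herm.fix_self hA, mul_comm (σ r)])
      have e1 := hexp r γ (by linear_combination hγ)
      rw [hux0, hxu0] at e1
      linear_combination e1
    -- a norm-one scalar moves the linear part alone
    obtain ⟨ζ, hζ1, hζ⟩ := Herm.exists_norm_one_ne_one hA
    have hl : ∀ r : F, r * (ζ - 1) * Ψ f x + σ r * (σ ζ - 1) * Ψ x f = 0 := fun r => by
      have e1 := hq r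
      have e2 := hq (r * ζ)
      rw [map_mul] at e2
      linear_combination e2 - e1 - r * σ r * Ψ x x * hζ
    have g1 := hl 1
    have g2 := hl ω
    rw [map_one, one_mul, one_mul] at g1
    have hσζ : σ ζ - 1 ≠ 0 := fun e => hζ1 (by
      rw [← hA.invol ζ, sub_eq_zero.1 e, map_one])
    have hxf0 : Ψ x f = 0 :=
      (mul_eq_zero.1 (show ((σ ω - ω) * (σ ζ - 1)) * Ψ x f = 0 by linear_combination g2 - ω * g1)).resolve_left
        (mul_ne_zero (sub_ne_zero.2 hω) hσζ)
    have hfx0 : Ψ f x = 0 := by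
      rw [hxf0, mul_zero, add_zero] at g1
      exact (mul_eq_zero.1 g1).resolve_left (sub_ne_zero.2 hζ1)
    have hxx0 := hq 1
    rw [map_one, hfx0, hxf0] at hxx0
    exact ⟨hux0, hxu0, hfx0, hxf0, by linear_combination hxx0⟩
  refine ⟨c, fun x y => sub_eq_zero.1 (?_ : Ψ x y = 0)⟩
  have hdec : ∀ z, ∃ z', A u z' = 0 ∧ A f z' = 0 ∧ z = A f z • u + A u z • f + z' := fun z =>
    ⟨z - A f z • u - A u z • f, by simp [hu, huf], by simp [hf, hfu], by abel⟩
  obtain ⟨x', hux, hfx, ex⟩ := hdec x
  obtain ⟨y', huy, hfy, ey⟩ := hdec y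
  obtain ⟨a1, a2, a3, a4, a5⟩ := hperp x' hux hfx
  obtain ⟨b1, b2, b3, b4, b5⟩ := hperp y' huy hfy
  have hxy : Ψ x' y' = 0 := by
    have hs : ∀ r : F, r * Ψ x' y' + σ r * Ψ y' x' = 0 := fun r => by
      obtain ⟨-, -, -, -, e⟩ := hperp (x' + r • y') (by simp [hux, huy]) (by simp [hfx, hfy])
      simp only [map_add, map_smulₛₗ, LinearMap.add_apply, LinearMap.smul_apply, smul_eq_mul, RingHom.id_apply, a5, b5,
        mul_zero, add_zero, zero_add] at e
      linear_combination e
    have g1 := hs 1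
    have g2 := hs ω
    rw [map_one, one_mul, one_mul] at g1
    exact (mul_eq_zero.1 (show (ω - σ ω) * Ψ x' y' = 0 by linear_combination g2 - σ ω * g1)).resolve_left
      (sub_ne_zero.2 hω.symm)
  rw [ex, ey]
  simp only [map_add, map_smulₛₗ, LinearMap.add_apply, LinearMap.smul_apply, smul_eq_mul, RingHom.id_apply, puu, pff,
    puf, pfu, a1, a2, a3, a4, b1, b2, b3, b4, hxy, mul_zero, add_zero]

/-- isotropic vectors pairing non-trivially with a given one span -/
theorem span_iso_nonorth (hn : 3 ≤ finrank F E) {a : E} (ha0 : a ≠ 0) (ha : A a a = 0) (S : Submodule F E)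
    (hS : ∀ b, A b b = 0 → A a b ≠ 0 → b ∈ S) : S = ⊤ := by
  obtain ⟨f, hf, haf, hfa⟩ := exists_iso_partner hA ha0 ha
  obtain ⟨d, hd0, hd⟩ := Herm.exists_skew hA.toIsInvol
  have hfS : f ∈ S := hS f hf (by rw [haf]; exact one_ne_zero)
  have haS : a ∈ S := by
    have h := hS (f + d • a) (by
      simp only [map_add, map_smulₛₗ, LinearMap.add_apply, LinearMap.smul_apply, smul_eq_mul, RingHom.id_apply, ha, hf,
        haf, hfa, mul_zero, mul_one, add_zero, zero_add, hd]
      ring) (by rw [map_add, map_smul, haf, ha, smul_zero, add_zero]; exact one_ne_zero)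
    have := S.smul_mem d⁻¹ (S.sub_mem h hfS)
    rwa [add_sub_cancel_left, inv_smul_smul₀ hd0] at this
  refine eq_top_iff.2 fun z _ => ?_
  set x := z - A f z • a - A a z • f with hx
  suffices hxS : x ∈ S by
    have := S.add_mem (S.add_mem (S.smul_mem (A f z) haS) (S.smul_mem (A a z) hfS)) hxS
    rwa [hx, show A f z • a + A a z • f + (z - A f z • a - A a z • f) = z by abel] at this
  have hax : A a x = 0 := by simp [hx, ha, haf]
  have hfx : A f x = 0 := by simp [hx, hf, hfa]
  obtain ⟨γ, hγ⟩ := Herm.exists_trace hA.toIsInvol (a := -A x x) (by rw [map_neg, Herm.fix_self hA])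
  have h := hS (γ • a + f + x) (by
    simp only [map_add, map_smulₛₗ, LinearMap.add_apply, LinearMap.smul_apply, smul_eq_mul, RingHom.id_apply, ha, hf,
      haf, hfa, hax, hfx, (Herm.eq_zero_comm hA).1 hax, (Herm.eq_zero_comm hA).1 hfx, mul_zero, mul_one, add_zero,
      zero_add]
    linear_combination hγ) (by simp [ha, haf, hax])
  have := S.sub_mem (S.sub_mem h (S.smul_mem γ haS)) hfS
  rwa [show γ • a + f + x - γ • a - f = x by abel] at this

end Cfsg.Agent.ClassicalMax.UnWreath
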