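import Cfsg.Agent.ClassicalMax.UnWreath.Stab

/-!
An element moving only along one `v ⊗ W'` of a second frame whose link to a `u ⊗ W` vanishes fixes `u ⊗ W` and
centralises its transvection group; square-zero links vanish over fields with more than two fixed elements.
-/

set_option autoImplicit false
set_option linter.unusedSectionVars false
set_option linter.style.haveILetI false

namespace Cfsg.Agent.ClassicalMax.UnWreath

open Module Cfsg.Agent.Classical Cfsg.Agent.ClassicalMax Cfsg.Agent.ClassicalMax.UnTensor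

variable {F U W U' W' V : Type*} [Field F] [Finite F] [AddCommGroup U] [Module F U] [AddCommGroup W] [Module F W]
  [AddCommGroup U'] [Module F U'] [AddCommGroup W'] [Module F W']
  [AddCommGroup V] [Module F V] [FiniteDimensional F U] [FiniteDimensional F W] [FiniteDimensional F V]
  [FiniteDimensional F U'] [FiniteDimensional F W']
  {σ : F →+* F} {B : V →ₛₗ[σ] V →ₗ[F] F} {A : U →ₛₗ[σ] U →ₗ[F] F} {C : W →ₛₗ[σ] W →ₗ[F] F}
  {A' : U' →ₛₗ[σ] U' →ₗ[F] F} {C' : W' →ₛₗ[σ] W' →ₗ[F] F}
  {pt : U →ₗ[F] W →ₗ[F] V} {pt' : U' →ₗ[F] W' →ₗ[F] V} {hF : Frame B A C pt} {hF' : Frame B A' C' pt'}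
  {H : Subgroup (V ≃ₗ[F] V)}

/-- the map from `v ⊗ W'` to `u ⊗ W` given by the form -/
noncomputable def cross (hF : Frame B A C pt) (u : U) (pt' : U' →ₗ[F] W' →ₗ[F] V) (v : U') : W' →ₗ[F] W :=
  (hF.ev u).comp (pt' v)

theorem cross_apply (u : U) (v : U') (t : W') : cross hF u pt' v t = hF.ev u (pt' v t) := rfl

theorem cross_adj (u : U) (v : U') (y : W) (t : W') :
    C y (cross hF u pt' v t) = C' (cross hF' v pt u y) t := by
  rw [cross_apply, hF.C_ev, hF'.B_pt]
  rfl

/-- the link of two pure subspaces -/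
noncomputable def link (hF : Frame B A C pt) (hF' : Frame B A' C' pt') (u : U) (v : U') : W →ₗ[F] W :=
  cross hF u pt' v ∘ₗ cross hF' v pt u

theorem link_apply (u : U) (v : U') (y : W) :
    link hF hF' u v y = hF.ev u (pt' v (hF'.ev v (pt u y))) := rfl

include hF' in
theorem cross_eq_zero_of_adj {u : U} {v : U'} (h : ∀ t, cross hF u pt' v t = 0) (y : W) :
    cross hF' v pt u y = 0 := by
  refine hF'.hC.nondeg _ fun t => ?_
  rw [← cross_adj (hF := hF) (hF' := hF'), h, map_zero]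

/-- a vanishing link has a singular right factor -/
theorem cross_singular (hW : 0 < finrank F W) (hdim : finrank F W' = finrank F W) {u : U} {v : U'} (hu0 : u ≠ 0)
    (hK : link hF hF' u v = 0) : ¬ Function.Injective (cross hF' v pt u) := by
  intro hinj
  have hsurj : Function.Surjective (cross hF' v pt u) :=
    (LinearMap.injective_iff_surjective_of_finrank_eq_finrank hdim.symm).1 hinj
  have h0 : ∀ y, cross hF' v pt u y = 0 := cross_eq_zero_of_adj fun t => by
    obtain ⟨y, rfl⟩ := hsurj t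
    exact LinearMap.congr_fun hK y
  haveI : Nontrivial W := Module.nontrivial_of_finrank_pos hW
  obtain ⟨y, hy⟩ := exists_ne (0 : W)
  exact hy (hinj ((h0 y).trans (map_zero _).symm))

/-- a scalar operator factoring through a singular one vanishes -/
theorem zero_of_singular {Z : Type*} [AddCommGroup Z] [Module F Z] {Q : W →ₗ[F] Z} (hQ : ¬ Function.Injective Q)
    (X : Z →ₗ[F] W) (Y : W →ₗ[F] W) {φ : F} (h : ∀ w, X (Q (Y w)) = φ • w) : φ = 0 := by
  by_contra h0
  have hY : Function.Injective Y := fun a b e => smul_right_injective W h0 (by simp only [← h, e])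
  refine hQ fun a b e => ?_
  obtain ⟨a, rfl⟩ := LinearMap.injective_iff_surjective.1 hY a
  obtain ⟨b, rfl⟩ := LinearMap.injective_iff_surjective.1 hY b
  rw [show a = b from smul_right_injective W h0 (by simp only [← h, e])]

/-- the element adds a multiple of the contraction along one pure subspace -/
def IsOne (hF' : Frame B A' C' pt') (v : U') (β : F) (h : V ≃ₗ[F] V) : Prop :=
  ∀ z, h z = z + β • pt' v (hF'.ev v z)

theorem isOne_lt {v : U'} (hv : A' v v = 0) (c : F) : IsOne hF' v c (hF'.lt v c) := fun z => hF'.lt_apply hv c z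

theorem IsOne.inv_apply {v : U'} {β : F} {h : V ≃ₗ[F] V} (h1 : IsOne hF' v β h)
    (hi : ∀ z z', B (h z) (h z') = B z z') (z : V) : h⁻¹ z = z + σ β • pt' v (hF'.ev v z) := by
  refine sub_eq_zero.1 (hF'.hB.nondeg _ fun x => (Herm.eq_zero_comm hF'.hB).1 ?_)
  rw [map_sub, sub_eq_zero, ← hi x (h⁻¹ z), apply_inv, h1 x, map_add, LinearMap.add_apply, map_add,
    map_smulₛₗ, LinearMap.smul_apply, map_smul, hF'.B_pt v x, ← hF'.C_ev v z]

namespace Rigid

variable (hR : Rigid hF H) (hdim : finrank F W' = finrank F W)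
include hR hdim

/-- a vanishing link gives a centraliser of the transvection group -/
theorem comm_of_zero {u : U} (hu0 : u ≠ 0) (hu : A u u = 0) {v : U'} {β : F} (hβ : β ≠ 0)
    (hβε : σ (1 + β * A' v v) = 1 + β * A' v v → β * A' v v = 0)
    {h : V ≃ₗ[F] V} (hh : h ∈ H) (h1 : IsOne hF' v β h) (hK : link hF hF' u v = 0) :
    (∀ y, h (pt u y) ∈ LinearMap.range (pt u)) ∧ ∀ c, c + σ c = 0 → h * hF.lt u c = hF.lt u c * h := by
  have hA := hF.hA
  have hi := hR.iso h hh
  obtain ⟨f, -, huf, hfu⟩ := exists_iso_partner hA hu0 hu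
  have hQ := cross_singular hR.posW hdim hu0 hK
  have hK' : ∀ y, hF.ev u (pt' v (hF'.ev v (pt u y))) = 0 := fun y => LinearMap.congr_fun hK y
  obtain ⟨c₀, hc0, hc⟩ := Herm.exists_skew hA.toIsInvol
  have hc' : c₀ + σ c₀ = 0 := by rw [hc, add_neg_cancel]
  set x' := h * hF.lt u c₀ * h⁻¹ with hx'
  have hx'm : x' ∈ H := mul_mem (mul_mem hh (hR.toSlot.lt_mem hu hc')) (inv_mem hh)
  have hx : ∀ z, x' z = z + c₀ • h (pt u (hF.ev u (h⁻¹ z))) := fun z => by
    rw [hx', LinearEquiv.mul_apply, LinearEquiv.mul_apply, hF.lt_apply hu, map_add, apply_inv, map_smul]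
  have hev : ∀ z, hF.ev u (h⁻¹ z) = hF.ev u z + σ β • cross hF u pt' v (hF'.ev v z) := fun z => by
    rw [h1.inv_apply hi, map_add, map_smul]
    rfl
  have hfix : ∀ y, x' (pt u y) = pt u y := fun y => by
    rw [hx, hev, hF.ev_pt, hu, zero_smul, zero_add, cross_apply, hK', smul_zero, map_zero, map_zero, smul_zero,
      add_zero]
  have htr : ∀ z, hF.ev u z = 0 → x' z - z ∈ LinearMap.range (pt u) := fun z hz => by
    refine triv_of_blocks (x'.toLinearMap - LinearMap.id) hu0 hu (fun d c w hd hc => ?_) hz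
    obtain ⟨φ, hφ⟩ := hR.stab_block hu0 hu hx'm (a := LinearMap.id) hfix hd hc
    have hdu : A d u = 0 := (Herm.eq_zero_comm hA).1 hd
    let X : W' →ₗ[F] W := hF.ev d ∘ₗ pt' v
    let Y : W →ₗ[F] W := cross hF u pt' v ∘ₗ hF'.ev v ∘ₗ pt c
    have key : ∀ w, hF.ev d (x' (pt c w)) = A d c • w + (c₀ * σ β * β) • X (cross hF' v pt u (Y w)) := fun w => by
      rw [hx, hev, hF.ev_pt, hc, zero_smul, zero_add, map_smul (pt u), map_smul h, h1]
      simp only [map_add, map_smul, hF.ev_pt, hdu, zero_smul, zero_add, smul_smul, X, Y, cross_apply,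
        LinearMap.comp_apply, mul_assoc]
    show hF.ev d (x' (pt c w) - pt c w) = 0
    have hz : φ - A d c = 0 := zero_of_singular hQ ((c₀ * σ β * β) • X) Y fun w => by
      rw [LinearMap.smul_apply, sub_smul, eq_sub_iff_add_eq, add_comm, ← key]
      exact hφ w
    rw [map_sub, hF.ev_pt, hφ, sub_eq_zero.1 hz, LinearMap.id_apply, sub_self]
  have hη : ∀ d w, A u d = 0 → hF.ev d (x' (pt f w) - pt f w) = 0 := fun d w hd => by
    obtain ⟨φ, hφ⟩ := hR.eta_scalar hu0 hu hx'm (ν := 1) (fun y => by rw [hfix, one_smul]) htr huf hd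
    have hdu : A d u = 0 := (Herm.eq_zero_comm hA).1 hd
    let X : W' →ₗ[F] W := hF.ev d ∘ₗ pt' v
    let Y : W →ₗ[F] W := LinearMap.id + σ β • (cross hF u pt' v ∘ₗ hF'.ev v ∘ₗ pt f)
    have key : ∀ w, hF.ev d (x' (pt f w)) = A d f • w + (c₀ * β) • X (cross hF' v pt u (Y w)) := fun w => by
      rw [hx, hev, hF.ev_pt, huf, one_smul, h1]
      simp only [map_add, map_smul, hF.ev_pt, hdu, zero_smul, smul_zero, zero_add, smul_add, smul_smul, X, Y, cross_apply,
        LinearMap.comp_apply, LinearMap.add_apply, LinearMap.id_apply, LinearMap.smul_apply, mul_assoc]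
    have hz : φ - A d f = 0 := zero_of_singular hQ ((c₀ * β) • X) Y fun w => by
      rw [LinearMap.smul_apply, sub_smul, eq_sub_iff_add_eq, add_comm, ← key]
      exact hφ w
    rw [map_sub, hF.ev_pt, hφ, sub_eq_zero.1 hz, sub_self]
  obtain ⟨c', -, hlt⟩ := hR.eq_lt hu0 hu hx'm hfix htr huf hη
  have hmem : ∀ y, h (pt u y) ∈ LinearMap.range (pt u) := fun y => by
    have e := LinearEquiv.congr_fun hlt (h (pt f y))
    rw [hx, hF.lt_apply hu, inv_apply, hF.ev_pt, huf, one_smul, add_right_inj] at e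
    rw [← inv_smul_smul₀ hc0 (h (pt u y)), e, smul_smul]
    exact Submodule.smul_mem _ _ ⟨_, rfl⟩
  refine ⟨hmem, fun c hc => ?_⟩
  -- the action on `u ⊗ W`
  set a : W →ₗ[F] W := hF.ev f ∘ₗ h.toLinearMap ∘ₗ pt u with had
  have ha : ∀ y, h (pt u y) = pt u (a y) := fun y => by
    obtain ⟨p, hp⟩ := hmem y
    rw [had, LinearMap.comp_apply, LinearMap.comp_apply, LinearEquiv.coe_coe, ← hp, hF.ev_pt, hfu, one_smul]
  obtain ⟨μ, hμ0, hμ, h11, h22, hevh⟩ := hR.stab_sq hu0 hu hh ha
  have hμ1 : μ = 1 := by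
    obtain ⟨w, hw, hw0⟩ : ∃ w, cross hF' v pt u w = 0 ∧ w ≠ 0 := by
      by_contra! hall
      exact hQ ((injective_iff_map_eq_zero _).2 hall)
    have haw : a w = w := hF.pt_injective hu0 (by
      rw [← ha, h1, ← cross_apply (hF := hF') v u w, hw, map_zero, smul_zero, add_zero])
    -- `(a - 1)² = β ε (a - 1)`
    have hquad : ∀ y, a (a y) - a y = a y - y + (β * A' v v) • (a y - y) := fun y => hF.pt_injective hu0 (by
      simp only [map_sub, map_add, map_smul, ← ha]
      rw [h1 (pt u y)]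
      simp only [map_add, map_smul, h1 (pt' v _), h1 (pt u y), hF'.ev_pt, smul_add, smul_smul]
      module)
    by_contra hne
    have hne' : μ ≠ 1 + β * A' v v := fun e => hne (by rw [e, hβε (e ▸ hμ), add_zero])
    have hs : Function.Surjective (fun y => a y - μ • y) := fun y => by
      refine ⟨(-((μ - 1) * (μ - 1 - β * A' v v)))⁻¹ • (a y - y + (μ - 1 - β * A' v v) • y), ?_⟩
      have hne0 : -((μ - 1) * (μ - 1 - β * A' v v)) ≠ 0 :=
        neg_ne_zero.2 (mul_ne_zero (sub_ne_zero.2 hne) (sub_ne_zero.2 fun e => hne' (by linear_combination e)))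
      simp only [map_smul, map_add, map_sub]
      rw [eq_comm, smul_comm μ, ← smul_sub, eq_inv_smul_iff₀ hne0]
      linear_combination (norm := module) -(hquad y)
    refine hw0 (hF.hC.nondeg _ fun y => ?_)
    obtain ⟨y', hy'⟩ := hs y
    rw [← hy', map_sub, map_smul, smul_eq_mul]
    calc C w (a y') - μ * C w y' = C (a w) (a y') - μ * C w y' := by rw [haw]
      _ = 0 := by rw [← hF.C_adj, h22, map_smul, smul_eq_mul, sub_self]
  refine LinearEquiv.ext fun z => ?_
  rw [LinearEquiv.mul_apply, LinearEquiv.mul_apply, hF.lt_apply hu, hF.lt_apply hu, map_add, map_smul, ha, hevh, hμ1,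
    inv_one, one_smul]

omit hdim

/-- square-zero links vanish over fields with three fixed elements -/
theorem zero_of_sq_zero (hR' : Slot hF' H) (hdim : finrank F W' = finrank F W) {k₁ : F} (hk : σ k₁ = k₁) (hk0 : k₁ ≠ 0)
    (hk1 : k₁ ≠ 1) {u : U} (hu0 : u ≠ 0) (hu : A u u = 0) {v : U'} (hv : A' v v = 0)
    (hK2 : ∀ y, link hF hF' u v (link hF hF' u v y) = 0) : link hF hF' u v = 0 := by
  classical
  obtain ⟨f, -, huf, hfu⟩ := exists_iso_partner hF.hA hu0 hu
  obtain ⟨d, hd0, hd⟩ := Herm.exists_skew hF.hA.toIsInvol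
  set K := link hF hF' u v
  set φ : W →ₗ[F] W := hF.ev f ∘ₗ pt' v ∘ₗ cross hF' v pt u ∘ₗ K
  have hd' : d + σ d = 0 := by rw [hd, add_neg_cancel]
  -- the stabilisers
  have hy : ∀ b d : F, b ≠ 0 → b + σ b = 0 → d ≠ 0 → d + σ d = 0 →
      (∀ y, pt' v (cross hF' v pt u (K y)) = pt u (φ y)) ∧ ∃ h ∈ H,
      (∀ y, h (pt u y) = pt u (y + (b * σ d) • K y + (b * σ d * d) • φ y)) ∧
      ∀ z, hF.ev u z = 0 → h z - z - (b * σ d * d) • pt' v (cross hF' v pt u (cross hF u pt' v (hF'.ev v z)))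
        ∈ LinearMap.range (pt u) := by
    intro b d hb0 hb hd0 hd
    set g := hF'.lt v d
    have hg : g ∈ H := hR'.lt_mem hv hd
    have hgi := hR.iso g hg
    set y₁ := g * hF.lt u b * g⁻¹
    have hy₁ : y₁ ∈ H := mul_mem (mul_mem hg (hR.toSlot.lt_mem hu hb)) (inv_mem hg)
    have hg1 : IsOne hF' v d g := isOne_lt hv d
    have hgev : ∀ z, hF.ev u (g⁻¹ z) = hF.ev u z + σ d • cross hF u pt' v (hF'.ev v z) := fun z => by
      rw [hg1.inv_apply hgi, map_add, map_smul]
      rfl
    have hgu : ∀ y, g (pt u y) = pt u y + d • pt' v (cross hF' v pt u y) := fun y => hg1 _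
    have heq : ∀ z, y₁ z = z + b • g (pt u (hF.ev u (g⁻¹ z))) := fun z => by
      rw [LinearEquiv.mul_apply, LinearEquiv.mul_apply, hF.lt_apply hu, map_add, apply_inv, map_smul]
    have h1 : IsOne (frame_map hF hgi) u b y₁ := fun z => by
      rw [heq, frame_map_ev hF hgi]
      rfl
    have hlink : link hF (frame_map hF hgi) u u = 0 := LinearMap.ext fun y => by
      rw [link_apply, frame_map_ev hF hgi, hgev, hF.ev_pt, hu, zero_smul, zero_add, map_smul]
      show hF.ev u (σ d • g (pt u (K y))) = 0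
      rw [map_smul, hgu, map_add, hF.ev_pt, hu, zero_smul, zero_add, map_smul]
      show σ d • d • K (K y) = 0
      rw [hK2, smul_zero, smul_zero]
    obtain ⟨hmem, -⟩ := hR.comm_of_zero rfl hu0 hu hb0 (fun _ => by rw [hu, mul_zero]) hy₁ h1 hlink
    have hraw : ∀ y, y₁ (pt u y) =
        pt u (y + (b * σ d) • K y) + (b * σ d * d) • pt' v (cross hF' v pt u (K y)) := fun y => by
      rw [heq, hgev, hF.ev_pt, hu, zero_smul, zero_add]
      simp only [map_smul, hgu, map_add, smul_add, smul_smul, link, LinearMap.comp_apply, K, cross_apply]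
      module
    have hjφ : ∀ y, pt' v (cross hF' v pt u (K y)) = pt u (φ y) := fun y => by
      obtain ⟨p, hp⟩ := hmem y
      have e := hraw y
      rw [← hp] at e
      have hne : b * σ d * d ≠ 0 := mul_ne_zero (mul_ne_zero hb0 ((map_ne_zero σ).2 hd0)) hd0
      have e' : pt' v (cross hF' v pt u (K y)) = pt u ((b * σ d * d)⁻¹ • (p - (y + (b * σ d) • K y))) := by
        rw [map_smul, map_sub, e, add_sub_cancel_left, inv_smul_smul₀ hne]
      show pt' v (cross hF' v pt u (K y)) = pt u (hF.ev f (pt' v (cross hF' v pt u (K y))))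
      rw [e', hF.ev_pt, hfu, one_smul]
    refine ⟨hjφ, y₁, hy₁, fun y => by rw [hraw, hjφ, map_add (pt u) _ ((b * σ d * d) • φ y), map_smul (pt u) _ (φ y)],
      fun z hz => ?_⟩
    refine ⟨(b * σ d) • cross hF u pt' v (hF'.ev v z), ?_⟩
    rw [heq, hgev, hz, zero_add]
    simp only [map_smul, hgu, smul_add, smul_smul]
    module
  obtain ⟨hjφ, h₁, hh₁, ha₁, hq₁⟩ := hy d d hd0 hd' hd0 hd'
  have hkd : k₁ * d ≠ 0 := mul_ne_zero hk0 hd0
  have hkd' : k₁ * d + σ (k₁ * d) = 0 := by rw [map_mul, hk]; linear_combination k₁ * hd'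
  have hb2 : d / (k₁ * k₁) ≠ 0 := div_ne_zero hd0 (mul_ne_zero hk0 hk0)
  obtain ⟨-, h₂, hh₂, ha₂, hq₂⟩ := hy (d / (k₁ * k₁)) (k₁ * d) hb2
    (by rw [map_div₀, map_mul, hk]; field_simp; linear_combination hd') hkd hkd'
  have hU : d / (k₁ * k₁) * σ (k₁ * d) * (k₁ * d) = d * σ d * d := by rw [map_mul, hk]; field_simp
  obtain ⟨c, hc⟩ := hR.two_stab hu0 hu hh₁ hh₂
    (a₁ := LinearMap.id + (d * σ d) • K + (d * σ d * d) • φ)
    (a₂ := LinearMap.id + (d / (k₁ * k₁) * σ (k₁ * d)) • K + (d * σ d * d) • φ)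
    (fun y => by rw [ha₁]; rfl) (fun y => by rw [ha₂, hU]; rfl) (fun z hz => by
      have h2 := hq₂ z hz
      rw [hU] at h2
      have := sub_mem h2 (hq₁ z hz)
      rwa [show h₂ z - z - (d * σ d * d) • pt' v (cross hF' v pt u (cross hF u pt' v (hF'.ev v z))) -
        (h₁ z - z - (d * σ d * d) • pt' v (cross hF' v pt u (cross hF u pt' v (hF'.ev v z)))) = h₂ z - h₁ z by abel]
        at this)
  have hKφ : ∀ y, K (φ y) = 0 := fun y => by
    have := congrArg (hF'.ev v) (hjφ y)
    rw [hF'.ev_pt, hv, zero_smul] at this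
    show cross hF u pt' v (cross hF' v pt u (φ y)) = 0
    rw [cross_apply (hF := hF') v u, ← this, map_zero]
  by_contra hne
  obtain ⟨w, hw⟩ : ∃ w, K w ≠ 0 := by
    by_contra! h
    exact hne (LinearMap.ext h)
  have hc1 : c = 1 := by
    have h2 := congrArg K (hc w)
    simp only [LinearMap.add_apply, LinearMap.id_apply, LinearMap.smul_apply, map_add, map_smul, hK2, hKφ,
      smul_zero, add_zero] at h2
    exact (sub_eq_zero.1 ((smul_eq_zero.1 (show (c - 1) • K w = 0 by
      rw [sub_smul, one_smul, ← h2, sub_self])).resolve_right hw))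
  have h3 := hc w
  simp only [hc1, one_smul, LinearMap.add_apply, LinearMap.id_apply, LinearMap.smul_apply, add_left_inj,
    add_right_inj] at h3
  have h4 : d / (k₁ * k₁) * σ (k₁ * d) = d * σ d := sub_eq_zero.1 ((smul_eq_zero.1
    (show (d / (k₁ * k₁) * σ (k₁ * d) - d * σ d) • K w = 0 by rw [sub_smul, h3, sub_self])).resolve_right hw)
  rw [map_mul, hk] at h4
  field_simp at h4
  exact hk1 (mul_right_cancel₀ ((map_ne_zero σ).2 hd0) (by linear_combination -h4))

end Rigid

end Cfsg.Agent.ClassicalMax.UnWreath
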