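import Cfsg.Agent.ClassicalMax.UnWreath.Group
import Cfsg.Agent.ClassicalMax.UnWreath.Pair

/-!
Two pure subspaces moved by transvection groups: over fields with more than two fixed elements the link is zero or
invertible, and in the second case the second subspace lies in a plane of the first factor times `W`.
-/

set_option autoImplicit false
set_option linter.unusedSectionVars false
set_option linter.style.haveILetI false

namespace Cfsg.Agent.ClassicalMax.UnWreath

open Module Cfsg.Agent.Classical Cfsg.Agent.ClassicalMax Cfsg.Agent.ClassicalMax.UnTensor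

variable {F U W U' W' V : Type*} [Field F] [Finite F] [AddCommGroup U] [Module F U] [AddCommGroup W] [Module F W]
  [AddCommGroup U'] [Module F U'] [AddCommGroup W'] [Module F W']
  [AddCommGroup V] [Module F V] [FiniteDimensional F U] [FiniteDimensional F W] [FiniteDimensional F V]
  [FiniteDimensional F U'] [FiniteDimensional F W']
  {σ : F →+* F} {B : V →ₛₗ[σ] V →ₗ[F] F} {A : U →ₛₗ[σ] U →ₗ[F] F} {C : W →ₛₗ[σ] W →ₗ[F] F}
  {A' : U' →ₛₗ[σ] U' →ₗ[F] F} {C' : W' →ₛₗ[σ] W' →ₗ[F] F}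
  {pt : U →ₗ[F] W →ₗ[F] V} {pt' : U' →ₗ[F] W' →ₗ[F] V} {hF : Frame B A C pt} {hF' : Frame B A' C' pt'}
  {H : Subgroup (V ≃ₗ[F] V)}

/-- the subspace lies in a hyperbolic plane times `W` -/
def Plane (A : U →ₛₗ[σ] U →ₗ[F] F) (pt : U →ₗ[F] W →ₗ[F] V) (u : U) (pt' : U' →ₗ[F] W' →ₗ[F] V) (v : U') : Prop :=
  ∃ e, A u e ≠ 0 ∧ ∀ t, ∃ a b, pt' v t = pt u a + pt e b

/-- the compression of a map to `u ⊗ W` -/
noncomputable def comp1 (hF : Frame B A C pt) (u : U) (g : V ≃ₗ[F] V) : Module.End F W :=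
  hF.ev u ∘ₗ g.toLinearMap ∘ₗ pt u

theorem comp1_apply (u : U) (g : V ≃ₗ[F] V) (y : W) : comp1 hF u g y = hF.ev u (g (pt u y)) := rfl

theorem link_map {g : V ≃ₗ[F] V} (hg : ∀ z z', B (g z) (g z') = B z z') (u : U) :
    link hF (frame_map hF hg) u u = comp1 hF u g * comp1 hF u g⁻¹ := LinearMap.ext fun y => by
  rw [link_apply, frame_map_ev hF hg]
  rfl

/-- conjugating the transvection group by a compressed element squares the compressions -/
theorem comp1_conj {u : U} (hu : A u u = 0) {g : V ≃ₗ[F] V} (d : F) :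
    comp1 hF u (g * hF.lt u d * g⁻¹) = d • (comp1 hF u g * comp1 hF u g⁻¹) ∧
      comp1 hF u (g * hF.lt u d * g⁻¹)⁻¹ = (-d) • (comp1 hF u g * comp1 hF u g⁻¹) := by
  have key : ∀ d : F, comp1 hF u (g * hF.lt u d * g⁻¹) = d • (comp1 hF u g * comp1 hF u g⁻¹) := fun d =>
    LinearMap.ext fun y => by
      rw [comp1_apply, LinearEquiv.mul_apply, LinearEquiv.mul_apply, hF.lt_apply hu, map_add, apply_inv, map_smul,
        map_add, map_smul, hF.ev_pt, hu, zero_smul, zero_add]
      rfl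
  refine ⟨key d, ?_⟩
  rw [← key (-d)]
  congr 1
  have hlt : (hF.lt u d)⁻¹ = hF.lt u (-d) := by
    rw [Frame.lt, Frame.lt, hF.rad_inv hu, neg_smul]
  rw [mul_inv_rev, mul_inv_rev, inv_inv, hlt, mul_assoc]

theorem comp1_lt {u : U} {v : U'} (hu : A u u = 0) (hv : A' v v = 0) (d : F) :
    comp1 hF u (hF'.lt v d) = d • link hF hF' u v ∧ comp1 hF u (hF'.lt v d)⁻¹ = (-d) • link hF hF' u v := by
  have key : ∀ d : F, comp1 hF u (hF'.lt v d) = d • link hF hF' u v := fun d => LinearMap.ext fun y => by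
    rw [comp1_apply, hF'.lt_apply hv, map_add, map_smul, hF.ev_pt, hu, zero_smul, zero_add]
    rfl
  refine ⟨key d, ?_⟩
  rw [← key (-d), Frame.lt, Frame.lt, hF'.rad_inv hv, neg_smul]

/-- the group generated by two sets of maps moving only into `M` -/
theorem move_into {M : Submodule F V} {S : Set (V ≃ₗ[F] V)} (hS : ∀ g ∈ S, ∀ z, g z - z ∈ M) {g : V ≃ₗ[F] V}
    (hg : g ∈ Subgroup.closure S) (z : V) : g z - z ∈ M := by
  induction hg using Subgroup.closure_induction generalizing z with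
  | mem g hg => exact hS g hg z
  | one => rw [show (1 : V ≃ₗ[F] V) z = z from rfl, sub_self]; exact M.zero_mem
  | mul g h _ _ ihg ihh =>
    rw [LinearEquiv.mul_apply, show g (h z) - z = (g (h z) - h z) + (h z - z) by abel]
    exact M.add_mem (ihg _) (ihh _)
  | inv g _ ih =>
    have := M.neg_mem (ih (g⁻¹ z))
    rwa [apply_inv, neg_sub] at this

namespace Rigid

variable (hR : Rigid hF H) (hdim : finrank F W' = finrank F W) {u : U} (hu0 : u ≠ 0) (hu : A u u = 0) {v : U'}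
include hR hdim hu0 hu

/-- in the group moving only into the two subspaces, a stabiliser is a transvection unless there is a plane -/
theorem plane_or_stab (hv0 : v ≠ 0) (hF' : Frame B A' C' pt') (hstar : ∀ t, hF.ev u (pt' v t) = 0 → pt' v t ∈ LinearMap.range (pt u))
    {G : Subgroup (V ≃ₗ[F] V)} (hGH : G ≤ H)
    (hGM : ∀ g ∈ G, ∀ z, g z - z ∈ LinearMap.range (pt u) ⊔ LinearMap.range (pt' v)) :
    (Plane A pt u pt' v ∧ Function.Injective (cross hF u pt' v)) ∨
      ∀ h ∈ G, (∀ y, h (pt u y) ∈ LinearMap.range (pt u)) → ∃ c, c + σ c = 0 ∧ h = hF.lt u c := by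
  refine or_iff_not_imp_left.2 fun hne h hh hmem => ?_
  have hA := hF.hA
  have hhH := hGH hh
  obtain ⟨f, -, huf, hfu⟩ := exists_iso_partner hA hu0 hu
  set M := LinearMap.range (pt u) ⊔ LinearMap.range (pt' v) with hM
  have hMu : ∀ z ∈ M, hF.ev u z = 0 → z ∈ LinearMap.range (pt u) := fun z hz hz0 => by
    obtain ⟨a, ⟨y, rfl⟩, b, ⟨t, rfl⟩, rfl⟩ := Submodule.mem_sup.1 hz
    rw [map_add, hF.ev_pt, hu, zero_smul, zero_add] at hz0
    exact add_mem ⟨y, rfl⟩ (hstar t hz0)
  set a : W →ₗ[F] W := hF.ev f ∘ₗ h.toLinearMap ∘ₗ pt u with had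
  have ha : ∀ y, h (pt u y) = pt u (a y) := fun y => by
    obtain ⟨p, hp⟩ := hmem y
    rw [had, LinearMap.comp_apply, LinearMap.comp_apply, LinearEquiv.coe_coe, ← hp, hF.ev_pt, hfu, one_smul]
  obtain ⟨μ, -, -, -, h22, hev⟩ := hR.stab_sq hu0 hu hhH ha
  have htr : ∀ z, hF.ev u z = 0 → h z - z ∈ LinearMap.range (pt u) := fun z hz =>
    hMu _ (hGM h hh z) (by rw [map_sub, hev, hz, map_zero, smul_zero, sub_zero])
  obtain ⟨ν, hν0, hν⟩ := hR.triv_scalar hu0 hu hhH ha htr
  have hνu : ∀ y, h (pt u y) = ν • pt u y := fun y => by rw [ha, hν, map_smul]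
  haveI : NeZero (finrank F W) := ⟨by have := hR.posW; omega⟩
  set w₀ := hF.onb 0 with hw₀
  have h00 : C w₀ w₀ = 1 := by rw [hw₀, hF.onb_spec, if_pos rfl]
  set v₀ := hF.swap.ev w₀ (h (pt f w₀) - pt f w₀) with hv₀def
  have hv₀ : ∀ d, A d v₀ = C w₀ (hF.ev d (h (pt f w₀) - pt f w₀)) := fun d => by
    rw [hv₀def, hF.swap.C_ev, hF.C_ev]
    rfl
  have hvM : ∀ w, pt v₀ w ∈ M := fun w => by
    have hmem' : h (pt f w) - pt f w - pt v₀ w ∈ LinearMap.range (pt u) := hF.mem_R hu0 fun d hd => by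
      have hud := (Herm.eq_zero_comm hA).1 hd
      obtain ⟨φ, hφ⟩ := hR.eta_scalar hu0 hu hhH hνu htr huf hud
      rw [map_sub, map_sub, hF.ev_pt, hF.ev_pt, hφ, hv₀, map_sub (hF.ev d), hφ, hF.ev_pt, map_sub, map_smul, map_smul,
        h00, smul_eq_mul, smul_eq_mul, mul_one, mul_one]
      module
    have := M.sub_mem (hGM h hh (pt f w)) (Submodule.mem_sup_left hmem')
    rwa [sub_sub_cancel] at this
  have hν1 : ν = 1 := by
    by_contra hne1
    refine hne ?_
    have huv₀ : A u v₀ ≠ 0 := by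
      rw [hv₀, map_sub, hev, hF.ev_pt, huf, one_smul, hν, map_sub, map_smul, map_smul, h00, smul_eq_mul, smul_eq_mul,
        mul_one, sub_ne_zero]
      have hμν : μ * 1 = ν * σ ν := by
        have e := congrArg (C w₀) (h22 w₀)
        rw [hF.C_adj, hν] at e
        simp only [map_smulₛₗ, LinearMap.smul_apply, h00, smul_eq_mul, RingHom.id_apply, mul_one] at e
        rw [mul_one, ← e]
      intro e
      rw [mul_one] at hμν
      rw [hμν, mul_inv, mul_right_comm, inv_mul_cancel₀ hν0, one_mul] at e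
      refine hne1 ?_
      have e1 : (σ ν) = 1 := inv_eq_one.1 e
      rw [← hA.invol ν, e1, map_one]
    set N := LinearMap.range (pt u) ⊔ LinearMap.range (pt v₀) with hN
    have hv₀0 : v₀ ≠ 0 := fun e => huv₀ (by rw [e, map_zero])
    have hinf : LinearMap.range (pt u) ⊓ LinearMap.range (pt v₀) = ⊥ := (Submodule.eq_bot_iff _).2 fun z hz => by
      obtain ⟨⟨a, rfl⟩, b, hb⟩ := Submodule.mem_inf.1 hz
      have := congrArg (hF.ev u) hb
      rw [hF.ev_pt, hF.ev_pt, hu, zero_smul, smul_eq_zero] at this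
      rw [← hb, this.resolve_left huv₀, map_zero]
    have hdN : finrank F N = 2 * finrank F W := by
      have := Submodule.finrank_sup_add_finrank_inf_eq (LinearMap.range (pt u)) (LinearMap.range (pt v₀))
      rw [hinf, finrank_bot, hF.finrank_R hu0, hF.finrank_R hv₀0] at this
      rw [hN]
      omega
    have hdM : finrank F M + finrank F ↥(LinearMap.range (pt u) ⊓ LinearMap.range (pt' v)) = 2 * finrank F W := by
      have := Submodule.finrank_sup_add_finrank_inf_eq (LinearMap.range (pt u)) (LinearMap.range (pt' v))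
      rw [hF.finrank_R hu0, hF'.finrank_R hv0, hdim] at this
      rw [hM]
      omega
    have hNM : N ≤ M := sup_le le_sup_left (by rintro _ ⟨w, rfl⟩; exact hvM w)
    have hle := Submodule.finrank_mono hNM
    have heq : N = M := Submodule.eq_of_le_of_finrank_le hNM (by omega)
    refine ⟨⟨v₀, huv₀, fun t => ?_⟩, (injective_iff_map_eq_zero _).2 fun t ht => ?_⟩
    · obtain ⟨a, ⟨y, rfl⟩, b, ⟨w, rfl⟩, e⟩ := Submodule.mem_sup.1
        (heq ▸ Submodule.mem_sup_right ⟨t, rfl⟩ : pt' v t ∈ N)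
      exact ⟨y, w, e.symm⟩
    · have h0 : finrank F ↥(LinearMap.range (pt u) ⊓ LinearMap.range (pt' v)) = 0 := by
        rw [heq] at hdN; omega
      rw [Submodule.finrank_eq_zero] at h0
      have hz : pt' v t ∈ LinearMap.range (pt u) ⊓ LinearMap.range (pt' v) :=
        Submodule.mem_inf.2 ⟨hstar t ht, t, rfl⟩
      rw [h0, Submodule.mem_bot] at hz
      exact hF'.pt_injective hv0 (hz.trans (map_zero _).symm)
  refine hR.eq_lt hu0 hu hhH (fun y => by rw [hνu, hν1, one_smul]) htr huf fun d w hd => ?_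
  have hdu := (Herm.eq_zero_comm hA).1 hd
  obtain ⟨φ, hφ⟩ := hR.eta_scalar hu0 hu hhH hνu htr huf hd
  have hz : pt v₀ w₀ ∈ LinearMap.range (pt u) := hMu _ (hvM w₀) (by
    rw [hF.ev_pt, hv₀, map_sub, hev, hF.ev_pt, huf, one_smul, hν, hν1, one_smul]
    have hμ1 : μ = 1 := by
      have e := congrArg (C w₀) (h22 w₀)
      rw [hF.C_adj, hν, hν1, one_smul, map_smul, h00, smul_eq_mul, mul_one] at e
      exact e.symm
    rw [hμ1, inv_one, one_smul, sub_self, map_zero, zero_smul])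
  have h0 := hF.ev_mem_R hdu hz
  rw [hF.ev_pt, hv₀, map_sub (hF.ev d), hφ, hF.ev_pt, map_sub, map_smul, map_smul, h00, smul_eq_mul, smul_eq_mul,
    mul_one, mul_one, smul_eq_zero, sub_eq_zero] at h0
  have hφd := h0.resolve_right (hF.onb.ne_zero 0)
  rw [map_sub, hF.ev_pt, hφ, hφd, sub_self]

omit hdim

/-- a stabiliser-free group has a normal complement to the transvection group -/
theorem exists_compl_lt {p : ℕ} [Fact p.Prime] [CharP F p] {G : Subgroup (V ≃ₗ[F] V)}
    (hX : ∀ c, c + σ c = 0 → hF.lt u c ∈ G)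
    (hstab : ∀ h ∈ G, (∀ y, h (pt u y) ∈ LinearMap.range (pt u)) → ∃ c, c + σ c = 0 ∧ h = hF.lt u c) :
    ∃ X O : Subgroup G, Compl p X O ∧ (∀ g : G, g ∈ X ↔ ∃ c, c + σ c = 0 ∧ (g : V ≃ₗ[F] V) = hF.lt u c) := by
  haveI : Finite V := Module.finite_of_finite F
  haveI : Finite (V ≃ₗ[F] V) := Finite.of_injective _ DFunLike.coe_injective
  have hltadd : ∀ c d, hF.lt u c * hF.lt u d = hF.lt u (c + d) := fun c d => by
    rw [Frame.lt, Frame.lt, Frame.lt, hF.rad_add hu, add_smul]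
  have hlt0 : hF.lt u 0 = 1 := by rw [Frame.lt, zero_smul, hF.rad_zero hu]
  let X : Subgroup G :=
    { carrier := {g | ∃ c, c + σ c = 0 ∧ (g : V ≃ₗ[F] V) = hF.lt u c}
      one_mem' := ⟨0, by simp, by rw [hlt0]; rfl⟩
      mul_mem' := fun {g g'} ⟨c, hc, e⟩ ⟨c', hc', e'⟩ => ⟨c + c', by rw [map_add]; linear_combination hc + hc', by
        rw [Subgroup.coe_mul, e, e', hltadd]⟩
      inv_mem' := fun {g} ⟨c, hc, e⟩ => ⟨-c, by rw [map_neg]; linear_combination -hc, by
        rw [Subgroup.coe_inv, e]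
        exact inv_eq_of_mul_eq_one_right (by rw [hltadd, add_neg_cancel, hlt0])⟩ }
  have hpow : ∀ (c : F) (n : ℕ), (hF.lt u c) ^ n = hF.lt u ((n : F) * c) := fun c n => by
    induction n with
    | zero => rw [pow_zero, Nat.cast_zero, zero_mul, hlt0]
    | succ n ih => rw [pow_succ, ih, hltadd]; congr 1; push_cast; ring
  have hXp : IsPGroup p X := by
    rintro ⟨g, c, hc, e⟩
    refine ⟨1, Subtype.ext (Subtype.ext ?_)⟩
    rw [pow_one, Subgroup.coe_pow, Subgroup.coe_pow, Subgroup.coe_one, Subgroup.coe_one, e, hpow, CharP.cast_eq_zero,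
      zero_mul, hlt0]
  obtain ⟨c₀, hc0, hc⟩ := Herm.exists_skew hF.hA.toIsInvol
  have hc' : c₀ + σ c₀ = 0 := by rw [hc, add_neg_cancel]
  haveI : Nontrivial W := Module.nontrivial_of_finrank_pos hR.posW
  obtain ⟨f, -, huf, -⟩ := exists_iso_partner hF.hA hu0 hu
  have hinj : ∀ c, hF.lt u c = 1 → c = 0 := fun c e => by
    obtain ⟨y, hy⟩ := exists_ne (0 : W)
    have := LinearEquiv.congr_fun e (pt f y)
    rw [hF.lt_apply hu, hF.ev_pt, huf, one_smul] at this
    exact (smul_eq_zero.1 (add_eq_left.1 this)).resolve_right fun h0 =>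
      hy (hF.pt_injective hu0 (h0.trans (map_zero _).symm))
  have hne : X ≠ ⊥ := fun h => hc0 (hinj c₀ (by
    have : (⟨_, hX c₀ hc'⟩ : G) ∈ X := ⟨c₀, hc', rfl⟩
    rw [h, Subgroup.mem_bot] at this
    exact congrArg Subtype.val this))
  obtain ⟨O, hO⟩ := exists_compl (p := p) X hXp hne (fun a ⟨c, hc, e⟩ b ⟨c', hc', e'⟩ => Subtype.ext (by
      rw [Subgroup.coe_mul, Subgroup.coe_mul, e, e', hltadd, hltadd, add_comm])) (by
    rintro x ⟨c, hc, e⟩ hx1 g ⟨c', hc', e'⟩
    refine hstab g g.2 fun y => ?_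
    have hc0' : c ≠ 0 := fun h => hx1 (Subtype.ext (by rw [e, h, hlt0]; rfl))
    obtain ⟨z, hz⟩ := hF.ev_surjective hu0 y
    have h1 := LinearEquiv.congr_fun e' ((g : V ≃ₗ[F] V) z)
    rw [Subgroup.coe_mul, Subgroup.coe_mul, Subgroup.coe_inv, LinearEquiv.mul_apply, LinearEquiv.mul_apply, inv_apply,
      e, hF.lt_apply hu, hF.lt_apply hu, map_add, map_smul, hz, add_right_inj] at h1
    rw [← inv_smul_smul₀ hc0' ((g : V ≃ₗ[F] V) (pt u y)), h1]
    exact Submodule.smul_mem _ _ (Submodule.smul_mem _ _ ⟨_, rfl⟩))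
  exact ⟨X, O, hO, fun g => Iff.rfl⟩

include hdim in
/-- a link with non-zero square and a small overlap puts the second subspace in a plane -/
theorem plane_of_link (hR' : Slot hF' H) (hv0 : v ≠ 0) (hv : A' v v = 0) {k₁ : F} (hk : σ k₁ = k₁) (hk0 : k₁ ≠ 0)
    (hk1 : k₁ ≠ 1) (hstar : ∀ t, hF.ev u (pt' v t) = 0 → pt' v t ∈ LinearMap.range (pt u))
    (hK : ∃ y, link hF hF' u v (link hF hF' u v y) ≠ 0) :
    Plane A pt u pt' v ∧ Function.Injective (link hF hF' u v) := by
  classical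
  have hinj : Function.Injective (cross hF u pt' v) → Function.Injective (link hF hF' u v) := fun hP => by
    have hPs := (LinearMap.injective_iff_surjective_of_finrank_eq_finrank hdim).1 hP
    refine (injective_iff_map_eq_zero _).2 fun y hy => hF.hC.nondeg y fun w => ?_
    obtain ⟨t, rfl⟩ := hPs w
    have hy' : cross hF' v pt u y = 0 := hP (hy.trans (map_zero _).symm)
    rw [cross_adj (hF := hF) (hF' := hF') u v y t, hy', map_zero, LinearMap.zero_apply]
  set S : Set (V ≃ₗ[F] V) := {g | ∃ c, c + σ c = 0 ∧ (g = hF.lt u c ∨ g = hF'.lt v c)} with hSdef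
  have hGH : Subgroup.closure S ≤ H := (Subgroup.closure_le _).2 (by
    rintro g ⟨c, hc, rfl | rfl⟩
    · exact hR.toSlot.lt_mem hu hc
    · exact hR'.lt_mem hv hc)
  rcases hR.plane_or_stab hdim hu0 hu hv0 hF' hstar hGH (fun g hg z => move_into (fun g hg z => by
      obtain ⟨c, hc, rfl | rfl⟩ := hg
      · rw [hF.lt_apply hu, add_sub_cancel_left]
        exact Submodule.smul_mem _ _ (Submodule.mem_sup_left ⟨_, rfl⟩)
      · rw [hF'.lt_apply hv, add_sub_cancel_left]
        exact Submodule.smul_mem _ _ (Submodule.mem_sup_right ⟨_, rfl⟩)) hg z) with ⟨hP, hP'⟩ | hstab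
  · exact ⟨hP, hinj hP'⟩
  exfalso
  obtain ⟨p, hp⟩ := CharP.exists F
  haveI : Fact p.Prime := ⟨CharP.char_is_prime F p⟩
  obtain ⟨X, O, hO, hX⟩ := hR.exists_compl_lt hu0 hu (p := p)
    (G := Subgroup.closure S) (fun c hc => Subgroup.subset_closure ⟨c, hc, Or.inl rfl⟩) hstab
  obtain ⟨b, hb0, hb⟩ := Herm.exists_skew hF.hA.toIsInvol
  have hb' : b + σ b = 0 := by rw [hb, add_neg_cancel]
  let yG : Subgroup.closure S := ⟨hF'.lt v b, Subgroup.subset_closure ⟨b, hb', Or.inr rfl⟩⟩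
  obtain ⟨o, ho, x, hx, hyx⟩ := hO.prod yG
  obtain ⟨b', hb'', ex⟩ := (hX x).1 hx
  obtain ⟨a, ha, ha0, hab⟩ : ∃ a, a + σ a = 0 ∧ a ≠ 0 ∧ a + b' ≠ 0 := by
    by_cases h : b + b' = 0
    · refine ⟨k₁ * b, by rw [map_mul, hk]; linear_combination k₁ * hb', mul_ne_zero hk0 hb0, fun e => hk1 ?_⟩
      exact mul_right_cancel₀ hb0 (by linear_combination e - h)
    · exact ⟨b, hb', hb0, h⟩
  let xa : Subgroup.closure S := ⟨hF.lt u a, Subgroup.subset_closure ⟨a, ha, Or.inl rfl⟩⟩
  have hxaX : xa ∈ X := (hX xa).2 ⟨a, ha, rfl⟩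
  have hxe : ((xa * x : Subgroup.closure S) : V ≃ₗ[F] V) = hF.lt u (a + b') := by
    rw [Subgroup.coe_mul, ex]
    show hF.lt u a * hF.lt u b' = _
    rw [Frame.lt, Frame.lt, Frame.lt, hF.rad_add hu, add_smul]
  obtain ⟨y, hy⟩ := hK
  have hxx1 : xa * x ≠ 1 := fun e => by
    obtain ⟨f, -, huf, -⟩ := exists_iso_partner hF.hA hu0 hu
    have h1 := LinearEquiv.congr_fun hxe (pt f y)
    rw [e, hF.lt_apply hu, hF.ev_pt, huf, one_smul] at h1
    change pt f y = _ at h1
    have hy0 : y ≠ 0 := fun h => hy (by rw [h, map_zero, map_zero])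
    exact hy0 (hF.pt_injective hu0 (((smul_eq_zero.1 (left_eq_add.1 h1)).resolve_left hab).trans (map_zero _).symm))
  obtain ⟨w, -, hw⟩ := hO.conj _ (hO.normal.conj_mem o ho xa) (xa * x) (mul_mem hxaX hx) hxx1
  have hprod : xa * o * xa⁻¹ * (xa * x) = xa * yG := by rw [hyx]; group
  have hsq : ∀ z, (hF.lt u a * hF'.lt v b) ((hF.lt u a * hF'.lt v b) z - z) -
      ((hF.lt u a * hF'.lt v b) z - z) = 0 := by
    have e : hF.lt u a * hF'.lt v b = (w : V ≃ₗ[F] V) * hF.lt u (a + b') * (w : V ≃ₗ[F] V)⁻¹ := by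
      rw [← hxe]
      exact congrArg Subtype.val (hprod.symm.trans hw)
    intro z
    rw [e]
    simp only [LinearEquiv.mul_apply, hF.lt_apply hu, map_add, apply_inv, map_smul, inv_apply, map_sub, hF.ev_pt, hu,
      zero_smul, smul_zero, add_zero, add_sub_cancel_left, map_zero, sub_self]
  refine hy ?_
  have h := hsq (pt u y)
  simp only [LinearEquiv.mul_apply, hF.lt_apply hu, hF'.lt_apply hv, map_add, map_smul, hF'.ev_pt, hv, zero_smul,
    smul_zero, add_zero, hF.ev_pt, hu, zero_add, map_sub, add_sub_cancel_left, sub_self] at h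
  have h2 := congrArg (hF.ev u) h
  simp only [map_add, map_sub, map_smul, hF.ev_pt, hu, zero_smul, smul_zero, add_zero, zero_add, map_zero,
    smul_smul] at h2
  show cross hF u pt' v (cross hF' v pt u (cross hF u pt' v (cross hF' v pt u y))) = 0
  refine (smul_eq_zero.1 ?_).resolve_left (mul_ne_zero (mul_ne_zero ha0 hb0) hb0)
  simp only [cross_apply]
  rw [← h2]
  module

end Rigid

end Cfsg.Agent.ClassicalMax.UnWreath
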