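import Cfsg.Agent.ClassicalMax.UnWreath.RadSlots
import Cfsg.Agent.ClassicalMax.UnWreath.Centres
import Cfsg.Agent.ClassicalMax.UnWreath.End
import Cfsg.Agent.ClassicalMax.UnWreath.Coords

/-!
A group of isometries of the tensor power containing the stabiliser and one further element has every isotropic
vector as a centre.
-/

set_option autoImplicit false
set_option linter.unusedSectionVars false
set_option linter.style.haveILetI false

namespace Cfsg.Agent.ClassicalMax.UnWreath

open Matrix Module Cfsg.Geo Cfsg.Agent.Classical Cfsg.Agent.ClassicalMax Cfsg.Agent.ClassicalMax.UnTensor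
  Cfsg.Agent.ClassicalMax.TPow
open Cfsg.Agent.ClassicalMax.SpWreath (GV)
open scoped MatrixGroups

variable {F : Type*} [Field F] [Fintype F] {σ : F →+* F} {k t : ℕ} {J : Matrix (Fin k) (Fin k) F}

/-- norm-one scalars of the field with four elements are cube roots of one -/
theorem cube_of_norm_one (hσ : Herm.IsInvol σ) (h2 : (2 : F) = 0) (hfix : ∀ c : F, σ c = c → c = 0 ∨ c = 1) {c : F}
    (hc : c * σ c = 1) : c * c * c = 1 := by
  rcases hfix (c + σ c) (by rw [map_add, hσ.invol, add_comm]) with h | h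
  · have hc1 : c = 1 := (hfix c (by linear_combination h - c * h2)).resolve_left fun e => by
      rw [e, zero_mul] at hc; exact zero_ne_one hc
    rw [hc1, one_mul, one_mul]
  · linear_combination c * c * h - c * hc + c * h - hc + (c * c - 1) * 0 - h2

/-- the determinant of a reflection of a slot space -/
theorem det_one_add_hrk (β : F) (z : Fin k → F) : (1 + β • hrk σ J z z).det = 1 + β * hf σ J z z := by
  rw [hrk, TPow.rk, ← smul_vecMulVec, vecMulVec_eq Unit, det_one_add_replicateCol_mul_replicateRow, dotProduct_smul,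
    smul_eq_mul, ← dotProduct_mulVec]
  rfl

theorem pure_mem_wreath (T : Fin t → GL (Fin k) F) {g : GL (Fin t → Fin k) F}
    (hg : (g : Matrix (Fin t → Fin k) (Fin t → Fin k) F) = tens fun j => (T j : Matrix (Fin k) (Fin k) F)) :
    g ∈ tensorWreathStandard k t F :=
  Subgroup.subset_closure (Or.inl ⟨T, fun x y => by rw [hg, tens_apply]⟩)

theorem sl_mem_wreath (i : Fin t) {A : Matrix (Fin k) (Fin k) F} (hA : A.det ≠ 0) {g : GLV F k t}
    (hg : ∀ x, g x = sl i A *ᵥ x) : (glEquiv (Fin t → Fin k) F).symm g ∈ tensorWreathStandard k t F := by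
  classical
  refine pure_mem_wreath (Function.update 1 i (GeneralLinearGroup.mkOfDetNeZero A hA))
    (Matrix.toLin'.injective (LinearMap.ext fun x => ?_))
  rw [toLin'_apply, toLin'_apply, symm_mulVec, hg, sl]
  congr 2
  funext j
  rcases eq_or_ne j i with rfl | hj
  · rw [Function.update_self, Function.update_self]; rfl
  · rw [Function.update_of_ne hj, Function.update_of_ne hj]; rfl

variable (hJ : HMat σ J) (h3 : 3 ≤ k) (ht : 2 ≤ t) (hbig : (∃ c : F, σ c = c ∧ c ≠ 0 ∧ c ≠ 1) ∨ 4 ≤ k)
  {H : Subgroup (GLV F k t)}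
  (hiso : ∀ g ∈ H, ∀ x y, hf σ (GV J) (g x) (g y) = hf σ (GV J) x y)
  (hfull : ∀ g : GLV F k t, (∀ x y, hf σ (GV J) (g x) (g y) = hf σ (GV J) x y) → LinearMap.det g.toLinearMap = 1 →
    (glEquiv (Fin t → Fin k) F).symm g ∈ tensorWreathStandard k t F → g ∈ H)
include hJ h3 ht hiso hfull

theorem slot_of_full (i : Fin t) : Slot (frame hJ i) H where
  iso := hiso
  dimU := by rwa [Module.finrank_fintype_fun_eq_card, Fintype.card_fin]
  posW := by
    haveI : Nonempty (Fin k) := ⟨⟨0, by omega⟩⟩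
    rw [Module.finrank_fintype_fun_eq_card]
    exact Fintype.card_pos
  lift a ha hd g hg := by
    set A := LinearMap.toMatrix' a.toLinearMap with hA
    have hAx : ∀ x, A *ᵥ x = a x := fun x => by rw [hA, LinearMap.toMatrix'_mulVec]; rfl
    have hdA : A.det = 1 := by rw [hA, LinearMap.det_toMatrix', hd]
    have hgx : g.toLinearMap = toLin' (sl i A) := (frame hJ i).ext_pure fun x y => by
      rw [LinearEquiv.coe_coe, hg, toLin'_apply, ← smat_sl, smat_pts, one_mulVec, hAx]
    refine hfull g ((frame hJ i).iso_of_pure fun x y x' y' => by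
      rw [hg, hg, (frame hJ i).prod, (frame hJ i).prod, ha]) ?_ (sl_mem_wreath i (by rw [hdA]; exact one_ne_zero)
        fun x => LinearMap.congr_fun hgx x)
    rw [hgx, LinearMap.det_toLin', ← smat_sl, smat_det, hdA, det_one, one_pow, one_pow, one_mul]

theorem cyc_of_full {a b c : Fin t} (hab : a ≠ b) (hbc : b ≠ c) :
    ∃ g ∈ H, ∀ z, g z = Asch.permM (Equiv.swap a b * Equiv.swap b c) *ᵥ z := by
  refine ⟨glEquiv (Fin t → Fin k) F (Asch.permU (Equiv.swap a b * Equiv.swap b c)), hfull _ (fun x y => ?_) ?_ ?_,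
    fun z => rfl⟩
  · exact permM_iso J _ x y
  · rw [← mem_specialLinear_iff]
    exact Units.ext (permM_cycle_det hab hbc)
  · rw [MulEquiv.symm_apply_apply]
    exact Subgroup.subset_closure (Or.inr ⟨_, fun _ _ => rfl⟩)

/-- a reflection of a slot up to a scalar -/
theorem refl_of_full (hfix : ∀ c : F, σ c = c → c = 0 ∨ c = 1) {β : F} (l : Fin t) {z : Fin k → F}
    (hz : hf σ J z z = 1) (hn : (1 + β) * σ (1 + β) = 1) :
    ∃ c : F, c * σ c = 1 ∧ ∃ h ∈ H, ∀ x, c • h x = x + β • sl l (hrk σ J z z) *ᵥ x := by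
  classical
  obtain ⟨h2, -⟩ := exists_cube_root hJ.isHerm hfix
  set ζ := 1 + β
  have hζ3 : ζ ^ 3 = 1 := by rw [pow_succ, pow_two, cube_of_norm_one hJ.invol h2 hfix hn]
  have hζ0 : ζ ≠ 0 := fun e => zero_ne_one (α := F) (by rw [← hn, e, zero_mul])
  set R := 1 + β • hrk σ J z z with hR
  set m := Fintype.card (RS' l → Fin k)
  have hkm : Fintype.card (Fin t → Fin k) = k * m := by
    rw [Fintype.card_congr (spl l), Fintype.card_prod, Fintype.card_fin]
  obtain ⟨j, hj⟩ : ∃ j : ℕ, 3 ∣ j * (k * m) + m := by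
    by_cases h3k : 3 ∣ k
    · refine ⟨0, ?_⟩
      haveI : Nonempty (RS' l) := by
        obtain ⟨j', hj'⟩ := Fintype.exists_ne_of_one_lt_card (by rw [Fintype.card_fin]; omega) l
        exact ⟨⟨j', fun _ => Ne.symm hj'⟩⟩
      rw [zero_mul, zero_add, show m = k ^ Fintype.card (RS' l) from by
        simp [m]]
      exact dvd_pow h3k Fintype.card_ne_zero
    · refine ⟨2 * (k * m) * m, ?_⟩
      by_cases h3m : 3 ∣ m
      · exact dvd_add (Dvd.dvd.mul_left (Dvd.dvd.mul_left h3m k) _) h3m
      have hnm : ¬ 3 ∣ k * m := fun h => (Nat.prime_three.dvd_mul.1 h).elim h3k h3m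
      have e : (k * m * (k * m)) % 3 = 1 := by
        rw [Nat.mul_mod]
        rcases (by omega : k * m % 3 = 1 ∨ k * m % 3 = 2) with h | h <;> rw [h]
      rw [Nat.dvd_iff_mod_eq_zero, show 2 * (k * m) * m * (k * m) + m = (k * m * (k * m)) * (2 * m) + m by ring,
        Nat.add_mod, Nat.mul_mod, e]
      omega
  obtain ⟨d, hd⟩ := hj
  set c := ζ ^ j with hc
  have hc0 : c ≠ 0 := pow_ne_zero _ hζ0
  have hcn : c * σ c = 1 := by rw [hc, map_pow, ← mul_pow, hn, one_pow]
  have hdR : R.det = ζ := by rw [hR, det_one_add_hrk, hz, mul_one]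
  have hdet : (c • sl l R).det = 1 := by
    rw [det_smul, ← smat_sl, smat_det, hdR, det_one, one_pow, mul_one, hkm, hc, ← pow_mul, ← pow_add, hd, pow_mul, hζ3,
      one_pow]
  let g := glEquiv (Fin t → Fin k) F (GeneralLinearGroup.mkOfDetNeZero (c • sl l R) (by rw [hdet]; exact one_ne_zero))
  have hgx : ∀ x, g x = (c • sl l R) *ᵥ x := fun x => rfl
  have hRx : ∀ x, sl l R *ᵥ x = x + β • sl l (hrk σ J z z) *ᵥ x := fun x => by
    rw [hR, sl_add, sl_smul, sl_one, add_mulVec, one_mulVec, smul_mulVec]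
  have hRiso : ∀ x y, hf σ J (R *ᵥ x) (R *ᵥ y) = hf σ J x y := fun x y => by
    rw [hR, add_mulVec, add_mulVec, one_mulVec, one_mulVec, smul_mulVec, smul_mulVec, hrk_mulVec, hrk_mulVec]
    simp only [map_add, map_smulₛₗ, LinearMap.add_apply, LinearMap.smul_apply, smul_eq_mul, RingHom.id_apply, hz]
    rw [hJ.isHerm.symm z x]
    have hn' : β + σ β + β * σ β = 0 := by
      have := hn
      simp only [ζ, map_add, map_one] at this
      linear_combination this
    linear_combination (hf σ J x z * hf σ J z y) * hn'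
  have hgH : g ∈ H := hfull g ((frame hJ l).iso_of_pure fun x y x' y' => by
      rw [hgx, hgx, smul_mulVec, smul_mulVec, ← smat_sl, smat_pts, smat_pts]
      simp only [map_smulₛₗ, LinearMap.smul_apply, smul_eq_mul, RingHom.id_apply, (frame hJ l).prod, hRiso, one_mulVec]
      linear_combination (hf σ J x x' * hf σ (GV J) y y') * hcn)
    (by rw [show g.toLinearMap = toLin' (c • sl l R) from rfl, LinearMap.det_toLin', hdet])
    (sl_mem_wreath l (A := c • R) (by rw [det_smul, hdR]; exact mul_ne_zero (pow_ne_zero _ hc0) hζ0)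
      fun x => by rw [hgx, sl_smul])
  refine ⟨σ c, by rw [hJ.invol.invol, mul_comm, hcn], g, hgH, fun x => ?_⟩
  rw [hgx, smul_mulVec, smul_smul, mul_comm, hcn, one_smul, hRx]

include hbig

/-- all isotropic vectors are centres -/
theorem centres_of_outside {g : GLV F k t} (hg : g ∈ H)
    (hgW : (glEquiv (Fin t → Fin k) F).symm g ∉ tensorWreathStandard k t F) (v : (Fin t → Fin k) → F)
    (hv : hf σ (GV J) v v = 0) : v ∈ Unitary.centres (hf σ (GV J)) H := by
  classical
  have hS := slot_of_full hJ h3 ht hiso hfull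
  by_cases hrad : ∃ i, ∃ u : Fin k → F, u ≠ 0 ∧ hf σ J u u = 0 ∧
      ∃ S, (frame hJ i).rad u S ∈ H ∧ ¬ ∃ μ : F, ∀ y, S y = μ • y
  · obtain ⟨i, u, hu0, hu, S, hSm, hns⟩ := hrad
    have hb : Base hJ H := ⟨hS, fun a b c hab hbc _ => cyc_of_full hJ h3 ht hiso hfull hab hbc, hbig, ht⟩
    refine (hS i).centres_all (fun T hT => ?_) ?_ v hv
    · have h := hb.MR_all hu0 hu hSm hns i (LinearMap.toMatrix' T) fun x y => by
        rw [LinearMap.toMatrix'_mulVec, LinearMap.toMatrix'_mulVec]; exact hT x y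
      have h' : toLin' (LinearMap.toMatrix' T) ∈ RS (frame hJ i) H := h
      rwa [toLin'_toMatrix'] at h'
    · haveI : Nonempty (RS' i) := by
        obtain ⟨j', hj'⟩ := Fintype.exists_ne_of_one_lt_card (by rw [Fintype.card_fin]; omega) i
        exact ⟨⟨j', fun _ => Ne.symm hj'⟩⟩
      rw [Module.finrank_fintype_fun_eq_card, Fintype.card_fun, Fintype.card_fin]
      exact le_trans (by omega) (Nat.le_self_pow Fintype.card_ne_zero k)
  exfalso
  push Not at hrad
  have hR : ∀ i, Rigid (frame hJ i) H := fun i =>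
    { toSlot := hS i
      scal := fun u hu0 hu S hS' => hrad i u hu0 hu S hS' }
  by_cases hk : ∃ c : F, σ c = c ∧ c ≠ 0 ∧ c ≠ 1
  · exact hgW (mem_wreath_of_rigid hJ hR h3 hbig (by omega)
      (fun hfix => absurd hk fun ⟨c, h1, h2, h3'⟩ => (hfix c h1).elim h2 h3') hg)
  push Not at hk
  have hfix : ∀ c : F, σ c = c → c = 0 ∨ c = 1 := fun c h => or_iff_not_imp_left.2 (hk c h)
  obtain ⟨h2, -⟩ := exists_cube_root hJ.isHerm hfix
  let H' : Subgroup (GLV F k t) :=
    { carrier := {g | ∃ c : F, c * σ c = 1 ∧ ∃ h ∈ H, ∀ x, g x = c • h x}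
      one_mem' := ⟨1, by rw [map_one, one_mul], 1, one_mem H, fun x => (one_smul F x).symm⟩
      mul_mem' := by
        rintro g g' ⟨c, hc, h, hh, e⟩ ⟨c', hc', h', hh', e'⟩
        refine ⟨c * c', by rw [map_mul]; linear_combination (c * σ c) * hc' + hc, h * h', mul_mem hh hh', fun x => ?_⟩
        rw [LinearEquiv.mul_apply, e', e, map_smul, smul_smul, LinearEquiv.mul_apply]
      inv_mem' := by
        rintro g ⟨c, hc, h, hh, e⟩
        refine ⟨σ c, by rw [hJ.invol.invol, mul_comm, hc], h⁻¹, inv_mem hh, fun x => ?_⟩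
        refine g.injective ?_
        rw [apply_inv, map_smul, e, apply_inv, smul_smul, mul_comm, hc, one_smul] }
  have hsub : H ≤ H' := fun g hg => ⟨1, by rw [map_one, one_mul], g, hg, fun x => (one_smul F _).symm⟩
  have hR' : ∀ i, Rigid (frame hJ i) H' := fun i =>
    { iso := by
        rintro g ⟨c, hc, h, hh, e⟩ x y
        rw [e, e]
        simp only [map_smulₛₗ, LinearMap.smul_apply, smul_eq_mul, RingHom.id_apply, hiso h hh]
        linear_combination (hf σ (GV J) x y) * hc
      lift := fun a ha hd l hl => hsub ((hS i).lift a ha hd l hl)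
      dimU := (hS i).dimU
      posW := (hS i).posW
      scal := fun u hu0 hu S ⟨c, hc, h, hh, e⟩ => by
        refine hrad i u hu0 hu S ?_
        have e3 : (frame hJ i).rad u S = h ^ 3 := LinearEquiv.ext fun x => by
          have hr : (frame hJ i).rad u S * (frame hJ i).rad u S * (frame hJ i).rad u S = (frame hJ i).rad u S := by
            rw [(frame hJ i).rad_add hu, (frame hJ i).rad_add hu]
            congr 1
            rw [show S + S + S = ((2 : F) + 1) • S by module, h2, zero_add, one_smul]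
          rw [← hr, LinearEquiv.mul_apply, LinearEquiv.mul_apply, e, e, e, map_smul, map_smul, map_smul, smul_smul,
            smul_smul, cube_of_norm_one hJ.invol h2 hfix hc, one_smul, pow_succ, pow_two]
          rfl
        rw [e3]
        exact pow_mem hh 3 }
  refine hgW (mem_wreath_of_rigid hJ hR' h3 hbig (by omega) (fun _ β _ l z hz hn => ?_) (hsub hg))
  obtain ⟨c, hc, h, hh, e⟩ := refl_of_full hJ h3 ht hiso hfull hfix l hz hn
  have hc0 : c ≠ 0 := fun e0 => zero_ne_one (α := F) (by rw [← hc, e0, zero_mul])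
  exact ⟨(LinearEquiv.smulOfUnit (Units.mk0 c hc0)) * h, ⟨c, hc, h, hh, fun x => rfl⟩, fun x => e x⟩

end Cfsg.Agent.ClassicalMax.UnWreath
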