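import Cfsg.Agent.ClassicalMax.UnWreath.Space
import Cfsg.Agent.ClassicalMax.UnWreath.IsoForm
import Cfsg.Agent.ClassicalMax.TPow.Slot
import Cfsg.Agent.ClassicalMax.TPow.Wreath

/-!
Slot operators of a tensor power of a Hermitian form: adjoints, conjugates, extraction of a rank-one slot factor from
a space invariant under the special unitary group of that slot, spanning by rank-one operators.
-/

set_option autoImplicit false
set_option linter.unusedSectionVars false
set_option linter.style.haveILetI false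

namespace Cfsg.Agent.ClassicalMax.UnWreath

open Matrix Module Cfsg.Agent.Classical Cfsg.Agent.ClassicalMax Cfsg.Agent.ClassicalMax.UnTensor
  Cfsg.Agent.ClassicalMax.TPow
open Cfsg.Agent.ClassicalMax.SpWreath (GV)

variable {F : Type*} [Field F] {σ : F →+* F}

section Adjoint

variable {ν : Type} [Fintype ν] [DecidableEq ν]

theorem hf_mulVec_left (G M : Matrix ν ν F) (x y : ν → F) :
    hf σ G (M *ᵥ x) y = (σ ∘ x) ⬝ᵥ ((M.map σ)ᵀ * G) *ᵥ y := by
  rw [hf_apply, bf, ← mulVec_mulVec, dotProduct_mulVec (σ ∘ x) (M.map σ)ᵀ, vecMul_transpose]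
  congr 1
  funext a
  simp [mulVec, dotProduct, map_sum]

theorem hf_mulVec_right (G M : Matrix ν ν F) (x y : ν → F) :
    hf σ G x (M *ᵥ y) = (σ ∘ x) ⬝ᵥ (G * M) *ᵥ y := by
  rw [hf_apply, bf, mulVec_mulVec]

/-- adjoint matrices from adjoint operators -/
theorem adjoint_of_forall {G M M' : Matrix ν ν F} (h : ∀ x y, hf σ G (M *ᵥ x) y = hf σ G x (M' *ᵥ y)) :
    (M.map σ)ᵀ * G = G * M' := by
  ext a b
  have h1 := h (Pi.single a 1) (Pi.single b 1)
  rw [hf_mulVec_left, hf_mulVec_right,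
    show σ ∘ (Pi.single a (1 : F) : ν → F) = Pi.single a 1 from funext fun c => by
      rcases eq_or_ne c a with rfl | hc <;> simp [*]] at h1
  simpa [dotProduct, mulVec, Pi.single_apply] using h1

theorem forall_of_adjoint {G M M' : Matrix ν ν F} (h : (M.map σ)ᵀ * G = G * M') (x y : ν → F) :
    hf σ G (M *ᵥ x) y = hf σ G x (M' *ᵥ y) := by rw [hf_mulVec_left, hf_mulVec_right, h]

/-- an isometry conjugates rank-one operators -/
theorem conj_hrk {G : Matrix ν ν F} {g g' : Matrix ν ν F} (hg : ∀ x y, hf σ G (g *ᵥ x) (g *ᵥ y) = hf σ G x y)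
    (hgg : g * g' = 1) (u v : ν → F) : g * hrk σ G u v * g' = hrk σ G (g *ᵥ u) (g *ᵥ v) := by
  refine Matrix.toLin'.injective (LinearMap.ext fun x => ?_)
  rw [toLin'_apply, toLin'_apply, ← mulVec_mulVec, ← mulVec_mulVec, hrk_mulVec, hrk_mulVec, mulVec_smul,
    ← hg v (g' *ᵥ x), mulVec_mulVec x, hgg, one_mulVec]

end Adjoint

variable {k : ℕ} {β : Type} [Fintype β] [DecidableEq β] {J : Matrix (Fin k) (Fin k) F}

theorem tens_map (T : β → Matrix (Fin k) (Fin k) F) : (tens T).map σ = tens fun j => (T j).map σ := by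
  ext x y
  simp [tens_apply, map_prod]

/-- adjoints slot by slot -/
theorem tens_adjoint {T T' : β → Matrix (Fin k) (Fin k) F} (h : ∀ j, ((T j).map σ)ᵀ * J = J * T' j) :
    ((tens T).map σ)ᵀ * GV J = GV J * tens T' := by
  rw [tens_map, tens_transpose, GV, tens_mul, tens_mul]
  congr 1
  funext j
  exact h j

theorem one_adjoint : ((1 : Matrix (Fin k) (Fin k) F).map σ)ᵀ * J = J * 1 := by
  rw [Matrix.map_one σ (map_zero σ) (map_one σ), transpose_one, one_mul, mul_one]

/-- products of slot rank-one operators are self-adjoint -/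
theorem tens_self (hJ : HMat σ J) (s : Finset β) (v : β → Fin k → F) (x y : (β → Fin k) → F) :
    hf σ (GV J) (tens (s.piecewise (fun j => hrk σ J (v j) (v j)) 1) *ᵥ x) y =
      hf σ (GV J) x (tens (s.piecewise (fun j => hrk σ J (v j) (v j)) 1) *ᵥ y) := by
  refine forall_of_adjoint (tens_adjoint fun j => ?_) x y
  by_cases hj : j ∈ s
  · rw [Finset.piecewise_eq_of_mem _ _ _ hj]
    exact adjoint_of_forall fun x y => hJ.hf_hrk _ _ _ _
  · rw [Finset.piecewise_eq_of_notMem _ _ _ hj]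
    exact one_adjoint

theorem tens_insert {s : Finset β} {l : β} (hl : l ∉ s) (Q : β → Matrix (Fin k) (Fin k) F) :
    tens ((insert l s).piecewise Q 1) = sl l (Q l) * tens (s.piecewise Q 1) := by
  rw [sl, tens_mul]
  congr 1
  funext j
  rcases eq_or_ne j l with rfl | hj
  · simp [hl]
  · simp [hj, Finset.piecewise]

theorem sl_tens_sl (l : β) (g g' : Matrix (Fin k) (Fin k) F) (hgg : g * g' = 1) (T : β → Matrix (Fin k) (Fin k) F) :
    sl l g * tens T * sl l g' = tens (Function.update T l (g * T l * g')) := by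
  rw [sl, sl, tens_mul, tens_mul]
  congr 1
  funext j
  rcases eq_or_ne j l with rfl | hj <;> simp [*]

/-- a linear factor in one slot commutes with the other slots that the matrix commutes with -/
theorem lift_commute_other {i l : β} (hil : l ≠ i) (φ : Matrix (Fin k) (Fin k) F →ₗ[F] F)
    {R : Matrix (β → Fin k) (β → Fin k) F} {A : Matrix (Fin k) (Fin k) F} (h : Commute R (sl l A)) :
    Commute (TPow.lift i φ R) (sl l A) := by
  show _ = _
  ext x y
  have e1 : slice' (R * sl l A) i x y = ∑ a, A a (y l) • slice' R i x (Function.update y l a) := by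
    ext p q
    simp only [slice', Matrix.of_apply, mul_sl, Matrix.sum_apply, Matrix.smul_apply, smul_eq_mul,
      Function.update_of_ne hil, Function.update_comm hil, mul_comm]
  have e2 : slice' (sl l A * R) i x y = ∑ a, A (x l) a • slice' R i (Function.update x l a) y := by
    ext p q
    simp only [slice', Matrix.of_apply, sl_mulVec, Matrix.sum_apply, Matrix.smul_apply, smul_eq_mul,
      Function.update_of_ne hil, Function.update_comm hil]
  rw [h.eq] at e1
  have e := congrArg φ (e1.symm.trans e2)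
  simp only [map_sum, map_smul, smul_eq_mul] at e
  rw [mul_sl, sl_mulVec]
  simp only [TPow.lift, Matrix.of_apply, Function.update_of_ne (Ne.symm hil)]
  by_cases hxy : x i = y i
  · simp only [hxy, if_true]
    convert e using 1 <;> exact Finset.sum_congr rfl fun a _ => by
      first | rfl | exact mul_comm _ _
  · simp [hxy]

variable [Finite F] (hJ : HMat σ J)
include hJ

/-- matrices spanned by rank-one operators of non-orthogonal isotropic vectors -/
theorem span_hrk (h3 : 3 ≤ k) (N : Submodule F (Matrix (Fin k) (Fin k) F))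
    (hN : ∀ a b, hf σ J a a = 0 → hf σ J b b = 0 → hf σ J a b ≠ 0 → hrk σ J a b ∈ N) : N = ⊤ := by
  classical
  have hA := hJ.isHerm
  have hn : 3 ≤ finrank F (Fin k → F) := by rw [Module.finrank_fintype_fun_eq_card, Fintype.card_fin]; exact h3
  have h1 : ∀ a, a ≠ 0 → hf σ J a a = 0 → ∀ y, hrk σ J a y ∈ N := fun a ha0 ha => by
    let S : Submodule F (Fin k → F) :=
      { carrier := {y | hrk σ J a y ∈ N}
        add_mem' := fun {y y'} hy hy' => by
          show hrk σ J a (y + y') ∈ N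
          rw [hrk_add_right]; exact N.add_mem hy hy'
        zero_mem' := by
          show hrk σ J a 0 ∈ N
          rw [← zero_smul F (0 : Fin k → F), hrk_smul_right, map_zero, zero_smul]; exact N.zero_mem
        smul_mem' := fun c y hy => by
          show hrk σ J a (c • y) ∈ N
          rw [hrk_smul_right]; exact N.smul_mem _ hy }
    have hS := span_iso_nonorth hA hn ha0 ha S fun b hb hab => hN a b ha hb hab
    exact fun y => (hS ▸ Submodule.mem_top : y ∈ S)
  let X : Submodule F (Fin k → F) :=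
    { carrier := {x | ∀ y, hrk σ J x y ∈ N}
      add_mem' := fun {x x'} hx hx' y => by rw [hrk_add_left]; exact N.add_mem (hx y) (hx' y)
      zero_mem' := fun y => by rw [← zero_smul F (0 : Fin k → F), hrk_smul_left, zero_smul]; exact N.zero_mem
      smul_mem' := fun c x hx y => by rw [hrk_smul_left]; exact N.smul_mem _ (hx y) }
  obtain ⟨u, f, hu, hf', huf, -⟩ := exists_pair hA (by omega)
  have hX : (⊤ : Submodule F (Fin k → F)) ≤ X := Unitary.isotropic_span hA ⊤ (z := u) (f := f) trivial hu trivial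
    (by rw [huf]; exact one_ne_zero) X fun x _ hx => by
      rcases eq_or_ne x 0 with rfl | hx0
      · exact X.zero_mem
      · exact h1 x hx0 hx
  refine eq_top_iff.2 fun A _ => ?_
  rw [show A = ∑ a, rk J (Pi.single a 1) (A.row a ᵥ* J⁻¹) from by
    ext a b
    simp only [rk, Matrix.sum_apply, vecMulVec_apply, vecMul_vecMul, nonsing_inv_mul J hJ.det, vecMul_one,
      Pi.single_apply, ite_mul, one_mul, zero_mul, Finset.sum_ite_eq, Finset.mem_univ, if_true]
    rfl]
  refine N.sum_mem fun a _ => ?_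
  have := hX (Submodule.mem_top : (Pi.single a (1 : F) : Fin k → F) ∈ ⊤) (σ ∘ (A.row a ᵥ* J⁻¹))
  rwa [hrk, ← Function.comp_assoc, show (σ : F → F) ∘ σ = id from funext hJ.invol.invol, Function.id_comp] at this

/-- a transvection of one slot as a matrix -/
theorem tv_matrix {a : Fin k → F} (ha : hf σ J a a = 0) {d : F} (hd : d + σ d = 0) :
    (∀ x y, hf σ J ((1 + d • hrk σ J a a) *ᵥ x) ((1 + d • hrk σ J a a) *ᵥ y) = hf σ J x y) ∧
      (1 + d • hrk σ J a a).det = 1 ∧ (1 + d • hrk σ J a a) * (1 - d • hrk σ J a a) = 1 := by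
  have e : toLin' (1 + d • hrk σ J a a) = (Herm.tvU ha d).toLinearMap := LinearMap.ext fun x => by
    rw [toLin'_apply, LinearEquiv.coe_coe, Herm.tvU_apply, add_mulVec, one_mulVec, smul_mulVec, hrk_mulVec, smul_smul]
  refine ⟨fun x y => ?_, ?_, ?_⟩
  · rw [← toLin'_apply, ← toLin'_apply, e]
    exact Herm.tvU_isometry hJ.isHerm ha hd x y
  · rw [← LinearMap.det_toLin', e]
    simpa [Units.ext_iff] using (Herm.tvU_mem hJ.isHerm ha hd).2
  · have hQQ : hrk σ J a a * hrk σ J a a = 0 := by rw [hrk_mul_hrk, ha, zero_smul]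
    rw [mul_sub, mul_one, add_mul, one_mul, smul_mul_smul_comm, hQQ, smul_zero, add_zero, add_sub_cancel_right]

/-- a space invariant under one slot group contains a rank-one factor of that slot -/
theorem extract (l : β) (h3 : 3 ≤ k) (hbig : (∃ c : F, σ c = c ∧ c ≠ 0 ∧ c ≠ 1) ∨ 4 ≤ k)
    (N : Submodule F (Matrix (β → Fin k) (β → Fin k) F))
    (hinv : ∀ g g' : Matrix (Fin k) (Fin k) F, (∀ x y, hf σ J (g *ᵥ x) (g *ᵥ y) = hf σ J x y) → g.det = 1 →
      g * g' = 1 → ∀ c ∈ N, sl l g * c * sl l g' ∈ N)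
    {c : Matrix (β → Fin k) (β → Fin k) F} (hc : c ∈ N) (hnc : ∃ A, ¬ Commute c (sl l A)) :
    ∃ a, a ≠ 0 ∧ hf σ J a a = 0 ∧ ∃ φ : Matrix (Fin k) (Fin k) F →ₗ[F] F,
      sl l (hrk σ J a a) * TPow.lift l φ c ∈ N ∧ sl l (hrk σ J a a) * TPow.lift l φ c ≠ 0 := by
  classical
  haveI : Nonempty (Fin k) := ⟨⟨0, by omega⟩⟩
  have hA := hJ.isHerm
  have hn : 3 ≤ finrank F (Fin k → F) := by rw [Module.finrank_fintype_fun_eq_card, Fintype.card_fin]; exact h3
  let φ : (Fin k → F) → (Fin k → F) → Matrix (Fin k) (Fin k) F →ₗ[F] F := fun p q =>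
    { toFun := fun R => hf σ J p (R *ᵥ q)
      map_add' := fun R R' => by rw [add_mulVec, map_add]
      map_smul' := fun r R => by rw [smul_mulVec, map_smul, RingHom.id_apply] }
  have hφ : ∀ p q R, φ p q R = hf σ J p (R *ᵥ q) := fun _ _ _ => rfl
  have hsand : ∀ p q R, hrk σ J p p * R * hrk σ J q q = φ p q R • hrk σ J p q := fun p q R => by
    rw [mul_assoc, mul_hrk, hrk_mul_hrk, hφ]
  -- a non-scalar slice
  obtain ⟨x, y, hxy⟩ : ∃ x y, ¬ ∃ r : F, slice' c l x y = r • (1 : Matrix (Fin k) (Fin k) F) := by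
    by_contra! h
    obtain ⟨A, hA⟩ := hnc
    exact hA (commute_of_slice_scalar l h A)
  set R := slice' c l x y
  obtain ⟨a, ha, haR⟩ : ∃ a, hf σ J a a = 0 ∧ φ a a R ≠ 0 := by
    by_contra! h
    obtain ⟨r, hr⟩ := scalar_of_iso hA (by omega) ((hf σ J).compl₂ (toLin' R)) fun a ha => by
      simpa [hφ] using h a ha
    refine hxy ⟨r, Matrix.toLin'.injective (LinearMap.ext fun z => sub_eq_zero.1 (hA.nondeg _ fun w => ?_))⟩
    refine (Herm.eq_zero_comm hA).1 ?_
    have := hr w z
    rw [LinearMap.compl₂_apply, toLin'_apply] at this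
    rw [map_sub, toLin'_apply, toLin'_apply, this, smul_mulVec, one_mulVec, map_smul, smul_eq_mul, sub_self]
  have ha0 : a ≠ 0 := fun e => haR (by rw [hφ, e, map_zero, LinearMap.zero_apply])
  -- it suffices to realise one contraction
  suffices h : ∃ p q, p ≠ 0 ∧ hf σ J p p = 0 ∧ φ p q R ≠ 0 ∧ ∃ Z ∈ N, ∀ x y, slice' Z l x y = φ p q (slice' c l x y) •
      hrk σ J p p by
    obtain ⟨p, q, hp0, hp, hpq, Z, hZ, hsl⟩ := h
    have e := eq_sl_mul_lift l (φ p q) hsl
    refine ⟨p, hp0, hp, φ p q, e ▸ hZ, fun h0 => ?_⟩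
    have h1 := hsl x y
    rw [e, h0, show slice' (0 : Matrix (β → Fin k) (β → Fin k) F) l x y = 0 from rfl, eq_comm, smul_eq_zero] at h1
    exact h1.elim hpq (hJ.hrk_ne_zero hp0 hp0)
  have hsl2 : ∀ (P Q : Matrix (Fin k) (Fin k) F) (S : Matrix (β → Fin k) (β → Fin k) F) (x y : β → Fin k),
      slice' (sl l P * S * sl l Q) l x y = P * slice' S l x y * Q := fun P Q S x y => by
    rw [slice'_mul_sl, slice'_sl_mul]
  have htv : ∀ p, hf σ J p p = 0 → ∀ d : F, d + σ d = 0 → ∀ S ∈ N,
      d • (sl l (hrk σ J p p) * S - S * sl l (hrk σ J p p)) -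
        (d * d) • (sl l (hrk σ J p p) * S * sl l (hrk σ J p p)) ∈ N := fun p hp d hd S hS => by
    obtain ⟨h1, h2, h3⟩ := tv_matrix hJ hp hd
    have h := N.sub_mem (hinv _ _ h1 h2 h3 S hS) hS
    rw [sub_eq_add_neg (1 : Matrix (Fin k) (Fin k) F), ← neg_smul, sl_add, sl_add, sl_smul, sl_smul, sl_one] at h
    simp only [add_mul, one_mul, mul_add, mul_one, smul_mul_assoc, mul_smul_comm] at h
    convert h using 1
    module
  obtain ⟨d, hd0, hd⟩ := Herm.exists_skew hA.toIsInvol
  have hd' : d + σ d = 0 := by rw [hd, add_neg_cancel]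
  rcases hbig with ⟨r, hr, hr0, hr1⟩ | h4
  · refine ⟨a, a, ha0, ha, haR, sl l (hrk σ J a a) * c * sl l (hrk σ J a a), ?_, fun x y => by rw [hsl2, hsand]⟩
    have h1 := htv a ha d hd' c hc
    have h2 := htv a ha (r * d) (by rw [map_mul, hr]; linear_combination r * hd') c hc
    have h := N.smul_mem (r * (r - 1) * (d * d))⁻¹ (N.sub_mem (N.smul_mem r h1) h2)
    convert h using 1
    rw [eq_inv_smul_iff₀ (mul_ne_zero (mul_ne_zero hr0 (sub_ne_zero.2 hr1)) (mul_ne_zero hd0 hd0))]
    module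
  obtain ⟨f, hff, haf, hfa⟩ := exists_iso_partner hA ha0 ha
  obtain ⟨b₀, b₀', hb, -, hbb', hab, hfb, -, -⟩ := exists_perp_pair hA
    (by rw [Module.finrank_fintype_fun_eq_card, Fintype.card_fin]; exact h4) ha hff haf
  have hb0 : b₀ ≠ 0 := fun e => one_ne_zero (α := F) (by rw [← hbb', e, map_zero])
  obtain ⟨q, hq, haq, hqa, hRq⟩ : ∃ q, hf σ J q q = 0 ∧ hf σ J a q = 0 ∧ q ∉ F ∙ a ∧ φ a q R ≠ 0 := by
    have hnot : ∀ s : F, s • a + b₀ ∉ F ∙ a := fun s h => by
      obtain ⟨l, hl⟩ := Submodule.mem_span_singleton.1 h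
      have hb' : b₀ = (l - s) • a := by rw [sub_smul, hl, add_sub_cancel_left]
      have h1 := hfb
      rw [hb', map_smul, hfa, smul_eq_mul, mul_one] at h1
      exact hb0 (by rw [hb', h1, zero_smul])
    by_cases h : φ a b₀ R = 0
    · refine ⟨(1 : F) • a + b₀, ?_, by simp [ha, hab], hnot 1, ?_⟩
      · simp [ha, hab, hb, (Herm.eq_zero_comm hA).1 hab]
      · rw [hφ, mulVec_add, one_smul, map_add, ← hφ, ← hφ, h, add_zero]
        exact haR
    · refine ⟨b₀, hb, hab, ?_, h⟩
      simpa using hnot 0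
  refine ⟨a, q, ha0, ha, hRq, ?_⟩
  have hqa' : hf σ J q a = 0 := (Herm.eq_zero_comm hA).1 haq
  -- the symmetrised double contraction
  set Pa := sl l (hrk σ J a a) with hPa
  set Pq := sl l (hrk σ J q q) with hPq
  have h0 : Pa * Pa = 0 := by rw [hPa, sl_mul, hrk_mul_hrk, ha, zero_smul, sl_zero]
  have h0' : Pq * Pq = 0 := by rw [hPq, sl_mul, hrk_mul_hrk, hq, zero_smul, sl_zero]
  have h1' : Pa * Pq = 0 := by rw [hPa, hPq, sl_mul, hrk_mul_hrk, haq, zero_smul, sl_zero]
  have h2' : Pq * Pa = 0 := by rw [hPa, hPq, sl_mul, hrk_mul_hrk, hqa', zero_smul, sl_zero]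
  have hX : Pa * c * Pq + Pq * c * Pa ∈ N := by
    have h := htv q hq d hd' _ (htv a ha d hd' c hc)
    have h' := N.smul_mem (-(d * d))⁻¹ h
    convert h' using 1
    rw [eq_inv_smul_iff₀ (neg_ne_zero.2 (mul_ne_zero hd0 hd0))]
    rw [← hPa, ← hPq]
    have k1 : ∀ Y, Pq * (Pa * Y) = 0 := fun Y => by rw [← mul_assoc, h2', zero_mul]
    simp only [mul_sub, sub_mul, mul_smul_comm, smul_mul_assoc, smul_sub, mul_assoc, k1, h1', mul_zero, smul_zero,
      sub_zero, zero_sub, neg_mul, smul_neg, mul_neg, neg_zero]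
    module
  have hZ : ∀ μ : F, ∃ Z ∈ N, ∀ x y, slice' Z l x y =
      (μ * φ a q (slice' c l x y) + σ μ * φ q a (slice' c l x y)) • hrk σ J a a := by
    intro μ
    obtain ⟨w, hwa, hwq⟩ := Unitary.exists_perp hA hqa
    have hwa' : hf σ J (μ • w) q = σ μ * 1 := by
      rw [map_smulₛₗ, LinearMap.smul_apply, smul_eq_mul, ← hA.symm, hwq, map_one]
    have hwu : hf σ J (μ • w) a = 0 := by
      rw [map_smulₛₗ, LinearMap.smul_apply, (Herm.eq_zero_comm hA).1 (hwa a (Submodule.mem_span_singleton_self a)),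
        smul_zero]
    obtain ⟨κ, hκ⟩ := Herm.exists_trace hA.toIsInvol (a := -hf σ J (μ • w) (μ • w))
      (by rw [map_neg, Herm.fix_self hA])
    set E := Herm.eichler hA ha hwu κ
    have hE := Herm.eichler_mem hA ha hwu hκ
    have hEa : E a = a := by rw [Herm.eichler_apply, ha, hwu]; simp
    obtain ⟨ν', hν', hEq⟩ : ∃ ν' : F, (ν' = σ μ ∨ ν' = -σ μ) ∧ E q = q + ν' • a := by
      rw [Herm.eichler_apply]
      simp only [haq, hwa', mul_one, zero_smul, smul_zero, add_zero, sub_zero, zero_add, mul_zero, zero_sub]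
      first
        | exact ⟨σ μ, Or.inl rfl, rfl⟩
        | exact ⟨-σ μ, Or.inr rfl, by module⟩
        | exact ⟨σ μ, Or.inl rfl, by module⟩
    set g := LinearMap.toMatrix' E.toLinearMap with hg
    set g' := LinearMap.toMatrix' E.symm.toLinearMap with hg'
    have hgg : g * g' = 1 := by rw [hg, hg', ← LinearMap.toMatrix'_comp]; simp
    have hgx : ∀ z, g *ᵥ z = E z := fun z => by rw [hg, LinearMap.toMatrix'_mulVec]; rfl
    have hgi : ∀ x y, hf σ J (g *ᵥ x) (g *ᵥ y) = hf σ J x y := fun x y => by rw [hgx, hgx]; exact hE.1 x y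
    have hgd : g.det = 1 := by
      rw [hg, LinearMap.det_toMatrix']
      simpa [Units.ext_iff] using hE.2
    have h := N.sub_mem (hinv g g' hgi hgd hgg _ hX) hX
    have hslice : ∀ x y, slice' (sl l g * (Pa * c * Pq + Pq * c * Pa) * sl l g' - (Pa * c * Pq + Pq * c * Pa)) l x y =
        (σ ν' * φ a q (slice' c l x y) + ν' * φ q a (slice' c l x y)) • hrk σ J a a := fun x y => by
      have e : slice' (Pa * c * Pq + Pq * c * Pa) l x y =
          φ a q (slice' c l x y) • hrk σ J a q + φ q a (slice' c l x y) • hrk σ J q a := by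
        show slice' (Pa * c * Pq) l x y + slice' (Pq * c * Pa) l x y = _
        rw [hPa, hPq, hsl2, hsl2, hsand, hsand]
      show slice' (sl l g * _ * sl l g') l x y - slice' (Pa * c * Pq + Pq * c * Pa) l x y = _
      rw [hsl2, e, mul_add, add_mul, mul_smul_comm, mul_smul_comm, smul_mul_assoc, smul_mul_assoc, conj_hrk hgi hgg,
        conj_hrk hgi hgg, hgx, hgx, hEa, hEq, hrk_add_right, hrk_smul_right, hrk_add_left, hrk_smul_left]
      module
    have hsmul : ∀ (r : F) (X : Matrix (β → Fin k) (β → Fin k) F) (x y : β → Fin k),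
        slice' (r • X) l x y = r • slice' X l x y := fun _ _ _ _ => rfl
    rcases hν' with rfl | rfl
    · refine ⟨_, N.smul_mem 1 h, fun x y => ?_⟩
      rw [one_smul, hslice, hA.invol]
    · refine ⟨_, N.smul_mem (-1) h, fun x y => ?_⟩
      rw [hsmul, hslice, map_neg, hA.invol, smul_smul]
      congr 1
      ring
  obtain ⟨ω, hω⟩ := Herm.exists_moved hA.toIsInvol
  obtain ⟨Z₁, hZ₁, e₁⟩ := hZ 1
  obtain ⟨Z₂, hZ₂, e₂⟩ := hZ ω
  refine ⟨(σ ω - ω)⁻¹ • (σ ω • Z₁ - Z₂), N.smul_mem _ (N.sub_mem (N.smul_mem _ hZ₁) hZ₂), fun x y => ?_⟩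
  show (σ ω - ω)⁻¹ • (σ ω • slice' Z₁ l x y - slice' Z₂ l x y) = _
  rw [e₁, e₂, map_one, one_mul, one_mul, inv_smul_eq_iff₀ (sub_ne_zero.2 hω)]
  module

end Cfsg.Agent.ClassicalMax.UnWreath
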