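import Cfsg.Agent.ClassicalMax.UnWreath.RadSpace
import Cfsg.Agent.ClassicalMax.UnWreath.SlotOps

/-!
A non-scalar element supported on one isotropic slot point gives every skew operator at every slot.
-/

set_option autoImplicit false
set_option linter.unusedSectionVars false
set_option linter.style.haveILetI false

namespace Cfsg.Agent.ClassicalMax.UnWreath

open Matrix Module Cfsg.Agent.Classical Cfsg.Agent.ClassicalMax Cfsg.Agent.ClassicalMax.UnTensor
  Cfsg.Agent.ClassicalMax.TPow
open Cfsg.Agent.ClassicalMax.SpWreath (GV)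

variable {F : Type*} [Field F] [Finite F] {σ : F →+* F} {k t : ℕ} {J : Matrix (Fin k) (Fin k) F}

/-- the linear automorphisms of the tensor power -/
abbrev GLV (F : Type*) [Field F] (k t : ℕ) : Type _ := ((Fin t → Fin k) → F) ≃ₗ[F] ((Fin t → Fin k) → F)

/-- isometries containing the special unitary group of every slot and the three-cycles of the slots -/
structure Base (hJ : HMat σ J) (H : Subgroup (GLV F k t)) : Prop where
  slot : ∀ i, Slot (frame hJ i) H
  cyc : ∀ a b c : Fin t, a ≠ b → b ≠ c → a ≠ c →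
    ∃ g ∈ H, ∀ z, g z = Asch.permM (Equiv.swap a b * Equiv.swap b c) *ᵥ z
  big : (∃ c : F, σ c = c ∧ c ≠ 0 ∧ c ≠ 1) ∨ 4 ≤ k
  two : 2 ≤ t

variable {hJ : HMat σ J} {H : Subgroup (GLV F k t)}

/-- the operators of one slot, as matrices -/
noncomputable def MR (hJ : HMat σ J) (H : Subgroup (GLV F k t)) (i : Fin t) :
    Set (Matrix (RS' i → Fin k) (RS' i → Fin k) F) := {S | toLin' S ∈ RS (frame hJ i) H}

/-- a rank-one root in two slots -/
def Pair (hJ : HMat σ J) (H : Subgroup (GLV F k t)) (a b : Fin t) : Prop :=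
  ∀ u v : Fin k → F, u ≠ 0 → hf σ J u u = 0 → v ≠ 0 → hf σ J v v = 0 → ∀ c : F, c + σ c = 0 →
    ∃ g ∈ H, ∀ z, g z = (1 + c • (sl a (hrk σ J u u) * sl b (hrk σ J v v))) *ᵥ z

theorem smat_sl_sl (i : Fin t) (l : RS' i) (P Q : Matrix (Fin k) (Fin k) F) :
    smat i P (sl l Q) = sl i P * sl l.1 Q := by
  have h := smat_mul i P 1 1 (sl l Q)
  rw [smat_sl, smat_sl_rest, mul_one, one_mul] at h
  exact h.symm

namespace Base

variable (hb : Base hJ H)
include hb

theorem dim3 : 3 ≤ k := by
  have h := (hb.slot ⟨0, by have := hb.two; omega⟩).dimU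
  rwa [Module.finrank_fintype_fun_eq_card, Fintype.card_fin] at h

/-- the special unitary group of another slot normalises the operators -/
theorem MR_conj (i : Fin t) (l : RS' i) {g g' : Matrix (Fin k) (Fin k) F}
    (hg : ∀ x y, hf σ J (g *ᵥ x) (g *ᵥ y) = hf σ J x y) (hd : g.det = 1) (hgg : g * g' = 1)
    {S : Matrix (RS' i → Fin k) (RS' i → Fin k) F} (hS : S ∈ MR hJ H i) : sl l g * S * sl l g' ∈ MR hJ H i := by
  have hgg' : g' * g = 1 := mul_eq_one_comm.1 hgg
  let a : (Fin k → F) ≃ₗ[F] (Fin k → F) := LinearEquiv.ofLinear (toLin' g) (toLin' g')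
    (by rw [← toLin'_mul, hgg, toLin'_one]) (by rw [← toLin'_mul, hgg', toLin'_one])
  have hgl : sl l g * sl l g' = 1 := by rw [sl_mul, hgg, sl_one]
  have hgl' : sl l g' * sl l g = 1 := by rw [sl_mul, hgg', sl_one]
  let b : ((RS' i → Fin k) → F) ≃ₗ[F] ((RS' i → Fin k) → F) := LinearEquiv.ofLinear (toLin' (sl l g)) (toLin' (sl l g'))
    (by rw [← toLin'_mul, hgl, toLin'_one]) (by rw [← toLin'_mul, hgl', toLin'_one])
  let G : GLV F k t := LinearEquiv.ofLinear (toLin' (sl l.1 g)) (toLin' (sl l.1 g'))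
    (by rw [← toLin'_mul, sl_mul, hgg, sl_one, toLin'_one]) (by rw [← toLin'_mul, sl_mul, hgg', sl_one, toLin'_one])
  have hG : G ∈ H := (hb.slot l.1).lift a (fun x y => by
      show hf σ J (toLin' g x) (toLin' g y) = _
      rw [toLin'_apply, toLin'_apply, hg])
    (by rw [show a.toLinearMap = toLin' g from rfl, LinearMap.det_toLin', hd]) G fun x y => by
      show toLin' (sl l.1 g) (pts l.1 x y) = pts l.1 (toLin' g x) y
      rw [toLin'_apply, toLin'_apply, ← smat_sl, smat_pts, one_mulVec]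
  show toLin' _ ∈ RS (frame hJ i) H
  rw [toLin'_mul, toLin'_mul]
  exact (hb.slot i).RS_conj hS hG (b := b) fun x y => by
    show toLin' (sl l.1 g) (pts i x y) = pts i x (toLin' (sl l g) y)
    rw [toLin'_apply, toLin'_apply, ← smat_sl_rest, smat_pts, one_mulVec]

theorem MR_add {i : Fin t} {S T : Matrix (RS' i → Fin k) (RS' i → Fin k) F} (hS : S ∈ MR hJ H i)
    (hT : T ∈ MR hJ H i) : S + T ∈ MR hJ H i := by
  show toLin' (S + T) ∈ RS (frame hJ i) H
  rw [map_add]; exact (hb.slot i).RS_add hS hT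

/-- the span is invariant as well -/
theorem span_conj (i : Fin t) (l : RS' i) {g g' : Matrix (Fin k) (Fin k) F}
    (hg : ∀ x y, hf σ J (g *ᵥ x) (g *ᵥ y) = hf σ J x y) (hd : g.det = 1) (hgg : g * g' = 1)
    {S : Matrix (RS' i → Fin k) (RS' i → Fin k) F} (hS : S ∈ Submodule.span F (MR hJ H i)) :
    sl l g * S * sl l g' ∈ Submodule.span F (MR hJ H i) := by
  induction hS using Submodule.span_induction with
  | mem S hS => exact Submodule.subset_span (hb.MR_conj i l hg hd hgg hS)
  | zero => rw [mul_zero, zero_mul]; exact zero_mem _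
  | add S T _ _ hS hT => rw [mul_add, add_mul]; exact add_mem hS hT
  | smul r S _ hS => rw [mul_smul_comm, smul_mul_assoc]; exact Submodule.smul_mem _ _ hS

theorem MR_of_span {i : Fin t} {S : Matrix (RS' i → Fin k) (RS' i → Fin k) F}
    (hS : S ∈ Submodule.span F (MR hJ H i))
    (hsk : ∀ x y, hf σ (GV J) (S *ᵥ x) y + hf σ (GV J) x (S *ᵥ y) = 0) : S ∈ MR hJ H i := by
  refine (hb.slot i).RS_of_span ?_ fun x y => by rw [toLin'_apply, toLin'_apply]; exact hsk x y
  clear hsk
  induction hS using Submodule.span_induction with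
  | mem S hS => exact Submodule.subset_span hS
  | zero => rw [map_zero]; exact zero_mem _
  | add S T _ _ hS hT => rw [map_add]; exact add_mem hS hT
  | smul r S _ hS => rw [map_smul]; exact Submodule.smul_mem _ _ hS

theorem mem_span_of_lin {i : Fin t} {S : Matrix (RS' i → Fin k) (RS' i → Fin k) F}
    (hS : toLin' S ∈ Submodule.span F (RS (frame hJ i) H)) : S ∈ Submodule.span F (MR hJ H i) := by
  have key : ∀ T ∈ Submodule.span F (RS (frame hJ i) H),
      LinearMap.toMatrix' T ∈ Submodule.span F (MR hJ H i) := fun T hT => by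
    induction hT using Submodule.span_induction with
    | mem T hT =>
      refine Submodule.subset_span ?_
      show toLin' (LinearMap.toMatrix' T) ∈ RS (frame hJ i) H
      rwa [toLin'_toMatrix']
    | zero => rw [map_zero]; exact zero_mem _
    | add S T _ _ hS hT => rw [map_add]; exact add_mem hS hT
    | smul r S _ hS => rw [map_smul]; exact Submodule.smul_mem _ _ hS
  have := key _ hS
  rwa [LinearMap.toMatrix'_toLin'] at this

variable {i : Fin t}

/-- products of slot rank-one operators are square-zero elements -/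
theorem sz_tens (s : Finset (RS' i)) (hs : s.Nonempty) (v : RS' i → Fin k → F)
    (hv : ∀ l ∈ s, hf σ J (v l) (v l) = 0)
    (hmem : tens (s.piecewise (fun l => hrk σ J (v l) (v l)) 1) ∈ Submodule.span F (MR hJ H i)) :
    SZ (frame hJ i) H (toLin' (tens (s.piecewise (fun l => hrk σ J (v l) (v l)) 1))) := by
  refine ⟨?_, fun a b => by rw [toLin'_apply, toLin'_apply]; exact tens_self hJ s v a b, fun c hc => ?_⟩
  · obtain ⟨l, hl⟩ := hs
    rw [Module.End.mul_eq_comp, ← toLin'_mul, tens_mul, show tens _ = (0 : Matrix (RS' i → Fin k) (RS' i → Fin k) F) from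
      tens_eq_zero_iff.2 ⟨l, by rw [Pi.mul_apply, Finset.piecewise_eq_of_mem _ _ _ hl, hrk_mul_hrk, hv l hl, zero_smul]⟩,
      map_zero]
  · rw [← map_smul]
    refine hb.MR_of_span (Submodule.smul_mem _ c hmem) fun x y => ?_
    rw [smul_mulVec, smul_mulVec, map_smulₛₗ, LinearMap.smul_apply, map_smul, tens_self hJ s v, smul_eq_mul, smul_eq_mul]
    linear_combination (hf σ (GV J) x (tens (s.piecewise (fun l => hrk σ J (v l) (v l)) 1) *ᵥ y)) * hc

/-- growing the slot factors -/
theorem grow : ∀ n : ℕ, ∀ (s : Finset (RS' i)) (v : RS' i → Fin k → F), (Finset.univ \ s).card = n →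
    (∀ l ∈ s, v l ≠ 0 ∧ hf σ J (v l) (v l) = 0) →
    ∀ c : Matrix (RS' i → Fin k) (RS' i → Fin k) F,
    tens (s.piecewise (fun l => hrk σ J (v l) (v l)) 1) * c ∈ Submodule.span F (MR hJ H i) → c ≠ 0 →
    (∀ l ∈ s, ∀ A, Commute c (sl l A)) → (s.Nonempty ∨ ∃ l A, ¬ Commute c (sl l A)) →
    ∃ (s' : Finset (RS' i)) (v' : RS' i → Fin k → F), s'.Nonempty ∧ (∀ l ∈ s', v' l ≠ 0 ∧ hf σ J (v' l) (v' l) = 0) ∧
      tens (s'.piecewise (fun l => hrk σ J (v' l) (v' l)) 1) ∈ Submodule.span F (MR hJ H i) := by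
  classical
  haveI : Nonempty (Fin k) := ⟨⟨0, by have := hb.dim3; omega⟩⟩
  intro n
  induction n using Nat.strong_induction_on with
  | _ n ih =>
    intro s v hn hv c hmem hc0 hcs hne
    set T := tens (s.piecewise (fun l => hrk σ J (v l) (v l)) 1) with hT
    by_cases hall : ∀ l, ∀ A, Commute c (sl l A)
    · obtain ⟨r, rfl⟩ := eq_smul_one_of_commute c fun l A => (hall l A).eq
      have hr : r ≠ 0 := fun e => hc0 (by rw [e, zero_smul])
      refine ⟨s, v, hne.resolve_right (fun ⟨l, A, h⟩ => h (hall l A)), hv, ?_⟩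
      have := Submodule.smul_mem _ r⁻¹ hmem
      rwa [mul_smul_comm, mul_one, inv_smul_smul₀ hr] at this
    push Not at hall
    obtain ⟨l, hl⟩ := hall
    have hls : l ∉ s := fun h => by
      obtain ⟨A, hA⟩ := hl
      exact hA (hcs l h A)
    have hTl : ∀ A, Commute T (sl l A) := fun A =>
      sl_commute_of_one (Finset.piecewise_eq_of_notMem s (fun l => hrk σ J (v l) (v l))
        (1 : RS' i → Matrix (Fin k) (Fin k) F) hls) A
    let N : Submodule F (Matrix (RS' i → Fin k) (RS' i → Fin k) F) :=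
      (Submodule.span F (MR hJ H i)).comap (LinearMap.mulLeft F T)
    obtain ⟨a, ha0, ha, φ, hZ, hZ0⟩ := extract hJ l hb.dim3 hb.big N (fun g g' hg hd hgg c hc => by
      show T * (sl l g * c * sl l g') ∈ Submodule.span F (MR hJ H i)
      rw [← mul_assoc, ← mul_assoc, (hTl g).eq, mul_assoc (sl l g)]
      exact hb.span_conj i l hg hd hgg hc) hmem hl
    set v' := Function.update v l a with hv'
    have hins : tens ((insert l s).piecewise (fun j => hrk σ J (v' j) (v' j)) 1) = T * sl l (hrk σ J a a) := by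
      rw [tens_insert hls, (hTl _).eq]
      congr 2
      · rw [hv', Function.update_self]
      · funext j
        by_cases hj : j ∈ s
        · rw [Finset.piecewise_eq_of_mem _ _ _ hj, Finset.piecewise_eq_of_mem _ _ _ hj, hv',
            Function.update_of_ne fun e => hls (by rwa [← e])]
        · rw [Finset.piecewise_eq_of_notMem _ _ _ hj, Finset.piecewise_eq_of_notMem _ _ _ hj]
    refine ih _ ?_ (insert l s) v' rfl (fun j hj => ?_) (TPow.lift l φ c) ?_ ?_ (fun j hj A => ?_)
      (Or.inl (Finset.insert_nonempty _ _))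
    · rw [← hn]
      exact Finset.card_lt_card (Finset.ssubset_iff_of_subset (Finset.sdiff_subset_sdiff le_rfl (Finset.subset_insert _ _))
        |>.2 ⟨l, by simp [hls], by simp⟩)
    · rcases eq_or_ne j l with rfl | hjl
      · rw [hv', Function.update_self]; exact ⟨ha0, ha⟩
      · rw [hv', Function.update_of_ne hjl]; exact hv j ((Finset.mem_insert.1 hj).resolve_left hjl)
    · rw [hins, mul_assoc]; exact hZ
    · exact fun e => hZ0 (by rw [e, mul_zero])
    · rcases eq_or_ne j l with rfl | hjl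
      · exact lift_commute j φ c A
      · exact lift_commute_other hjl φ (hcs j ((Finset.mem_insert.1 hj).resolve_left hjl) A)

/-- every tuple of isotropic points -/
theorem all_tuples {s : Finset (RS' i)} {v : RS' i → Fin k → F}
    (hv : ∀ l ∈ s, v l ≠ 0 ∧ hf σ J (v l) (v l) = 0)
    (hmem : tens (s.piecewise (fun l => hrk σ J (v l) (v l)) 1) ∈ Submodule.span F (MR hJ H i))
    (w : RS' i → Fin k → F) (hw : ∀ l ∈ s, w l ≠ 0 ∧ hf σ J (w l) (w l) = 0) :
    tens (s.piecewise (fun l => hrk σ J (w l) (w l)) 1) ∈ Submodule.span F (MR hJ H i) := by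
  classical
  have hA := hJ.isHerm
  suffices ∀ r : Finset (RS' i), r ⊆ s →
      tens (s.piecewise (fun l => hrk σ J (r.piecewise w v l) (r.piecewise w v l)) 1) ∈ Submodule.span F (MR hJ H i) by
    have h := this s le_rfl
    rwa [show (s.piecewise (fun l => hrk σ J (s.piecewise w v l) (s.piecewise w v l)) 1) =
      s.piecewise (fun l => hrk σ J (w l) (w l)) 1 from funext fun l => by
        by_cases hl : l ∈ s <;> simp [hl]] at h
  intro r
  induction r using Finset.induction_on with
  | empty => intro; simpa using hmem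
  | insert j r hj ih =>
    intro hsub
    have hjs : j ∈ s := hsub (Finset.mem_insert_self j r)
    have h := ih fun l hl => hsub (Finset.mem_insert_of_mem hl)
    obtain ⟨a, ha, l, hl, e⟩ := exists_TU_line hA (hv j hjs).1 (hv j hjs).2 (hw j hjs).1 (hw j hjs).2
    have hau := Herm.TUon_le_suG hA ⊤ ha
    set g := LinearMap.toMatrix' a.toLinearMap with hg
    set g' := LinearMap.toMatrix' a.symm.toLinearMap
    have hgg : g * g' = 1 := by rw [hg, ← LinearMap.toMatrix'_comp]; simp
    have hgx : ∀ z, g *ᵥ z = a z := fun z => by rw [hg, LinearMap.toMatrix'_mulVec]; rfl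
    have hgi : ∀ x y, hf σ J (g *ᵥ x) (g *ᵥ y) = hf σ J x y := fun x y => by rw [hgx, hgx]; exact hau.1 x y
    have hgd : g.det = 1 := by
      rw [hg, LinearMap.det_toMatrix']; simpa [Units.ext_iff] using hau.2
    have h2 := Submodule.smul_mem _ (l * σ l)⁻¹ (hb.span_conj i j hgi hgd hgg h)
    rw [sl_tens_sl j g g' hgg, Finset.piecewise_eq_of_mem _ _ _ hjs, Finset.piecewise_eq_of_notMem _ _ _ hj,
      conj_hrk hgi hgg, hgx, e, hrk_smul_left, hrk_smul_right, smul_smul, tens_update_smul, smul_smul,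
      inv_mul_cancel₀ (mul_ne_zero hl ((map_ne_zero σ).2 hl)), one_smul] at h2
    convert h2 using 2
    funext m
    rcases eq_or_ne m j with rfl | hm
    · simp [hjs]
    · by_cases hms : m ∈ s <;> simp [hms, hm, Finset.piecewise]

/-- a single slot factor -/
theorem single {s : Finset (RS' i)}
    (hall : ∀ w : RS' i → Fin k → F, (∀ l ∈ s, w l ≠ 0 ∧ hf σ J (w l) (w l) = 0) →
      tens (s.piecewise (fun l => hrk σ J (w l) (w l)) 1) ∈ Submodule.span F (MR hJ H i))
    (hs : s.Nonempty) (T : RS' i → Matrix (Fin k) (Fin k) F) (hT : ∀ l ∉ s, T l = 1) :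
    tens T ∈ Submodule.span F (MR hJ H i) := by
  classical
  suffices ∀ r : Finset (RS' i), ∀ T : RS' i → Matrix (Fin k) (Fin k) F, (∀ l ∉ s, T l = 1) → r ⊆ s →
      (∀ l ∈ s, l ∉ r → ∃ a b, hf σ J a a = 0 ∧ hf σ J b b = 0 ∧ hf σ J a b ≠ 0 ∧ T l = hrk σ J a b) →
      tens T ∈ Submodule.span F (MR hJ H i) by
    exact this s T hT le_rfl fun l hl hl' => absurd hl hl'
  intro r
  induction r using Finset.induction_on with
  | empty =>
    intro T hT _ hTs
    have h' : ∀ l, ∃ p : (Fin k → F) × (Fin k → F), l ∈ s →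
        hf σ J p.1 p.1 = 0 ∧ hf σ J p.2 p.2 = 0 ∧ hf σ J p.1 p.2 ≠ 0 ∧ T l = hrk σ J p.1 p.2 := fun l => by
      by_cases hl : l ∈ s
      · obtain ⟨a, b, h⟩ := hTs l hl (Finset.notMem_empty l)
        exact ⟨(a, b), fun _ => h⟩
      · exact ⟨(0, 0), fun h => absurd h hl⟩
    choose p hp using h'
    have hne : ∀ l ∈ s, (p l).1 ≠ 0 ∧ (p l).2 ≠ 0 := fun l hl => by
      obtain ⟨-, -, h, -⟩ := hp l hl
      exact ⟨fun e => h (by rw [e, map_zero, LinearMap.zero_apply]), fun e => h (by rw [e, map_zero])⟩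
    have h1 := hb.sz_tens s hs (fun l => (p l).1) (fun l hl => (hp l hl).1)
      (hall _ fun l hl => ⟨(hne l hl).1, (hp l hl).1⟩)
    have h2 := hb.sz_tens s hs (fun l => (p l).2) (fun l hl => (hp l hl).2.1)
      (hall _ fun l hl => ⟨(hne l hl).2, (hp l hl).2.1⟩)
    have h3 := (hb.slot i).span_mul h1 h2
    rw [Module.End.mul_eq_comp, ← toLin'_mul, tens_mul] at h3
    have h4 := hb.mem_span_of_lin h3
    set d : RS' i → F := s.piecewise (fun l => hf σ J (p l).1 (p l).2) 1 with hd
    have e : (s.piecewise (fun l => hrk σ J (p l).1 (p l).1) 1 * s.piecewise (fun l => hrk σ J (p l).2 (p l).2) 1) =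
        fun l => d l • T l := funext fun l => by
      by_cases hl : l ∈ s
      · simp only [hd, Pi.mul_apply, Finset.piecewise_eq_of_mem _ _ _ hl, hrk_mul_hrk, (hp l hl).2.2.2]
      · simp [hd, hl, hT l hl]
    rw [e, tens_smul] at h4
    have hd0 : ∏ l, d l ≠ 0 := Finset.prod_ne_zero_iff.2 fun l _ => by
      by_cases hl : l ∈ s
      · rw [hd, Finset.piecewise_eq_of_mem _ _ _ hl]; exact (hp l hl).2.2.1
      · simp [hd, hl]
    have := Submodule.smul_mem _ (∏ l, d l)⁻¹ h4
    rwa [inv_smul_smul₀ hd0] at this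
  | insert j r hj ih =>
    intro T hT hsub hTs
    have hjs : j ∈ s := hsub (Finset.mem_insert_self j r)
    let L : Matrix (Fin k) (Fin k) F →ₗ[F] Matrix (RS' i → Fin k) (RS' i → Fin k) F :=
      { toFun := fun X => tens (Function.update T j X)
        map_add' := tens_update_add T j
        map_smul' := fun c X => tens_update_smul T j c X }
    have htop := span_hrk hJ hb.dim3 ((Submodule.span F (MR hJ H i)).comap L) fun a b ha hb' hab => by
      refine ih _ (fun l hl => ?_) (fun l hl => hsub (Finset.mem_insert_of_mem hl)) fun l hl hlr => ?_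
      · rw [Function.update_of_ne fun e => hl (by rw [e]; exact hjs)]; exact hT l hl
      · rcases eq_or_ne l j with rfl | hlj
        · exact ⟨a, b, ha, hb', hab, Function.update_self ..⟩
        · rw [Function.update_of_ne hlj]; exact hTs l hl fun h => (Finset.mem_insert.1 h).elim hlj hlr
    have := (htop ▸ Submodule.mem_top : T j ∈ (Submodule.span F (MR hJ H i)).comap L)
    rwa [Submodule.mem_comap, show L (T j) = tens (Function.update T j (T j)) from rfl, Function.update_eq_self] at this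

/-- slot roots from the operators -/
theorem pair_of_MR (i : Fin t) (l : RS' i) (h : ∀ v, v ≠ 0 → hf σ J v v = 0 → ∀ c : F, c + σ c = 0 →
    c • sl l (hrk σ J v v) ∈ MR hJ H i) : Pair hJ H i l.1 := by
  intro u v hu0 hu hv0 hv c hc
  refine ⟨_, h v hv0 hv c hc u hu0 hu, fun z => ?_⟩
  rw [rad_eq hJ i hu, smat_smul_right, smat_sl_sl]

theorem MR_of_pair (i : Fin t) (l : RS' i) (h : Pair hJ H i l.1) {v : Fin k → F} (hv0 : v ≠ 0)
    (hv : hf σ J v v = 0) {c : F} (hc : c + σ c = 0) : c • sl l (hrk σ J v v) ∈ MR hJ H i := by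
  obtain ⟨u, hu0, hu⟩ := (hb.slot i).exists_iso
  obtain ⟨g, hg, hgz⟩ := h u v hu0 hu hv0 hv c hc
  have e : g = (frame hJ i).rad u (toLin' (c • sl l (hrk σ J v v))) := LinearEquiv.ext fun z => by
    rw [hgz, rad_eq hJ i hu, smat_smul_right, smat_sl_sl]
  have := (hb.slot i).rad_mem_RS hu0 hu (e ▸ hg) (map_one σ)
  rwa [one_smul] at this

theorem pair_symm {a b : Fin t} (hab : a ≠ b) (h : Pair hJ H a b) : Pair hJ H b a := fun u v hu0 hu hv0 hv c hc => by
  obtain ⟨g, hg, hgz⟩ := h v u hv0 hv hu0 hu c hc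
  exact ⟨g, hg, fun z => by rw [hgz, (sl_commute hab _ _).eq]⟩

/-- a three-cycle moves a pair -/
theorem pair_cyc {a b c : Fin t} (hab : a ≠ b) (hbc : b ≠ c) (hac : a ≠ c) (h : Pair hJ H a b) : Pair hJ H b c := by
  intro u v hu0 hu hv0 hv d hd
  obtain ⟨g, hg, hgz⟩ := h u v hu0 hu hv0 hv d hd
  obtain ⟨p, hp, hpz⟩ := hb.cyc a b c hab hbc hac
  refine ⟨p * g * p⁻¹, mul_mem (mul_mem hp hg) (inv_mem hp), fun z => ?_⟩
  set π := Equiv.swap a b * Equiv.swap b c
  have hπa : π a = b := by
    show Equiv.swap a b (Equiv.swap b c a) = b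
    rw [Equiv.swap_apply_of_ne_of_ne hab hac, Equiv.swap_apply_left]
  have hπb : π b = c := by
    show Equiv.swap a b (Equiv.swap b c b) = c
    rw [Equiv.swap_apply_left, Equiv.swap_apply_of_ne_of_ne hac.symm hbc.symm]
  obtain ⟨z, rfl⟩ := p.surjective z
  rw [LinearEquiv.mul_apply, inv_apply, LinearEquiv.mul_apply, hgz, hpz, hpz, mulVec_mulVec, mulVec_mulVec]
  congr 1
  rw [mul_add, mul_one, add_mul, one_mul, mul_smul_comm, smul_mul_assoc]
  congr 2
  rw [← mul_assoc, permM_mul_sl, mul_assoc, permM_mul_sl, hπa, hπb, mul_assoc]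

theorem pair_all {a b : Fin t} (hab : a ≠ b) (h : Pair hJ H a b) : ∀ x y : Fin t, x ≠ y → Pair hJ H x y := by
  -- replace one end
  have step : ∀ {x y : Fin t}, x ≠ y → Pair hJ H x y → ∀ z, z ≠ x → Pair hJ H x z := by
    intro x y hxy hp z hzx
    rcases eq_or_ne z y with rfl | hzy
    · exact hp
    exact hb.pair_cyc hxy.symm (Ne.symm hzx) (Ne.symm hzy) (hb.pair_symm hxy hp)
  intro x y hxy
  rcases eq_or_ne x a with rfl | hxa
  · exact step hab h y (Ne.symm hxy)
  · exact step hxa (hb.pair_symm (Ne.symm hxa) (step hab h x hxa)) y (Ne.symm hxy)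

/-- every skew operator is realised -/
theorem MR_all {i₀ : Fin t} {u : Fin k → F} (hu0 : u ≠ 0) (hu : hf σ J u u = 0)
    {S : Module.End F ((RS' i₀ → Fin k) → F)} (hS : (frame hJ i₀).rad u S ∈ H)
    (hns : ¬ ∃ μ : F, ∀ y, S y = μ • y) (i : Fin t) (T : Matrix (RS' i → Fin k) (RS' i → Fin k) F)
    (hT : ∀ x y, hf σ (GV J) (T *ᵥ x) y + hf σ (GV J) x (T *ᵥ y) = 0) : T ∈ MR hJ H i := by
  classical
  haveI : Nonempty (Fin k) := ⟨⟨0, by have := hb.dim3; omega⟩⟩
  have hS' : LinearMap.toMatrix' S ∈ MR hJ H i₀ := by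
    show toLin' (LinearMap.toMatrix' S) ∈ RS (frame hJ i₀) H
    rw [toLin'_toMatrix']
    have := (hb.slot i₀).rad_mem_RS hu0 hu hS (map_one σ)
    rwa [one_smul] at this
  obtain ⟨l, A, hl⟩ : ∃ l A, ¬ Commute (LinearMap.toMatrix' S) (sl l A) := by
    by_contra! h
    obtain ⟨μ, hμ⟩ := eq_smul_one_of_commute _ fun l A => (h l A).eq
    refine hns ⟨μ, fun y => ?_⟩
    rw [← LinearMap.toMatrix'_mulVec, hμ, smul_mulVec, one_mulVec]
  obtain ⟨s, v, hs, hv, hmem⟩ := hb.grow (i := i₀) _ ∅ (fun _ => 0) rfl (by simp) (LinearMap.toMatrix' S)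
    (by rw [Finset.piecewise_empty, tens_one, one_mul]; exact Submodule.subset_span hS')
    (fun e => hl (by rw [e]; exact Commute.zero_left _)) (by simp) (Or.inr ⟨l, A, hl⟩)
  obtain ⟨j, hj⟩ := hs
  have hpair : Pair hJ H i₀ j.1 := hb.pair_of_MR i₀ j fun v' hv'0 hv' c hc => by
    refine hb.MR_of_span (Submodule.smul_mem _ c (hb.single (fun w hw => hb.all_tuples hv hmem w hw) ⟨j, hj⟩
      (Function.update 1 j (hrk σ J v' v')) fun l hl => Function.update_of_ne (fun e => hl (by rwa [e])) _ _)) fun x y => ?_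
    have e : sl j (hrk σ J v' v') = tens (({j} : Finset (RS' i₀)).piecewise (fun _ => hrk σ J v' v') 1) := by
      rw [Finset.piecewise_singleton]; rfl
    rw [e, smul_mulVec, smul_mulVec,
      map_smulₛₗ, LinearMap.smul_apply, map_smul, tens_self hJ {j} (fun _ => v'), smul_eq_mul, smul_eq_mul]
    linear_combination (hf σ (GV J) x (tens (({j} : Finset (RS' i₀)).piecewise (fun _ => hrk σ J v' v') 1) *ᵥ y)) * hc
  have hne : i₀ ≠ j.1 := fun e => j.2 () e
  have hsing : ∀ (l : RS' i) (w : Fin k → F), w ≠ 0 → hf σ J w w = 0 → ∀ c : F, c + σ c = 0 →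
      c • sl l (hrk σ J w w) ∈ MR hJ H i :=
    fun l w hw0 hw c hc => hb.MR_of_pair i l (hb.pair_all hne hpair i l.1 fun e => l.2 () e) hw0 hw hc
  obtain ⟨d, hd0, hd⟩ := Herm.exists_skew hJ.invol
  have hall : ∀ s : Finset (RS' i), s.Nonempty → ∀ w : RS' i → Fin k → F,
      (∀ l ∈ s, w l ≠ 0 ∧ hf σ J (w l) (w l) = 0) →
      tens (s.piecewise (fun l => hrk σ J (w l) (w l)) 1) ∈ Submodule.span F (MR hJ H i) := by
    intro s
    induction s using Finset.induction_on with
    | empty => intro h; simp at h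
    | insert j r hjr ih =>
      intro _ w hw
      obtain ⟨hj0, hjj⟩ := hw j (Finset.mem_insert_self j r)
      have hone : tens (({j} : Finset (RS' i)).piecewise (fun l => hrk σ J (w l) (w l)) 1) ∈
          Submodule.span F (MR hJ H i) := by
        rw [Finset.piecewise_singleton]
        have := Submodule.smul_mem _ d⁻¹ (Submodule.subset_span (R := F)
          (hsing j (w j) hj0 hjj d (by rw [hd, add_neg_cancel])))
        rwa [inv_smul_smul₀ hd0] at this
      rcases r.eq_empty_or_nonempty with rfl | hr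
      · convert hone using 2
        funext l
        by_cases hlj : l = j <;> simp [Finset.piecewise, hlj]
      have h1 := hb.sz_tens {j} (Finset.singleton_nonempty j) w (fun l hl => (hw l (by simp at hl; simp [hl])).2) hone
      have h2 := hb.sz_tens r hr w (fun l hl => (hw l (Finset.mem_insert_of_mem hl)).2)
        (ih hr w fun l hl => hw l (Finset.mem_insert_of_mem hl))
      have h3 := (hb.slot i).span_mul h1 h2
      rw [Module.End.mul_eq_comp, ← toLin'_mul, tens_mul] at h3
      convert hb.mem_span_of_lin h3 using 2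
      funext l
      rcases eq_or_ne l j with rfl | hlj
      · simp [hjr]
      · simp [hlj, Finset.piecewise]
  haveI : Nonempty (RS' i) := by
    have h2 := hb.two
    obtain ⟨j', hj'⟩ := Fintype.exists_ne_of_one_lt_card (by rw [Fintype.card_fin]; omega) i
    exact ⟨⟨j', fun _ => Ne.symm hj'⟩⟩
  refine hb.MR_of_span ?_ hT
  rw [matrix_eq_sum_single T]
  refine Submodule.sum_mem _ fun a _ => Submodule.sum_mem _ fun b _ => ?_
  have e : Matrix.single a b (T a b) = T a b • tens fun l : RS' i => Matrix.single (a l) (b l) (1 : F) := by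
    ext x y
    simp only [Matrix.smul_apply, tens_apply, smul_eq_mul, Matrix.single_apply, Finset.prod_boole, mul_ite, mul_one,
      mul_zero]
    simp [funext_iff, forall_and]
  rw [e]
  exact Submodule.smul_mem _ _ (hb.single (s := Finset.univ) (hall _ Finset.univ_nonempty) Finset.univ_nonempty _
    fun l hl => absurd (Finset.mem_univ l) hl)

end Base

end Cfsg.Agent.ClassicalMax.UnWreath
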