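import Cfsg.Agent.ClassicalMax.UnWreath.Stab

/-!
The operators supported on one isotropic `u ⊗ W`: their span, its skew part, and products of square-zero ones.
-/

set_option autoImplicit false
set_option linter.unusedSectionVars false
set_option linter.style.haveILetI false

namespace Cfsg.Agent.ClassicalMax.UnWreath

open Module Cfsg.Agent.Classical Cfsg.Agent.ClassicalMax Cfsg.Agent.ClassicalMax.UnTensor

variable {F U W V : Type*} [Field F] [Finite F] [AddCommGroup U] [Module F U] [AddCommGroup W] [Module F W]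
  [AddCommGroup V] [Module F V] [FiniteDimensional F U] [FiniteDimensional F W] [FiniteDimensional F V]
  {σ : F →+* F} {B : V →ₛₗ[σ] V →ₗ[F] F} {A : U →ₛₗ[σ] U →ₗ[F] F} {C : W →ₛₗ[σ] W →ₗ[F] F}
  {pt : U →ₗ[F] W →ₗ[F] V} {hF : Frame B A C pt} {H : Subgroup (V ≃ₗ[F] V)}

/-- the operators giving elements at every isotropic point -/
def RS (hF : Frame B A C pt) (H : Subgroup (V ≃ₗ[F] V)) : Set (Module.End F W) :=
  {S | ∀ u : U, u ≠ 0 → A u u = 0 → hF.rad u S ∈ H}

/-- a self-adjoint square-zero operator all of whose skew multiples are realised -/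
structure SZ (hF : Frame B A C pt) (H : Subgroup (V ≃ₗ[F] V)) (L : Module.End F W) : Prop where
  sq : L * L = 0
  self : ∀ a b, C (L a) b = C a (L b)
  mem : ∀ c : F, c + σ c = 0 → c • L ∈ RS hF H

theorem adj_add (T T' : Module.End F W) : hF.adj (T + T') = hF.adj T + hF.adj T' :=
  LinearMap.ext fun w => hF.eq_of_C fun y => by
    simp only [LinearMap.add_apply, map_add, hF.C_adj]

theorem adj_smul (r : F) (T : Module.End F W) : hF.adj (r • T) = σ r • hF.adj T :=
  LinearMap.ext fun w => hF.eq_of_C fun y => by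
    simp only [LinearMap.smul_apply, map_smulₛₗ, RingHom.id_apply, hF.C_adj, smul_eq_mul]

theorem adj_eq_of (T T' : Module.End F W) (h : ∀ a b, C (T a) b = C a (T' b)) : hF.adj T = T' :=
  LinearMap.ext fun w => hF.eq_of_C fun y => by rw [hF.C_adj, h]

namespace Slot

variable (hS : Slot hF H)
include hS

theorem rad_skew {u : U} (hu0 : u ≠ 0) (hu : A u u = 0) {S : Module.End F W} (h : hF.rad u S ∈ H) (e e' : W) :
    C (S e) e' + C e (S e') = 0 := by
  obtain ⟨f, hff, huf, hfu⟩ := exists_iso_partner hF.hA hu0 hu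
  have := hS.iso _ h (pt f e) (pt f e')
  simp only [hF.rad_apply hu, hF.ev_pt, huf, one_smul, map_add, LinearMap.add_apply, hF.prod, hu, hfu, hff,
    zero_mul, one_mul, zero_add, add_zero] at this
  linear_combination this

/-- one point determines all of them -/
theorem rad_mem_RS {u : U} (hu0 : u ≠ 0) (hu : A u u = 0) {S : Module.End F W} (h : hF.rad u S ∈ H) {k : F}
    (hk : σ k = k) : k • S ∈ RS hF H := by
  intro u' hu'0 hu'
  rcases eq_or_ne k 0 with rfl | hk0
  · rw [zero_smul, hF.rad_zero hu']; exact one_mem H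
  obtain ⟨a, ha, l, hl, hau⟩ := exists_TU_line hF.hA hu0 hu hu'0 hu'
  obtain ⟨r, hr⟩ := Herm.exists_norm hF.hA.toIsInvol (a := k / (l * σ l)) (by
    rw [map_div₀, map_mul, hF.hA.invol, hk, mul_comm (σ l)])
  have hlσ : l * σ l ≠ 0 := mul_ne_zero hl ((map_ne_zero σ).2 hl)
  have hr0 : r ≠ 0 := fun e => div_ne_zero hk0 hlσ (by rw [← hr, e, zero_mul])
  obtain ⟨b, hb, hbu⟩ := exists_TU_scale hF.hA hS.dimU hu0 hu hr0
  have hab := Herm.TUon_le_suG hF.hA ⊤ (mul_mem ha hb)
  set x := a * b with hx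
  obtain ⟨g, hg, -, hgp, hgev⟩ := hF.exists_lift (a := x) (b := LinearEquiv.refl F W) (μ := (1 : F)) (ν := 1)
    (fun p q => (hab.1 p q).trans (one_mul _).symm) (fun p q => (one_mul _).symm) (one_mul _)
  have hgH : g ∈ H := hS.lift x hab.1 (by simpa [Units.ext_iff] using hab.2) g fun p q => hgp p q
  have hxu : x u = (l * r) • u' := by rw [hx, LinearEquiv.mul_apply, hbu, map_smul, hau, smul_smul, mul_comm]
  suffices e : hF.rad u' (k • S) = g * hF.rad u S * g⁻¹ from e ▸ mul_mem (mul_mem hgH h) (inv_mem hgH)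
  refine LinearEquiv.ext fun z => ?_
  rw [hF.rad_apply hu', LinearEquiv.mul_apply, LinearEquiv.mul_apply, hF.rad_apply hu, map_add, apply_inv, hgp,
    LinearEquiv.refl_apply, hxu, map_smul pt, LinearMap.smul_apply, LinearMap.smul_apply, map_smul]
  have e1 := hgev u (g⁻¹ z)
  rw [apply_inv, hxu, map_smulₛₗ, LinearMap.smul_apply, LinearEquiv.refl_apply, one_smul] at e1
  rw [← e1, map_smul, map_smul, smul_smul]
  congr 2
  rw [map_mul, show k = l * σ l * (r * σ r) by rw [hr, mul_div_cancel₀ _ hlσ]]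
  ring

theorem RS_add {S T : Module.End F W} (hS' : S ∈ RS hF H) (hT : T ∈ RS hF H) : S + T ∈ RS hF H :=
  fun u hu0 hu => hF.rad_add hu S T ▸ mul_mem (hS' u hu0 hu) (hT u hu0 hu)

theorem RS_neg {S : Module.End F W} (hS' : S ∈ RS hF H) : -S ∈ RS hF H :=
  fun u hu0 hu => hF.rad_inv hu S ▸ inv_mem (hS' u hu0 hu)

theorem RS_sub {S T : Module.End F W} (hS' : S ∈ RS hF H) (hT : T ∈ RS hF H) : S - T ∈ RS hF H := by
  rw [sub_eq_add_neg]; exact hS.RS_add hS' (hS.RS_neg hT)

theorem RS_zero : (0 : Module.End F W) ∈ RS hF H := fun u _ hu => by rw [hF.rad_zero hu]; exact one_mem H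

theorem exists_iso : ∃ u : U, u ≠ 0 ∧ A u u = 0 := by
  obtain ⟨s, t, hs, -, hst, -⟩ := exists_pair hF.hA (by have := hS.dimU; omega)
  exact ⟨s, (pair_ne hF.hA hst).1, hs⟩

theorem RS_smul {S : Module.End F W} (hS' : S ∈ RS hF H) {k : F} (hk : σ k = k) : k • S ∈ RS hF H := by
  obtain ⟨u, hu0, hu⟩ := hS.exists_iso
  exact hS.rad_mem_RS hu0 hu (hS' u hu0 hu) hk

theorem RS_scalar {c : F} (hc : c + σ c = 0) : c • (1 : Module.End F W) ∈ RS hF H :=
  fun u _ hu => hS.lt_mem hu hc

theorem RS_skew {S : Module.End F W} (hS' : S ∈ RS hF H) (a b : W) : C (S a) b + C a (S b) = 0 := by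
  obtain ⟨u, hu0, hu⟩ := hS.exists_iso
  exact hS.rad_skew hu0 hu (hS' u hu0 hu) a b

/-- conjugation by maps of the second factor -/
theorem RS_conj {S : Module.End F W} (hS' : S ∈ RS hF H) {k : V ≃ₗ[F] V} (hk : k ∈ H) {b : W ≃ₗ[F] W}
    (hb : ∀ x y, k (pt x y) = pt x (b y)) : b.toLinearMap * S * b.symm.toLinearMap ∈ RS hF H := by
  intro u hu0 hu
  suffices e : hF.rad u (b.toLinearMap * S * b.symm.toLinearMap) = k * hF.rad u S * k⁻¹ from
    e ▸ mul_mem (mul_mem hk (hS' u hu0 hu)) (inv_mem hk)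
  refine LinearEquiv.ext fun z => ?_
  rw [hF.rad_apply hu, LinearEquiv.mul_apply, LinearEquiv.mul_apply, hF.rad_apply hu, map_add, apply_inv, hb]
  have hbi : ∀ y y', C (b y) (b y') = C y y' := fun y y' => by
    obtain ⟨w, hwu, -⟩ := exists_pairing_one hF.hA hu0
    have h1 := hS.iso k hk (pt w y) (pt u y')
    rw [hb, hb, hF.prod, hF.prod, hwu, one_mul, one_mul] at h1
    exact h1
  have he : b.symm (hF.ev u z) = hF.ev u (k⁻¹ z) := hF.eq_of_C fun y => by
    rw [← hbi, LinearEquiv.apply_symm_apply, hF.C_ev, ← hb, hF.C_ev, ← hS.iso k hk (pt u y) (k⁻¹ z), apply_inv]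
  rw [Module.End.mul_apply, Module.End.mul_apply, LinearEquiv.coe_coe, LinearEquiv.coe_coe, he]

/-- the skew part of the span -/
theorem RS_of_span {T : Module.End F W} (hT : T ∈ Submodule.span F (RS hF H))
    (hsk : ∀ a b, C (T a) b + C a (T b) = 0) : T ∈ RS hF H := by
  have key : ∀ a : F, a • T + σ a • (-hF.adj T) ∈ RS hF H := by
    clear hsk
    induction hT using Submodule.span_induction with
    | mem S hS' =>
      intro a
      rw [show hF.adj S = -S from adj_eq_of S (-S) fun x y => by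
          have := hS.RS_skew hS' x y
          rw [LinearMap.neg_apply, map_neg]
          linear_combination this, neg_neg, ← add_smul]
      exact hS.RS_smul hS' (by rw [map_add, hF.hA.invol, add_comm])
    | zero =>
      intro a
      rw [show hF.adj (0 : Module.End F W) = 0 from adj_eq_of 0 0 fun x y => by simp]
      simpa using hS.RS_zero
    | add S T _ _ ihS ihT =>
      intro a
      rw [adj_add, show a • (S + T) + σ a • -(hF.adj S + hF.adj T) =
        (a • S + σ a • -hF.adj S) + (a • T + σ a • -hF.adj T) by module]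
      exact hS.RS_add (ihS a) (ihT a)
    | smul r S _ ih =>
      intro a
      rw [adj_smul, show a • r • S + σ a • -(σ r • hF.adj S) = (a * r) • S + σ (a * r) • -hF.adj S by
        rw [map_mul]; module]
      exact ih _
  obtain ⟨θ, hθ⟩ := Herm.exists_trace hF.hA.toIsInvol (a := (1 : F)) (map_one σ)
  have h := key θ
  rwa [show hF.adj T = -T from adj_eq_of T (-T) fun x y => by
      rw [LinearMap.neg_apply, map_neg]
      linear_combination hsk x y, neg_neg, ← add_smul, hθ, one_smul] at h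

/-- products of two square-zero operators -/
theorem mixed_mem {L L' : Module.End F W} (hL : SZ hF H L) (hL' : SZ hF H L') (ω : F) :
    ω • (L * L') - σ ω • (L' * L) ∈ RS hF H := by
  have hA := hF.hA
  have hC := hF.hC
  obtain ⟨u, hu0, hu⟩ := hS.exists_iso
  obtain ⟨f, hff, huf, hfu⟩ := exists_iso_partner hA hu0 hu
  have hf0 : f ≠ 0 := fun e => one_ne_zero (α := F) (by rw [← hfu, e, map_zero, LinearMap.zero_apply])
  obtain ⟨m, hum, hfm, hmu, hmf, hmm⟩ := exists_perp_pair_value hA hS.dimU hu hff huf (c := (1 : F)) (map_one σ)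
  obtain ⟨c, hc0, hc⟩ := Herm.exists_skew hA.toIsInvol
  have hc' : c + σ c = 0 := by rw [hc, add_neg_cancel]
  have hgen : ∀ {L : Module.End F W}, SZ hF H L → ∀ μ : F, ∃ E ∈ H, ∃ ρ, Hel hF u E (-(pt (μ • m)) ∘ₗ (1 + L)) ρ := by
    intro L hL μ
    have hsq : ∀ y, L (L y) = 0 := fun y => LinearMap.congr_fun hL.sq y
    have hS1 : c • (1 : Module.End F W) + c • L ∈ RS hF H := hS.RS_add (hS.RS_scalar hc') (hL.mem c hc')
    have hcinv : c⁻¹ + σ c⁻¹ = 0 := by rw [map_inv₀, hc, inv_neg, add_neg_cancel]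
    have hT1 : (-c⁻¹) • (1 : Module.End F W) + c⁻¹ • L ∈ RS hF H :=
      hS.RS_add (hS.RS_scalar (by rw [map_neg]; linear_combination -hcinv)) (hL.mem _ hcinv)
    have hcn : (-c) + σ (-c) = 0 := by rw [map_neg]; linear_combination -hc'
    set r₁ := hF.rad u (c • (1 : Module.End F W) + c • L)
    set r₂ := hF.rad f ((-c⁻¹) • (1 : Module.End F W) + c⁻¹ • L)
    set r₃ := hF.lt u (-c)
    set r₄ := hF.lt f c⁻¹
    set h := r₁ * r₂ * r₁ * (r₃ * r₄ * r₃) with hh
    have hhH : h ∈ H := mul_mem (mul_mem (mul_mem (hS1 u hu0 hu) (hT1 f hf0 hff)) (hS1 u hu0 hu))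
      (mul_mem (mul_mem (hS.lt_mem hu hcn) (hS.lt_mem hff hcinv)) (hS.lt_mem hu hcn))
    have ha : ∀ y, h (pt u y) = pt u ((1 + L) y) := fun y => by
      simp only [hh, r₁, r₂, r₃, r₄, LinearEquiv.mul_apply, hF.rad_apply hu, hF.rad_apply hff, hF.lt_apply hu,
        hF.lt_apply hff, map_add, map_smul, map_neg, hF.ev_pt, hu, hff, huf, hfu, zero_smul, one_smul,
        smul_zero, map_zero, zero_add, add_zero, LinearMap.add_apply, LinearMap.smul_apply, Module.End.one_apply, hsq,
        LinearMap.neg_apply, smul_smul, smul_add, neg_mul, mul_neg, mul_inv_cancel₀ hc0, inv_mul_cancel₀ hc0]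
      match_scalars <;> field_simp <;> ring
    have hm : ∀ y, h (pt (μ • m) y) = pt (μ • m) y := fun y => by
      simp only [hh, r₁, r₂, r₃, r₄, LinearEquiv.mul_apply, hF.rad_apply hu, hF.rad_apply hff, hF.lt_apply hu,
        hF.lt_apply hff, map_smul pt, LinearMap.smul_apply, map_smul, hF.ev_pt, hum, hfm, zero_smul, smul_zero,
        map_zero, add_zero]
    have hadj : hF.adj (1 + L) = 1 + L := adj_eq_of _ _ fun a b => by
      simp only [LinearMap.add_apply, Module.End.one_apply, map_add, hL.self]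
    obtain ⟨E, hE, κ, HE⟩ := hS.exists_eichler' (w := μ • m) hu (by rw [map_smul, hum, smul_zero])
    have hinj : Function.Injective (1 + L : Module.End F W) := (injective_iff_map_eq_zero _).2 fun y hy => by
      rw [LinearMap.add_apply, Module.End.one_apply] at hy
      have := congrArg L hy
      rw [map_add, hsq, add_zero, map_zero] at this
      rwa [this, add_zero] at hy
    refine ⟨h * E * h⁻¹, mul_mem (mul_mem hhH hE) (inv_mem hhH), ?_⟩
    have H1 := HE.conj hu (hS.iso h hhH) ha (fun y => ⟨y - L y, by simp [hsq]⟩) hinj fun z => by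
      rw [stab_ev_inv (hF := hF) (hS.iso h hhH) ha, hadj]
    rw [show h.toLinearMap ∘ₗ (-pt (μ • m)) ∘ₗ (1 + L : Module.End F W) = -(pt (μ • m)) ∘ₗ (1 + L) from
      LinearMap.ext fun y => by
        simp only [LinearMap.comp_apply, LinearMap.neg_apply, LinearEquiv.coe_coe, map_neg, hm]] at H1
    exact ⟨_, H1⟩
  obtain ⟨E, hE, ρ, HE⟩ := hgen hL 1
  obtain ⟨E', hE', ρ', HE'⟩ := hgen hL' ω
  obtain ⟨S, hSe, hSC⟩ := HE.comm hu HE' hu0
  have hSR : S ∈ RS hF H := one_smul F S ▸ hS.rad_mem_RS hu0 hu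
    (hSe ▸ mul_mem (mul_mem hE hE') (inv_mem (mul_mem hE' hE))) (map_one σ)
  have hX : S = -(ω • ((1 + L) * (1 + L')) - σ ω • ((1 + L') * (1 + L))) := LinearMap.ext fun y => hF.eq_of_C fun e => by
    have h1 := hSC e y
    have h2 := hS.RS_skew hSR e y
    simp only [LinearMap.comp_apply, LinearMap.neg_apply, map_neg, neg_neg, hF.prod, map_smulₛₗ, LinearMap.smul_apply,
      hmm, smul_eq_mul, mul_one, RingHom.id_apply, map_one] at h1
    simp only [LinearMap.neg_apply, LinearMap.sub_apply, LinearMap.smul_apply, map_neg, map_sub, map_smul, smul_eq_mul,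
      Module.End.mul_apply, LinearMap.add_apply, Module.End.one_apply, map_add, hL.self, hL'.self] at h1 ⊢
    linear_combination h2 - h1
  have hd : (ω - σ ω) + σ (ω - σ ω) = 0 := by rw [map_sub, hA.invol]; ring
  have h := hS.RS_sub (hS.RS_sub (hS.RS_sub (hS.RS_neg hSR) (hS.RS_scalar hd)) (hL.mem _ hd)) (hL'.mem _ hd)
  convert h using 1
  rw [hX]
  simp only [mul_add, add_mul, one_mul, mul_one]
  module

/-- the span is closed under products of two square-zero operators -/
theorem span_mul {L L' : Module.End F W} (hL : SZ hF H L) (hL' : SZ hF H L') :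
    L * L' ∈ Submodule.span F (RS hF H) := by
  obtain ⟨ω, hω⟩ := Herm.exists_moved hF.hA.toIsInvol
  have h1 := Submodule.subset_span (R := F) (hS.mixed_mem hL hL' ω)
  have h2 := Submodule.subset_span (R := F) (hS.mixed_mem hL hL' 1)
  rw [map_one, one_smul, one_smul] at h2
  have h := Submodule.smul_mem _ (ω - σ ω)⁻¹ (sub_mem h1 (Submodule.smul_mem _ (σ ω) h2))
  convert h using 1
  rw [eq_inv_smul_iff₀ (sub_ne_zero.2 hω.symm)]
  module

/-- commuting square-zero operators multiply -/
theorem SZ_mul {L L' : Module.End F W} (hL : SZ hF H L) (hL' : SZ hF H L') (hcomm : L * L' = L' * L) :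
    SZ hF H (L * L') := by
  refine ⟨?_, fun a b => ?_, fun c hc => ?_⟩
  · rw [show L * L' * (L * L') = L * (L' * L) * L' by simp only [mul_assoc], ← hcomm,
      show L * (L * L') * L' = (L * L) * (L' * L') by simp only [mul_assoc], hL.sq, zero_mul]
  · rw [Module.End.mul_apply, hL.self, hL'.self, ← Module.End.mul_apply L' L, ← hcomm]
  · obtain ⟨ω, hω⟩ := Herm.exists_antitrace hF.hA.toIsInvol (k := -c) (by rw [map_neg]; linear_combination -hc)
    have h := hS.mixed_mem hL hL' ω
    rwa [← hcomm, ← sub_smul, show ω - σ ω = c by linear_combination -hω] at h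

end Slot

end Cfsg.Agent.ClassicalMax.UnWreath
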