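import Cfsg.Agent.ClassicalMax.UnWreath.Stab
import Cfsg.Agent.ClassicalMax.SpWreath.Basic

/-!
The tensor power of a Hermitian space in coordinates, with the frame of each slot.
-/

set_option autoImplicit false
set_option linter.unusedSectionVars false
set_option linter.style.haveILetI false

namespace Cfsg.Agent.ClassicalMax.UnWreath

open Matrix Module Cfsg.Agent.Classical Cfsg.Agent.ClassicalMax Cfsg.Agent.ClassicalMax.UnTensor
  Cfsg.Agent.ClassicalMax.TPow
open Cfsg.Agent.ClassicalMax.SpWreath (GV GV_det)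
open scoped Kronecker

variable {F : Type*} [Field F] {σ : F →+* F}

section Form

variable (σ) {ν : Type} [Fintype ν] [DecidableEq ν]

/-- the sesquilinear form of a matrix -/
noncomputable def hf (G : Matrix ν ν F) : (ν → F) →ₛₗ[σ] (ν → F) →ₗ[F] F :=
  LinearMap.mk₂'ₛₗ σ (RingHom.id F) (fun x y => bf G (σ ∘ x) y)
    (fun x x' y => by
      rw [show σ ∘ (x + x') = σ ∘ x + σ ∘ x' from funext fun a => map_add σ _ _, bf_add_left])
    (fun c x y => by
      rw [show σ ∘ (c • x) = σ c • (σ ∘ x) from funext fun a => map_mul σ _ _, bf_smul_left, smul_eq_mul])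
    (fun x y y' => bf_add_right G _ _ _)
    (fun c x y => bf_smul_right G c _ _)

theorem hf_apply (G : Matrix ν ν F) (x y : ν → F) : hf σ G x y = bf G (σ ∘ x) y := rfl

/-- the operator `x ↦ B(v, x) u` of the form -/
def hrk (G : Matrix ν ν F) (u v : ν → F) : Matrix ν ν F := rk G u (σ ∘ v)

theorem hrk_mulVec (G : Matrix ν ν F) (u v x : ν → F) : hrk σ G u v *ᵥ x = hf σ G v x • u := rk_mulVec G _ _ _

theorem mul_hrk (G M : Matrix ν ν F) (u v : ν → F) : M * hrk σ G u v = hrk σ G (M *ᵥ u) v := mul_rk G M _ _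

theorem hrk_mul_hrk (G : Matrix ν ν F) (u v w z : ν → F) :
    hrk σ G u v * hrk σ G w z = hf σ G v w • hrk σ G u z := rk_mul_rk G _ _ _ _

theorem hrk_smul_left (G : Matrix ν ν F) (c : F) (u v : ν → F) : hrk σ G (c • u) v = c • hrk σ G u v :=
  rk_smul_left G c _ _

theorem hrk_add_left (G : Matrix ν ν F) (u u' v : ν → F) : hrk σ G (u + u') v = hrk σ G u v + hrk σ G u' v :=
  rk_add_left G _ _ _

theorem hrk_smul_right (G : Matrix ν ν F) (c : F) (u v : ν → F) : hrk σ G u (c • v) = σ c • hrk σ G u v := by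
  rw [hrk, show σ ∘ (c • v) = σ c • (σ ∘ v) from funext fun a => map_mul σ _ _, rk_smul_right]
  rfl

theorem hrk_add_right (G : Matrix ν ν F) (u v v' : ν → F) : hrk σ G u (v + v') = hrk σ G u v + hrk σ G u v' := by
  rw [hrk, show σ ∘ (v + v') = σ ∘ v + σ ∘ v' from funext fun a => map_add σ _ _, rk_add_right]
  rfl

variable {σ}

/-- a Hermitian matrix -/
structure HMat (σ : F →+* F) (G : Matrix ν ν F) : Prop where
  invol : Herm.IsInvol σ
  herm : Gᵀ = G.map σ
  det : IsUnit G.det

namespace HMat

variable {G : Matrix ν ν F} (hG : HMat σ G)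
include hG

theorem isHerm : Herm.IsHerm (hf σ G) where
  toIsInvol := hG.invol
  symm x y := by
    have e : ∀ a b, σ (G a b) = G b a := fun a b => (congrFun (congrFun hG.herm a) b).symm
    simp only [hf_apply, bf, dotProduct, mulVec, Function.comp_apply, map_sum, map_mul, hG.invol.invol, Finset.mul_sum, e]
    rw [Finset.sum_comm]
    exact Finset.sum_congr rfl fun a _ => Finset.sum_congr rfl fun b _ => by ring
  nondeg x hx := by
    by_contra hne
    have hσ : σ ∘ x ≠ 0 := fun h => hne (funext fun a => by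
      have := congrFun h a
      rw [Pi.zero_apply] at this ⊢
      exact (map_eq_zero σ).1 this)
    obtain ⟨y, hy⟩ := exists_bf_ne G hG.det hσ
    exact hy (hx y)

theorem hf_hrk (u v x y : ν → F) :
    hf σ G (hrk σ G u v *ᵥ x) y = hf σ G x (hrk σ G v u *ᵥ y) := by
  rw [hrk_mulVec, hrk_mulVec, map_smulₛₗ, LinearMap.smul_apply, map_smul, smul_eq_mul, smul_eq_mul, hG.isHerm.symm,
    mul_comm]

theorem hrk_ne_zero {u v : ν → F} (hu : u ≠ 0) (hv : v ≠ 0) : hrk σ G u v ≠ 0 :=
  rk_eq_zero G hG.det hu fun h => hv (funext fun a => by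
    have := congrFun h a
    rw [Pi.zero_apply] at this ⊢
    exact (map_eq_zero σ).1 this)

end HMat

end Form

/-! ### the coordinates of one slot -/

variable {k : ℕ} {β : Type} [Fintype β] [DecidableEq β]

/-- the slots other than one -/
abbrev RS' (i : β) : Type := Rest fun _ : Unit => i

/-- indices split at one slot -/
noncomputable def spl (i : β) : (β → Fin k) ≃ Fin k × (RS' i → Fin k) :=
  (split (Function.injective_of_subsingleton fun _ : Unit => i)).trans
    ((Equiv.funUnique Unit (Fin k)).prodCongr (Equiv.refl _))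

theorem spl_apply (i : β) (x : β → Fin k) : spl i x = (x i, fun j => x j.1) := rfl

/-- a matrix on one slot tensored with one on the others -/
noncomputable def smat (i : β) (Ma : Matrix (Fin k) (Fin k) F) (Mb : Matrix (RS' i → Fin k) (RS' i → Fin k) F) :
    Matrix (β → Fin k) (β → Fin k) F := (Ma ⊗ₖ Mb).submatrix (spl i) (spl i)

theorem smat_mul (i : β) (Ma Ma' : Matrix (Fin k) (Fin k) F) (Mb Mb' : Matrix (RS' i → Fin k) (RS' i → Fin k) F) :
    smat i Ma Mb * smat i Ma' Mb' = smat i (Ma * Ma') (Mb * Mb') := by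
  rw [smat, smat, smat, submatrix_mul_equiv, ← mul_kronecker_mul]

theorem smat_one (i : β) : smat (F := F) (k := k) i 1 1 = 1 := by
  rw [smat, one_kronecker_one, submatrix_one_equiv]

theorem smat_add_right (i : β) (Ma : Matrix (Fin k) (Fin k) F) (Mb Mb' : Matrix (RS' i → Fin k) (RS' i → Fin k) F) :
    smat i Ma (Mb + Mb') = smat i Ma Mb + smat i Ma Mb' := by
  rw [smat, smat, smat, kronecker_add]; rfl

theorem smat_smul_right (i : β) (c : F) (Ma : Matrix (Fin k) (Fin k) F) (Mb : Matrix (RS' i → Fin k) (RS' i → Fin k) F) :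
    smat i Ma (c • Mb) = c • smat i Ma Mb := by
  rw [smat, smat, kronecker_smul]; rfl

theorem smat_det (i : β) (Ma : Matrix (Fin k) (Fin k) F) (Mb : Matrix (RS' i → Fin k) (RS' i → Fin k) F) :
    (smat i Ma Mb).det = Ma.det ^ Fintype.card (RS' i → Fin k) * Mb.det ^ k := by
  rw [smat, det_submatrix_equiv_self, det_kronecker, Fintype.card_fin]

theorem smat_eq_tens (i : β) (T : β → Matrix (Fin k) (Fin k) F) :
    smat i (T i) (tens fun j : RS' i => T j.1) = tens T := by
  ext x y
  rw [smat, submatrix_apply, kronecker_apply, spl_apply, spl_apply, tens_apply, tens_apply,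
    prod_split (Function.injective_of_subsingleton fun _ : Unit => i) fun j => T j (x j) (y j)]
  simp

theorem smat_sl (i : β) (A : Matrix (Fin k) (Fin k) F) : smat i A 1 = sl i A := by
  rw [sl, ← smat_eq_tens i (Function.update 1 i A), Function.update_self]
  congr 1
  rw [← tens_one]
  congr 1
  funext j
  rw [Function.update_of_ne fun h => j.2 () h.symm]
  rfl

theorem smat_sl_rest (i : β) (l : RS' i) (A : Matrix (Fin k) (Fin k) F) : smat i 1 (sl l A) = sl l.1 A := by
  rw [sl, sl, ← smat_eq_tens i (Function.update 1 l.1 A), Function.update_of_ne fun h => l.2 () h]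
  congr 2
  funext j
  rcases eq_or_ne j l with rfl | hj
  · simp
  · rw [Function.update_of_ne hj, Function.update_of_ne fun h => hj (Subtype.ext h)]
    rfl

/-- pure vectors at one slot -/
noncomputable def pts (i : β) : (Fin k → F) →ₗ[F] ((RS' i → Fin k) → F) →ₗ[F] ((β → Fin k) → F) :=
  LinearMap.mk₂ F (fun u w x => u (x i) * w fun j => x j.1) (fun u u' w => funext fun x => add_mul _ _ _)
    (fun c u w => funext fun x => mul_assoc _ _ _) (fun u w w' => funext fun x => mul_add _ _ _)
    (fun c u w => funext fun x => mul_left_comm _ _ _)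

theorem pts_apply (i : β) (u : Fin k → F) (w : (RS' i → Fin k) → F) (x : β → Fin k) :
    pts i u w x = u (x i) * w fun j => x j.1 := rfl

theorem smat_pts (i : β) (Ma : Matrix (Fin k) (Fin k) F) (Mb : Matrix (RS' i → Fin k) (RS' i → Fin k) F)
    (u : Fin k → F) (w : (RS' i → Fin k) → F) : smat i Ma Mb *ᵥ pts i u w = pts i (Ma *ᵥ u) (Mb *ᵥ w) := by
  funext x
  rw [mulVec, dotProduct, ← Equiv.sum_comp (spl i).symm, Fintype.sum_prod_type, pts_apply, mulVec, mulVec, dotProduct,
    dotProduct, Finset.sum_mul_sum]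
  refine Finset.sum_congr rfl fun a _ => Finset.sum_congr rfl fun z _ => ?_
  have e := (spl i).apply_symm_apply (a, z)
  rw [spl_apply, Prod.mk.injEq] at e
  rw [smat, submatrix_apply, Equiv.apply_symm_apply, kronecker_apply, spl_apply, pts_apply, e.1, e.2]
  ring

theorem dot_pts (i : β) (u u' : Fin k → F) (w w' : (RS' i → Fin k) → F) :
    pts i u w ⬝ᵥ pts i u' w' = (u ⬝ᵥ u') * (w ⬝ᵥ w') := by
  rw [dotProduct, ← Equiv.sum_comp (spl i).symm, Fintype.sum_prod_type, dotProduct, dotProduct, Finset.sum_mul_sum]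
  refine Finset.sum_congr rfl fun a _ => Finset.sum_congr rfl fun z _ => ?_
  have e := (spl i).apply_symm_apply (a, z)
  rw [spl_apply, Prod.mk.injEq] at e
  rw [pts_apply, pts_apply, e.1, e.2]
  ring

variable {J : Matrix (Fin k) (Fin k) F}

theorem GV_smat (i : β) : (GV J : Matrix (β → Fin k) (β → Fin k) F) = smat i J (GV J) :=
  (smat_eq_tens i fun _ => J).symm

theorem hmat_GV (hJ : HMat σ J) : HMat σ (GV J : Matrix (β → Fin k) (β → Fin k) F) where
  invol := hJ.invol
  herm := by
    ext x y
    simp only [GV, tens_apply, transpose_apply, map_apply, map_prod]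
    exact Finset.prod_congr rfl fun j _ => congrFun (congrFun hJ.herm (x j)) (y j)
  det := GV_det hJ.det

/-- the form of the tensor power on pure vectors -/
theorem hf_pts (i : β) (u : Fin k → F) (w : (RS' i → Fin k) → F) (u' : Fin k → F) (w' : (RS' i → Fin k) → F) :
    hf σ (GV J) (pts i u w) (pts i u' w') = hf σ J u u' * hf σ (GV J) w w' := by
  rw [hf_apply, hf_apply, hf_apply, bf, bf, bf, GV_smat i, smat_pts,
    show σ ∘ pts i u w = pts i (σ ∘ u) (σ ∘ w) from funext fun x => map_mul σ _ _, dot_pts]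

/-- the frame of one slot -/
theorem frame (hJ : HMat σ J) (i : β) :
    Frame (hf σ (GV J)) (hf σ J) (hf σ (GV J (β := RS' i))) (pts i) where
  hB := (hmat_GV hJ).isHerm
  hA := hJ.isHerm
  hC := (hmat_GV hJ).isHerm
  prod := hf_pts i
  span z hz := by
    classical
    refine (hmat_GV hJ).isHerm.nondeg z fun y => (Herm.eq_zero_comm (hmat_GV hJ).isHerm).1 ?_
    rw [show y = ∑ x, y x • (Pi.single x (1 : F) : (β → Fin k) → F) from pi_eq_sum_univ' y, map_sum,
      LinearMap.sum_apply]
    refine Finset.sum_eq_zero fun x _ => ?_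
    rw [map_smulₛₗ, LinearMap.smul_apply, show (Pi.single x (1 : F) : (β → Fin k) → F) =
        pts i (Pi.single (x i) 1) (Pi.single (fun j : RS' i => x j.1) 1) from ?_, hz, smul_zero]
    funext y
    by_cases h : y = x
    · subst h; simp [pts_apply]
    · rw [Pi.single_eq_of_ne h, pts_apply]
      by_cases h1 : y i = x i
      · rw [Pi.single_eq_of_ne (i := fun j : RS' i => x j.1) (i' := fun j : RS' i => y j.1) (fun h2 =>
          h ((spl i).injective (by rw [spl_apply, spl_apply, h1, h2]))), mul_zero]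
      · rw [Pi.single_eq_of_ne h1, zero_mul]
  lift a b := by
    classical
    refine ⟨LinearEquiv.ofLinear (toLin' (smat i (LinearMap.toMatrix' a.toLinearMap) (LinearMap.toMatrix' b.toLinearMap)))
      (toLin' (smat i (LinearMap.toMatrix' a.symm.toLinearMap) (LinearMap.toMatrix' b.symm.toLinearMap))) ?_ ?_,
      fun u w => ?_⟩
    · rw [← toLin'_mul, smat_mul, ← LinearMap.toMatrix'_comp, ← LinearMap.toMatrix'_comp]
      simp [smat_one]
    · rw [← toLin'_mul, smat_mul, ← LinearMap.toMatrix'_comp, ← LinearMap.toMatrix'_comp]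
      simp [smat_one]
    · rw [LinearEquiv.ofLinear_apply, toLin'_apply, smat_pts]
      simp [LinearMap.toMatrix'_mulVec]

/-- a frame element supported on `u ⊗ W` as a matrix -/
theorem rad_eq [Finite F] (hJ : HMat σ J) (i : β) {u : Fin k → F} (hu : hf σ J u u = 0)
    (S : Matrix (RS' i → Fin k) (RS' i → Fin k) F) (z : (β → Fin k) → F) :
    (frame hJ i).rad u (toLin' S) z = (1 + smat i (hrk σ J u u) S) *ᵥ z := by
  have h : ((frame hJ i).rad u (toLin' S)).toLinearMap = toLin' (1 + smat i (hrk σ J u u) S) :=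
    (frame hJ i).ext_pure fun x y => by
      rw [LinearEquiv.coe_coe, (frame hJ i).rad_apply hu, (frame hJ i).ev_pt, toLin'_apply, toLin'_apply,
        add_mulVec, one_mulVec, smat_pts, hrk_mulVec, mulVec_smul, map_smul, map_smul (pts i), LinearMap.smul_apply]
  exact LinearMap.congr_fun h z

end Cfsg.Agent.ClassicalMax.UnWreath
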