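import Cfsg.Agent.ClassicalMax.UnTensor.Stab

/-!
Frames of a Hermitian space whose elements supported on one subspace `u ⊗ W` are scalar: the structure of the
stabiliser of such a subspace.
-/

set_option autoImplicit false
set_option linter.unusedSectionVars false
set_option linter.style.haveILetI false

namespace Cfsg.Agent.ClassicalMax.UnWreath

open Module Cfsg.Agent.Classical Cfsg.Agent.ClassicalMax Cfsg.Agent.ClassicalMax.UnTensor

variable {F U W V : Type*} [Field F] [Finite F] [AddCommGroup U] [Module F U] [AddCommGroup W] [Module F W]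
  [AddCommGroup V] [Module F V] [FiniteDimensional F U] [FiniteDimensional F W] [FiniteDimensional F V]
  {σ : F →+* F} {B : V →ₛₗ[σ] V →ₗ[F] F} {A : U →ₛₗ[σ] U →ₗ[F] F} {C : W →ₛₗ[σ] W →ₗ[F] F}
  {pt : U →ₗ[F] W →ₗ[F] V} {hF : Frame B A C pt} {H : Subgroup (V ≃ₗ[F] V)}

/-- isometries containing the special unitary group of the first factor -/
structure Slot (hF : Frame B A C pt) (H : Subgroup (V ≃ₗ[F] V)) : Prop where
  iso : ∀ g ∈ H, ∀ z z', B (g z) (g z') = B z z'
  lift : ∀ a : U ≃ₗ[F] U, (∀ x y, A (a x) (a y) = A x y) → LinearMap.det a.toLinearMap = 1 →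
    ∀ g : V ≃ₗ[F] V, (∀ x y, g (pt x y) = pt (a x) y) → g ∈ H
  dimU : 3 ≤ finrank F U
  posW : 0 < finrank F W

/-- only scalar elements are supported on one isotropic `u ⊗ W` -/
structure Rigid (hF : Frame B A C pt) (H : Subgroup (V ≃ₗ[F] V)) : Prop extends Slot hF H where
  scal : ∀ u : U, u ≠ 0 → A u u = 0 → ∀ S : W →ₗ[F] W, hF.rad u S ∈ H → ∃ μ : F, ∀ y, S y = μ • y

/-- a frame moved by an isometry -/
theorem frame_map (hF : Frame B A C pt) {g : V ≃ₗ[F] V} (hg : ∀ z z', B (g z) (g z') = B z z') :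
    Frame B A C (pt.compr₂ g.toLinearMap) where
  hB := hF.hB
  hA := hF.hA
  hC := hF.hC
  prod u y u' y' := (hg _ _).trans (hF.prod u y u' y')
  span z hz := by
    obtain ⟨z, rfl⟩ := g.surjective z
    rw [hF.span z fun u y => (hg _ _).symm.trans (hz u y), map_zero]
  lift a b := by
    obtain ⟨l, hl⟩ := hF.lift a b
    exact ⟨g * l * g⁻¹, fun x y => by
      show g (l (g⁻¹ (g (pt x y)))) = g (pt (a x) (b y))
      rw [inv_apply, hl]⟩

theorem frame_map_ev (hF : Frame B A C pt) {g : V ≃ₗ[F] V} (hg : ∀ z z', B (g z) (g z') = B z z') (v : U) (z : V) :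
    (frame_map hF hg).ev v z = hF.ev v (g⁻¹ z) := hF.eq_of_C fun y => by
  rw [(frame_map hF hg).C_ev, hF.C_ev, ← hg (pt v y), apply_inv]
  rfl

theorem frame_map_rad (hF : Frame B A C pt) {g : V ≃ₗ[F] V} (hg : ∀ z z', B (g z) (g z') = B z z') {u : U}
    (hu : A u u = 0) (S : W →ₗ[F] W) : (frame_map hF hg).rad u S = g * hF.rad u S * g⁻¹ :=
  LinearEquiv.ext fun z => by
    rw [(frame_map hF hg).rad_apply hu, LinearEquiv.mul_apply, LinearEquiv.mul_apply, hF.rad_apply hu, map_add,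
      apply_inv, frame_map_ev hF hg]
    rfl

theorem Rigid.map (hR : Rigid hF H) {g : V ≃ₗ[F] V} (hg : g ∈ H) : Rigid (frame_map hF (hR.iso g hg)) H where
  iso := hR.iso
  lift a ha hd l hl := by
    have h := hR.lift a ha hd (g⁻¹ * l * g) fun x y => by
      rw [LinearEquiv.mul_apply, LinearEquiv.mul_apply]
      exact (congrArg (⇑g⁻¹) (hl x y)).trans (inv_apply g _)
    have := mul_mem (mul_mem hg h) (inv_mem hg)
    rwa [← mul_assoc, ← mul_assoc, mul_inv_cancel, one_mul, mul_inv_cancel_right] at this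
  dimU := hR.dimU
  posW := hR.posW
  scal u hu0 hu S hS := by
    refine hR.scal u hu0 hu S ?_
    rw [frame_map_rad hF (hR.iso g hg) hu] at hS
    have := mul_mem (mul_mem (inv_mem hg) hS) hg
    rwa [← mul_assoc, ← mul_assoc, inv_mul_cancel, one_mul, inv_mul_cancel_right] at this

namespace Slot

variable (hS : Slot hF H)
include hS

theorem lt_mem {u : U} (hu : A u u = 0) {c : F} (hc : c + σ c = 0) : hF.lt u c ∈ H := by
  refine hS.lift (Herm.tvU hu c) (Herm.tvU_isometry hF.hA hu hc) ?_ _ fun x y => hF.lt_pt hu c x y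
  have := (Herm.tvU_mem hF.hA hu hc).2
  simpa [Units.ext_iff] using this

/-- the Eichler elements of the first factor, with a prescribed trace part -/
theorem exists_eichler {u w : U} (hu : A u u = 0) (huw : A u w = 0) {κ : F} (hκ : κ + σ κ = -A w w) :
    ∃ E ∈ H, Hel hF u E (-pt w) (hF.ev w + κ • hF.ev u) := by
  have hwu : A w u = 0 := (Herm.eq_zero_comm hF.hA).1 huw
  have hae : A (-w) u = 0 := by rw [map_neg, LinearMap.neg_apply, hwu, neg_zero]
  have hκ' : κ + σ κ = -A (-w) (-w) := by simp [hκ]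
  have hei := Herm.eichler_mem hF.hA hu hae hκ'
  obtain ⟨E, hE, -, hEp, -⟩ := hF.exists_lift (a := Herm.eichler hF.hA hu hae κ) (b := LinearEquiv.refl F W)
    (μ := (1 : F)) (ν := 1) (fun x y => (hei.1 x y).trans (one_mul _).symm) (fun x y => (one_mul _).symm) (one_mul _)
  have heq : ∀ z, E z = z + (-pt w) (hF.ev u z) + pt u ((hF.ev w + κ • hF.ev u) z) := by
    let R : V →ₗ[F] V := LinearMap.id + (-pt w) ∘ₗ hF.ev u + pt u ∘ₗ (hF.ev w + κ • hF.ev u)
    have : E.toLinearMap = R := hF.ext_pure fun x y => by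
      simp only [R, LinearEquiv.coe_coe, hEp, LinearEquiv.refl_apply, Herm.eichler_apply, LinearMap.add_apply,
        LinearMap.comp_apply, LinearMap.id_apply, LinearMap.smul_apply, LinearMap.neg_apply, hF.ev_pt, map_add,
        map_sub, map_neg, map_smul]
      module
    exact fun z => LinearMap.congr_fun this z
  refine ⟨E, hS.lift _ hei.1 (by simpa [Units.ext_iff] using hei.2) E fun x y => hEp x y,
    hE, fun e => by rw [LinearMap.neg_apply, map_neg, hF.ev_pt, huw, zero_smul, neg_zero], fun y => by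
      rw [LinearMap.add_apply, LinearMap.smul_apply, hF.ev_pt, hF.ev_pt, hwu, hu, zero_smul, smul_zero, add_zero], heq⟩

theorem exists_eichler' {u w : U} (hu : A u u = 0) (huw : A u w = 0) :
    ∃ E ∈ H, ∃ κ : F, Hel hF u E (-pt w) (hF.ev w + κ • hF.ev u) := by
  obtain ⟨κ, hκ⟩ := Herm.exists_trace hF.hA.toIsInvol (a := -A w w) (by rw [map_neg σ, Herm.fix_self hF.hA])
  obtain ⟨E, hE, HE⟩ := hS.exists_eichler hu huw hκ
  exact ⟨E, hE, κ, HE⟩

end Slot

/-- the part of a vector orthogonal to `u ⊗ W` -/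
noncomputable def proj (hF : Frame B A C pt) (u f : U) : V →ₗ[F] V := LinearMap.id - pt f ∘ₗ hF.ev u

theorem proj_ev {u f : U} (huf : A u f = 1) (z : V) : hF.ev u (proj hF u f z) = 0 := by
  rw [proj, LinearMap.sub_apply, LinearMap.id_apply, LinearMap.comp_apply, map_sub, hF.ev_pt, huf, one_smul, sub_self]

theorem proj_split (u f : U) (z : V) : z = pt f (hF.ev u z) + proj hF u f z := by
  rw [proj, LinearMap.sub_apply, LinearMap.id_apply, LinearMap.comp_apply, add_sub_cancel]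

/-- a linear map killing all pure vectors orthogonal to `u` kills the orthogonal of `u ⊗ W` -/
theorem ext_orth {M : Type*} [AddCommGroup M] [Module F M] (T : V →ₗ[F] M) {u : U} (hu0 : u ≠ 0) (hu : A u u = 0)
    (hT : ∀ c w, A u c = 0 → T (pt c w) = 0) {z : V} (hz : hF.ev u z = 0) : T z = 0 := by
  obtain ⟨f, -, huf, -⟩ := exists_iso_partner hF.hA hu0 hu
  have h : T ∘ₗ proj hF u f = 0 := hF.ext_pure fun x y => by
    have h1 := hT (x - A u x • f) y (by rw [map_sub, map_smul, huf, smul_eq_mul, mul_one, sub_self])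
    rw [map_sub pt, LinearMap.sub_apply, map_smul pt, LinearMap.smul_apply] at h1
    rw [LinearMap.comp_apply, proj, LinearMap.sub_apply, LinearMap.id_apply, LinearMap.comp_apply, hF.ev_pt,
      map_smul, LinearMap.zero_apply]
    exact h1
  have := LinearMap.congr_fun h z
  rwa [LinearMap.comp_apply, LinearMap.zero_apply, show proj hF u f z = z by
    rw [proj, LinearMap.sub_apply, LinearMap.id_apply, LinearMap.comp_apply, hz, map_zero, sub_zero]] at this

/-- modulo `u ⊗ W` vectors are seen by the contractions with `d ⊥ u` -/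
theorem triv_of_blocks (T : V →ₗ[F] V) {u : U} (hu0 : u ≠ 0) (hu : A u u = 0)
    (hT : ∀ d c w, A u d = 0 → A u c = 0 → hF.ev d (T (pt c w)) = 0) {z : V} (hz : hF.ev u z = 0) :
    T z ∈ LinearMap.range (pt u) :=
  hF.mem_R hu0 fun d hd => ext_orth ((hF.ev d).comp T) hu0 hu
    (fun c w hc => hT d c w ((Herm.eq_zero_comm hF.hA).1 hd) hc) hz

variable {u : U} {h : V ≃ₗ[F] V} {a : W →ₗ[F] W}

include hF in
theorem stab_injective (hu0 : u ≠ 0) (ha : ∀ y, h (pt u y) = pt u (a y)) : Function.Injective a :=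
  fun y y' e => hF.pt_injective hu0 (h.injective (by rw [ha, ha, e]))

theorem stab_ev_inv (hi : ∀ z z', B (h z) (h z') = B z z') (ha : ∀ y, h (pt u y) = pt u (a y)) (z : V) :
    hF.ev u (h⁻¹ z) = hF.adj a (hF.ev u z) := hF.eq_of_C fun y => by
  rw [hF.C_adj, hF.C_ev, hF.C_ev, ← ha, ← hi (pt u y) (h⁻¹ z), apply_inv]

namespace Rigid

variable (hR : Rigid hF H)
include hR

/-- the action on `u ⊗ W` is a similitude -/
theorem stab_sq (hu0 : u ≠ 0) (hu : A u u = 0) (hh : h ∈ H) (ha : ∀ y, h (pt u y) = pt u (a y)) :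
    ∃ μ : F, μ ≠ 0 ∧ σ μ = μ ∧ (∀ e, a (hF.adj a e) = μ • e) ∧ (∀ e, hF.adj a (a e) = μ • e) ∧
      ∀ z, hF.ev u (h z) = μ⁻¹ • a (hF.ev u z) := by
  have hi := hR.iso h hh
  have hinj := stab_injective (hF := hF) hu0 ha
  obtain ⟨c₀, hc0, hc⟩ := Herm.exists_skew hF.hA.toIsInvol
  have hc' : c₀ + σ c₀ = 0 := by rw [hc, add_neg_cancel]
  have hrad : hF.rad u (c₀ • (a ∘ₗ hF.adj a)) = h * hF.lt u c₀ * h⁻¹ := LinearEquiv.ext fun z => by
    rw [LinearEquiv.mul_apply, LinearEquiv.mul_apply, hF.lt_apply hu, map_add, apply_inv, hF.rad_apply hu, map_smul,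
      ha, stab_ev_inv hi ha, LinearMap.smul_apply, LinearMap.comp_apply, map_smul]
  obtain ⟨ν, hν⟩ := hR.scal u hu0 hu _ (hrad ▸ mul_mem (mul_mem hh (hR.toSlot.lt_mem hu hc')) (inv_mem hh))
  have h1 : ∀ e, a (hF.adj a e) = (c₀⁻¹ * ν) • e := fun e => by
    have := hν e
    rw [LinearMap.smul_apply, LinearMap.comp_apply] at this
    rw [mul_smul, ← this, inv_smul_smul₀ hc0]
  set μ := c₀⁻¹ * ν
  have h2 : ∀ e, hF.adj a (a e) = μ • e := fun e => hinj (by rw [h1, map_smul])
  haveI : NeZero (finrank F W) := ⟨by have := hR.posW; omega⟩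
  have h00 : C (hF.onb 0) (hF.onb 0) = 1 := by rw [hF.onb_spec, if_pos rfl]
  have hμ : μ = C (a (hF.onb 0)) (a (hF.onb 0)) := by
    rw [← hF.C_adj, h2, map_smul, h00, smul_eq_mul, mul_one]
  have hμ0 : μ ≠ 0 := fun h0 => by
    have hz : a (hF.onb 0) = 0 := hF.hC.nondeg _ fun w => by
      obtain ⟨w, rfl⟩ := LinearMap.injective_iff_surjective.1 hinj w
      rw [← hF.C_adj, h2, h0, zero_smul, map_zero]
    have := hinj (hz.trans (map_zero a).symm)
    rw [this, map_zero] at h00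
    exact zero_ne_one h00
  refine ⟨μ, hμ0, by rw [hμ]; exact Herm.fix_self hF.hC _, h1, h2, fun z => ?_⟩
  have := stab_ev_inv hi ha (h z) (hF := hF)
  rw [inv_apply] at this
  rw [this, h1, inv_smul_smul₀ hμ0]

/-- the blocks of the action on the orthogonal modulo `u ⊗ W` are multiples of the action on `u ⊗ W` -/
theorem stab_block (hu0 : u ≠ 0) (hu : A u u = 0) (hh : h ∈ H) (ha : ∀ y, h (pt u y) = pt u (a y)) {d c : U}
    (hd : A u d = 0) (hc : A u c = 0) : ∃ φ : F, ∀ w, hF.ev d (h (pt c w)) = φ • a w := by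
  obtain ⟨μ, hμ0, -, h1, h2, -⟩ := hR.stab_sq hu0 hu hh ha
  have hi := hR.iso h hh
  have hC := hF.hC
  have hadjinj : Function.Injective (hF.adj a) := fun e e' he => by
    have := congrArg a he
    rw [h1, h1] at this
    exact smul_right_injective W hμ0 this
  obtain ⟨E, hE, κ, HE⟩ := hR.toSlot.exists_eichler' hu hc
  have HE' := HE.conj hu hi ha (fun y => ⟨μ⁻¹ • hF.adj a y, by rw [map_smul, h1, inv_smul_smul₀ hμ0]⟩) hadjinj
    (stab_ev_inv hi ha)
  set M : W →ₗ[F] W := hF.ev d ∘ₗ h.toLinearMap ∘ₗ (-pt c) ∘ₗ hF.adj a with hM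
  have hrel : ∀ ω : F, ∃ ν : F, ∀ e y, σ ω * C e (M y) - ω * C (M e) y = ν * C e y := by
    intro ω
    obtain ⟨E', hE', κ', HE''⟩ := hR.toSlot.exists_eichler' (w := ω • d) hu (by rw [map_smul, hd, smul_zero])
    obtain ⟨S, hS, hSC⟩ := HE'.comm hu HE'' hu0
    obtain ⟨τ, hτ⟩ := hR.scal u hu0 hu S (hS ▸ mul_mem (mul_mem (mul_mem (mul_mem hh hE) (inv_mem hh)) hE')
      (inv_mem (mul_mem hE' (mul_mem (mul_mem hh hE) (inv_mem hh)))))
    refine ⟨σ τ, fun e y => ?_⟩
    have := hSC e y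
    rw [hτ, map_smulₛₗ, LinearMap.smul_apply, smul_eq_mul] at this
    rw [this]
    simp only [LinearMap.neg_apply, map_neg, ← hF.C_ev, hF.B_pt, map_smulₛₗ, LinearMap.smul_apply, smul_eq_mul,
      RingHom.id_apply, hC.invol, hM, LinearMap.comp_apply, LinearEquiv.coe_coe]
    ring
  obtain ⟨ω, hω⟩ := Herm.exists_moved hC.toIsInvol
  obtain ⟨ν₁, e₁⟩ := hrel 1
  obtain ⟨ν₂, e₂⟩ := hrel ω
  have key : ∀ e, M e = ((ν₂ - ω * ν₁) / (σ ω - ω)) • e := fun e => hF.eq_of_C fun x => by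
    have k1 := e₁ x e
    have k2 := e₂ x e
    rw [map_one, one_mul, one_mul] at k1
    rw [map_smul, smul_eq_mul, div_mul_eq_mul_div, eq_div_iff (sub_ne_zero.2 hω)]
    linear_combination k2 - ω * k1
  refine ⟨-((ν₂ - ω * ν₁) / (σ ω - ω)) / μ, fun w => ?_⟩
  have := key (a w)
  simp only [hM, LinearMap.comp_apply, LinearMap.neg_apply, h2, LinearEquiv.coe_coe, map_neg, map_smul] at this
  rw [neg_div, div_eq_inv_mul, neg_smul, mul_smul, ← this]
  simp [smul_smul, hμ0]

/-- trivial action modulo `u ⊗ W` makes the action on `u ⊗ W` scalar -/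
theorem triv_scalar (hu0 : u ≠ 0) (hu : A u u = 0) (hh : h ∈ H) (ha : ∀ y, h (pt u y) = pt u (a y))
    (htr : ∀ z, hF.ev u z = 0 → h z - z ∈ LinearMap.range (pt u)) : ∃ ν : F, ν ≠ 0 ∧ ∀ y, a y = ν • y := by
  obtain ⟨f, hf, huf, hfu⟩ := exists_iso_partner hF.hA hu0 hu
  obtain ⟨c, huc, hfc, hcu, -, hcc⟩ := exists_perp_pair_value hF.hA hR.dimU hu hf huf (c := 1) (map_one σ)
  obtain ⟨φ, hφ⟩ := hR.stab_block hu0 hu hh ha huc huc
  have key : ∀ y, φ • a y = y := fun y => by
    have h0 := hF.ev_mem_R hcu (htr (pt c y) (by rw [hF.ev_pt, huc, zero_smul]))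
    rw [map_sub, hφ, hF.ev_pt, hcc, one_smul, sub_eq_zero] at h0
    exact h0
  haveI : NeZero (finrank F W) := ⟨by have := hR.posW; omega⟩
  have hφ0 : φ ≠ 0 := fun h0 => hF.onb.ne_zero 0 (by rw [← key (hF.onb 0), h0, zero_smul])
  exact ⟨φ⁻¹, inv_ne_zero hφ0, fun y => (eq_inv_smul_iff₀ hφ0).2 (key y)⟩

/-- two stabilisers with the same action modulo `u ⊗ W` act proportionally on it -/
theorem two_stab (hu0 : u ≠ 0) (hu : A u u = 0) {h₁ h₂ : V ≃ₗ[F] V} (hh₁ : h₁ ∈ H) (hh₂ : h₂ ∈ H)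
    {a₁ a₂ : W →ₗ[F] W} (ha₁ : ∀ y, h₁ (pt u y) = pt u (a₁ y)) (ha₂ : ∀ y, h₂ (pt u y) = pt u (a₂ y))
    (hq : ∀ z, hF.ev u z = 0 → h₂ z - h₁ z ∈ LinearMap.range (pt u)) :
    ∃ c : F, ∀ y, a₂ y = c • a₁ y := by
  let b := LinearEquiv.ofInjectiveEndo a₁ (stab_injective (hF := hF) hu0 ha₁)
  have hb : ∀ p, h₁⁻¹ (pt u p) = pt u (b.symm p) := fun p => by
    refine h₁.injective ?_
    rw [apply_inv, ha₁]
    exact congrArg (pt u) (b.apply_symm_apply p).symm
  obtain ⟨ν, -, hν⟩ := hR.triv_scalar hu0 hu (a := b.symm.toLinearMap ∘ₗ a₂) (mul_mem (inv_mem hh₁) hh₂)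
    (fun y => by rw [LinearEquiv.mul_apply, ha₂, hb]; rfl)
    (fun z hz => by
      obtain ⟨p, hp⟩ := hq z hz
      refine ⟨b.symm p, ?_⟩
      rw [← hb, hp, map_sub, inv_apply, LinearEquiv.mul_apply])
  exact ⟨ν, fun y => by
    have := congrArg b (hν y)
    rwa [LinearMap.comp_apply, LinearEquiv.coe_coe, b.apply_symm_apply, map_smul] at this⟩

/-- with a scalar action on `u ⊗ W` and none modulo it, all remaining contractions are scalar -/
theorem eta_scalar (hu0 : u ≠ 0) (hu : A u u = 0) (hh : h ∈ H) {ν : F} (hν : ∀ y, h (pt u y) = ν • pt u y)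
    (htr : ∀ z, hF.ev u z = 0 → h z - z ∈ LinearMap.range (pt u)) {f : U} (huf : A u f = 1) {d : U}
    (hd : A u d = 0) : ∃ φ : F, ∀ w, hF.ev d (h (pt f w)) = φ • w := by
  have hC := hF.hC
  have hA := hF.hA
  have hi := hR.iso h hh
  have ha : ∀ y, h (pt u y) = pt u ((ν • LinearMap.id : W →ₗ[F] W) y) := fun y => by
    rw [hν, LinearMap.smul_apply, LinearMap.id_apply, map_smul]
  have hinv : ∀ z, hF.ev u (h⁻¹ z) = σ ν • hF.ev u z := fun z => hF.eq_of_C fun y => by
    rw [hF.C_ev, map_smul, smul_eq_mul, hF.C_ev, ← hi, apply_inv, hν, map_smulₛₗ, LinearMap.smul_apply, smul_eq_mul]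
  haveI : Nontrivial W := Module.nontrivial_of_finrank_pos hR.posW
  have hν0 : ν ≠ 0 := fun h0 => by
    obtain ⟨y, hy⟩ := exists_ne (0 : W)
    exact hy (hF.pt_injective hu0 (h.injective (by rw [hν, h0, zero_smul, map_zero, map_zero])))
  have hσν : σ ν ≠ 0 := (map_ne_zero σ).2 hν0
  have hev : ∀ z, hF.ev u (h z) = (σ ν)⁻¹ • hF.ev u z := fun z => by
    have := hinv (h z)
    rw [inv_apply] at this
    rw [this, inv_smul_smul₀ hσν]
  have hfu : A f u = 1 := by rw [← hA.symm, huf, map_one]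
  -- for each multiple of `d`
  have hrel : ∀ ω : F, ∃ s : F, ∀ w, ω • hF.ev f (h (pt d w) - pt d w) + (ν * σ ω) • hF.ev d (h (pt f w)) = s • w := by
    intro ω
    set n := ω • d with hn
    have hun : A u n = 0 := by rw [hn, map_smul, hd, smul_zero]
    have hnu : A n u = 0 := (Herm.eq_zero_comm hA).1 hun
    let θ : W →ₗ[F] W := hF.ev f ∘ₗ (h.toLinearMap ∘ₗ pt n - pt n)
    have hθ : ∀ w, h (pt n w) = pt n w + pt u (θ w) := fun w => by
      obtain ⟨p, hp⟩ := htr (pt n w) (by rw [hF.ev_pt, hun, zero_smul])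
      rw [show θ w = p from by
        show hF.ev f (h (pt n w) - pt n w) = p
        rw [← hp, hF.ev_pt, hfu, one_smul], hp, add_sub_cancel]
    obtain ⟨E, hE, κ, HE⟩ := hR.toSlot.exists_eichler' hu hun
    obtain ⟨E', hE', κ', HE'⟩ := hR.toSlot.exists_eichler' (w := σ ν • n) hu (by rw [map_smul, hun, smul_zero])
    set X₁ := h * E * h⁻¹ with hX₁
    let L : V →ₗ[F] W := -(σ ν • (θ ∘ₗ hF.ev u)) + ν • (hF.ev n ∘ₗ h⁻¹.toLinearMap - hF.ev n) +
      (ν * σ ν * κ - κ') • hF.ev u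
    have hdiff : ∀ z, X₁ z = E' z + pt u (L z) := fun z => by
      rw [hX₁, LinearEquiv.mul_apply, LinearEquiv.mul_apply, HE.eq, HE'.eq, hinv]
      simp only [map_add, apply_inv, LinearMap.neg_apply, map_neg, map_smul, hθ, hν, LinearMap.add_apply,
        LinearMap.smul_apply, map_smulₛₗ, RingHom.id_apply, hC.invol, L, LinearMap.comp_apply, LinearMap.sub_apply,
        map_sub, LinearEquiv.coe_coe, hinv]
      module
    let S : W →ₗ[F] W := L ∘ₗ pt f
    have hLS : ∀ z, L z = S (hF.ev u z) := fun z => by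
      have h0 : L (proj hF u f z) = 0 := by
        have he := proj_ev (hF := hF) huf z
        have h1 : hF.ev n (h⁻¹ (proj hF u f z) - proj hF u f z) = 0 := by
          obtain ⟨p, hp⟩ := htr (h⁻¹ (proj hF u f z)) (by rw [hinv, he, smul_zero])
          rw [apply_inv] at hp
          refine hF.ev_mem_R hnu ⟨-p, ?_⟩
          rw [map_neg, hp, neg_sub]
        simp only [L, LinearMap.add_apply, LinearMap.neg_apply, LinearMap.smul_apply, LinearMap.comp_apply,
          LinearMap.sub_apply, LinearEquiv.coe_coe, he, map_zero, smul_zero, neg_zero, zero_add, add_zero]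
        rw [← map_sub, h1, smul_zero]
      conv_lhs => rw [proj_split (hF := hF) u f z]
      rw [map_add, h0, add_zero]
      rfl
    have hrad : hF.rad u S = X₁ * E'⁻¹ := LinearEquiv.ext fun z => by
      obtain ⟨z, rfl⟩ := E'.surjective z
      rw [hF.rad_apply hu, LinearEquiv.mul_apply, inv_apply, hdiff, HE'.ev_eq hu, hLS]
    obtain ⟨τ, hτ⟩ := hR.scal u hu0 hu S
      (hrad ▸ mul_mem (mul_mem (mul_mem hh hE) (inv_mem hh)) (inv_mem hE'))
    refine ⟨(ν * A n f) + (ν * σ ν * κ - κ') * (σ ν)⁻¹ - τ * (σ ν)⁻¹, fun w => ?_⟩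
    have h1 := hLS (h (pt f w))
    rw [hτ, hev, hF.ev_pt, huf, one_smul] at h1
    simp only [L, LinearMap.add_apply, LinearMap.neg_apply, LinearMap.smul_apply, LinearMap.comp_apply,
      LinearMap.sub_apply, LinearEquiv.coe_coe, inv_apply, hev, hF.ev_pt, huf, one_smul, map_smul, smul_smul,
      mul_inv_cancel₀ hσν] at h1
    have e1 : θ w = ω • hF.ev f (h (pt d w) - pt d w) := by
      show hF.ev f (h (pt n w) - pt n w) = _
      rw [hn, map_smul pt, LinearMap.smul_apply, map_smul h, ← smul_sub, map_smul]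
    have e2 : hF.ev n (h (pt f w)) = σ ω • hF.ev d (h (pt f w)) := by
      rw [hn, map_smulₛₗ, LinearMap.smul_apply]
    rw [e1, e2, smul_sub, smul_smul, smul_smul] at h1
    linear_combination (norm := module) -h1
  obtain ⟨ω, hω⟩ := Herm.exists_moved hA.toIsInvol
  obtain ⟨s₁, e₁⟩ := hrel 1
  obtain ⟨s₂, e₂⟩ := hrel ω
  refine ⟨(s₂ - ω * s₁) / (ν * (σ ω - ω)), fun w => ?_⟩
  have k1 := e₁ w
  have k2 := e₂ w
  rw [map_one, one_smul, mul_one] at k1
  rw [div_eq_inv_mul, mul_smul, eq_inv_smul_iff₀ (mul_ne_zero hν0 (sub_ne_zero.2 hω))]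
  linear_combination (norm := module) k2 - ω • k1

/-- an element trivial on all three layers is a transvection of the first factor -/
theorem eq_lt (hu0 : u ≠ 0) (hu : A u u = 0) (hh : h ∈ H) (hfix : ∀ y, h (pt u y) = pt u y)
    (htr : ∀ z, hF.ev u z = 0 → h z - z ∈ LinearMap.range (pt u)) {f : U} (huf : A u f = 1)
    (hη : ∀ d w, A u d = 0 → hF.ev d (h (pt f w) - pt f w) = 0) :
    ∃ c : F, c + σ c = 0 ∧ h = hF.lt u c := by
  have hi := hR.iso h hh
  have hA := hF.hA
  have hfu : A f u = 1 := by rw [← hA.symm, huf, map_one]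
  let L : V →ₗ[F] W := hF.ev f ∘ₗ (h.toLinearMap - LinearMap.id)
  have hall : ∀ z, h z = z + pt u (L z) := fun z => by
    have hmem : h z - z ∈ LinearMap.range (pt u) := by
      have := proj_split (hF := hF) u f z
      rw [show h z - z = (h (pt f (hF.ev u z)) - pt f (hF.ev u z)) + (h (proj hF u f z) - proj hF u f z) by
        conv_lhs => rw [this, map_add]
        abel]
      exact add_mem (hF.mem_R hu0 fun d hd => hη d _ ((Herm.eq_zero_comm hA).1 hd)) (htr _ (proj_ev huf z))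
    obtain ⟨p, hp⟩ := hmem
    rw [show L z = p from by
      show hF.ev f (h z - z) = p
      rw [← hp, hF.ev_pt, hfu, one_smul], hp, add_sub_cancel]
  have h0 : ∀ z, hF.ev u z = 0 → L z = 0 := fun z hz => by
    refine hF.hC.nondeg _ fun y => ?_
    have e1 := hi z (pt f y)
    rw [hall z, hall (pt f y)] at e1
    simp only [map_add, LinearMap.add_apply, hF.B_pt u z, hz, map_zero, LinearMap.zero_apply, hF.prod, huf, hu,
      one_mul, zero_mul, add_zero] at e1
    linear_combination e1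
  let S : W →ₗ[F] W := L ∘ₗ pt f
  have hrad : h = hF.rad u S := LinearEquiv.ext fun z => by
    rw [hF.rad_apply hu, hall z]
    conv_lhs => arg 2; rw [proj_split (hF := hF) u f z, map_add, h0 _ (proj_ev huf z), add_zero]
    rfl
  obtain ⟨c, hc⟩ := hR.scal u hu0 hu S (hrad ▸ hh)
  have hlt : h = hF.lt u c := by rw [hrad, Frame.lt, show S = c • LinearMap.id from LinearMap.ext hc]
  refine ⟨c, ?_, hlt⟩
  haveI : NeZero (finrank F W) := ⟨by have := hR.posW; omega⟩
  have e1 := hi (pt f (hF.onb 0)) (pt f (hF.onb 0))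
  rw [hlt, hF.lt_apply hu, hF.ev_pt, huf, one_smul] at e1
  simp only [map_add, map_smulₛₗ, LinearMap.add_apply, LinearMap.smul_apply, smul_eq_mul, RingHom.id_apply, hF.prod,
    hF.onb_spec _ _, if_true, hu, huf, hfu, mul_one, mul_zero, add_zero] at e1
  linear_combination e1

end Rigid

end Cfsg.Agent.ClassicalMax.UnWreath
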