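import Cfsg.Agent.ClassicalMax.UnWreath.Link

/-!
Over the field with four elements square-zero links vanish: a rank count in two orthogonal directions, applied to
both orientations.
-/

set_option autoImplicit false
set_option linter.unusedSectionVars false
set_option linter.style.haveILetI false

namespace Cfsg.Agent.ClassicalMax.UnWreath

open Module Cfsg.Agent.Classical Cfsg.Agent.ClassicalMax Cfsg.Agent.ClassicalMax.UnTensor

variable {F U W U' W' V : Type*} [Field F] [Finite F] [AddCommGroup U] [Module F U] [AddCommGroup W] [Module F W]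
  [AddCommGroup U'] [Module F U'] [AddCommGroup W'] [Module F W']
  [AddCommGroup V] [Module F V] [FiniteDimensional F U] [FiniteDimensional F W] [FiniteDimensional F V]
  [FiniteDimensional F U'] [FiniteDimensional F W']
  {σ : F →+* F} {B : V →ₛₗ[σ] V →ₗ[F] F} {A : U →ₛₗ[σ] U →ₗ[F] F} {C : W →ₛₗ[σ] W →ₗ[F] F}
  {A' : U' →ₛₗ[σ] U' →ₗ[F] F} {C' : W' →ₛₗ[σ] W' →ₗ[F] F}
  {pt : U →ₗ[F] W →ₗ[F] V} {pt' : U' →ₗ[F] W' →ₗ[F] V} {hF : Frame B A C pt} {hF' : Frame B A' C' pt'}
  {H : Subgroup (V ≃ₗ[F] V)}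

/-- two orthogonal unit vectors orthogonal to an isotropic pair -/
theorem exists_on_perp_pair {E : Type*} [AddCommGroup E] [Module F E] [FiniteDimensional F E]
    {A : E →ₛₗ[σ] E →ₗ[F] F} (hA : Herm.IsHerm A) (hn : 4 ≤ finrank F E) {x y : E} (hx : A x x = 0) (hy : A y y = 0)
    (hxy : A x y = 1) :
    ∃ v w, A x v = 0 ∧ A y v = 0 ∧ A x w = 0 ∧ A y w = 0 ∧ A v v = 1 ∧ A w w = 1 ∧ A v w = 0 ∧ A w v = 0 := by
  obtain ⟨a, ha, hperp⟩ := exists_on_of_pair hA hx hy hxy
  obtain ⟨v, hv⟩ := Herm.exists_snoc hA ha (by omega)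
  obtain ⟨w, hw⟩ := Herm.exists_snoc hA hv (by omega)
  have hv' : ∀ i, A (a i) v = 0 ∧ A (a i) w = 0 := fun i => by
    have h1 := hw i.castSucc.castSucc (Fin.last 2).castSucc
    have h2 := hw i.castSucc.castSucc (Fin.last 3)
    simp only [Fin.snoc_castSucc, Fin.snoc_last] at h1 h2
    rw [if_neg (fun h => (Fin.castSucc_lt_last i).ne (Fin.castSucc_injective _ h))] at h1
    rw [if_neg (Fin.castSucc_lt_last _).ne] at h2
    exact ⟨h1, h2⟩
  have hvv : A v v = 1 := by
    have h1 := hw (Fin.last 2).castSucc (Fin.last 2).castSucc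
    simp only [Fin.snoc_castSucc, Fin.snoc_last, if_true] at h1
    exact h1
  have hww : A w w = 1 := by
    have h1 := hw (Fin.last 3) (Fin.last 3)
    simp only [Fin.snoc_last, if_true] at h1
    exact h1
  have hvw : A v w = 0 := by
    have h1 := hw (Fin.last 2).castSucc (Fin.last 3)
    rw [Fin.snoc_castSucc, Fin.snoc_last, Fin.snoc_last, if_neg (Fin.castSucc_lt_last _).ne] at h1
    exact h1
  obtain ⟨h1, h2⟩ := hperp v fun i => (hv' i).1
  obtain ⟨h3, h4⟩ := hperp w fun i => (hv' i).2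
  exact ⟨v, w, h1, h2, h3, h4, hvv, hww, hvw, (Herm.eq_zero_comm hA).1 hvw⟩

namespace Rigid

variable (hR : Rigid hF H) (hR' : Slot hF' H) (hdim : finrank F W' = finrank F W)
include hR hR' hdim

/-- the reversed link has at least twice the rank -/
theorem rank_bound (h1skew : (1 : F) + σ 1 = 0) (hU : 4 ≤ finrank F U) {u : U} (hu0 : u ≠ 0) (hu : A u u = 0)
    {v : U'} (hv : A' v v = 0) (hK2 : ∀ y, link hF hF' u v (link hF hF' u v y) = 0) :
    2 * finrank F (LinearMap.range (link hF hF' u v)) ≤ finrank F (LinearMap.range (link hF' hF v u)) := by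
  classical
  have hA := hF.hA
  obtain ⟨f, hff, huf, hfu⟩ := exists_iso_partner hA hu0 hu
  obtain ⟨m₁, m₂, hum₁, -, hum₂, -, h11, h22, h12, h21⟩ := exists_on_perp_pair hA hU hu hff huf
  set K := link hF hF' u v with hKdef
  set L := link hF' hF v u with hLdef
  have hcK : ∀ y, cross hF u pt' v (cross hF' v pt u y) = K y := fun y => rfl
  have hcL : ∀ t, cross hF' v pt u (cross hF u pt' v t) = L t := fun t => rfl
  set g := hF'.lt v 1
  have hg : g ∈ H := hR'.lt_mem hv h1skew
  have hgi := hR.iso g hg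
  have hg1 : IsOne hF' v 1 g := isOne_lt hv 1
  have hgu : ∀ y, g (pt u y) = pt u y + pt' v (cross hF' v pt u y) := fun y => by rw [hg1, one_smul]; rfl
  have hgev : ∀ z, hF.ev u (g⁻¹ z) = hF.ev u z + cross hF u pt' v (hF'.ev v z) := fun z => by
    rw [hg1.inv_apply hgi, map_one, one_smul, map_add]; rfl
  set h := g * hF.lt u 1 * g⁻¹
  have hh : h ∈ H := mul_mem (mul_mem hg (hR.toSlot.lt_mem hu h1skew)) (inv_mem hg)
  have heq : ∀ z, h z = z + g (pt u (hF.ev u (g⁻¹ z))) := fun z => by
    rw [LinearEquiv.mul_apply, LinearEquiv.mul_apply, hF.lt_apply hu, one_smul, map_add, apply_inv]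
  have hh1 : IsOne (frame_map hF hgi) u 1 h := fun z => by rw [heq, one_smul, frame_map_ev hF hgi]; rfl
  have hlink : link hF (frame_map hF hgi) u u = 0 := LinearMap.ext fun y => by
    rw [link_apply, frame_map_ev hF hgi, hgev, hF.ev_pt, hu, zero_smul, zero_add]
    show hF.ev u (g (pt u (K y))) = 0
    rw [hgu, map_add, hF.ev_pt, hu, zero_smul, zero_add]
    exact hK2 y
  obtain ⟨hmem, -⟩ := hR.comm_of_zero rfl hu0 hu one_ne_zero (fun _ => by rw [hu, mul_zero]) hh hh1 hlink
  have hhu : ∀ y, h (pt u y) = pt u (y + K y) + pt' v (cross hF' v pt u (K y)) := fun y => by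
    rw [heq, hgev, hF.ev_pt, hu, zero_smul, zero_add, map_add (pt u)]
    show _ + g (pt u (K y)) = _
    rw [hgu]; abel
  set φ : W →ₗ[F] W := hF.ev f ∘ₗ pt' v ∘ₗ cross hF' v pt u ∘ₗ K with hφdef
  have hjφ : ∀ y, pt' v (cross hF' v pt u (K y)) = pt u (φ y) := fun y => by
    obtain ⟨p, hp⟩ := hmem y
    rw [hhu] at hp
    have e : pt' v (cross hF' v pt u (K y)) = pt u (p - (y + K y)) := by rw [map_sub, hp, add_sub_cancel_left]
    show _ = pt u (hF.ev f (pt' v (cross hF' v pt u (K y))))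
    rw [e, hF.ev_pt, hfu, one_smul]
  have ha : ∀ y, h (pt u y) = pt u (((LinearMap.id : W →ₗ[F] W) + (K + φ)) y) := fun y => by
    rw [hhu, hjφ, ← map_add]
    congr 1
    simp only [LinearMap.add_apply, LinearMap.id_apply]
    abel
  have hQφ : ∀ y, cross hF' v pt u (φ y) = 0 := fun y => by
    have := congrArg (hF'.ev v) (hjφ y)
    rwa [hF'.ev_pt, hv, zero_smul, eq_comm] at this
  have hKφ : ∀ y, K (φ y) = 0 := fun y => by rw [← hcK, hQφ, map_zero]
  have hφK : ∀ y, φ (K y) = 0 := fun y => by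
    rw [hφdef, LinearMap.comp_apply, LinearMap.comp_apply, LinearMap.comp_apply, hK2, map_zero, map_zero, map_zero]
  have hφφ : ∀ y, φ (φ y) = 0 := fun y => by
    rw [hφdef, LinearMap.comp_apply, LinearMap.comp_apply, LinearMap.comp_apply, ← hφdef, hKφ, map_zero, map_zero,
      map_zero]
  set n := K + φ with hn
  have hn2 : ∀ y, n (n y) = 0 := fun y => by simp [hn, hK2, hKφ, hφK, hφφ]
  -- the kernel of `n` is in that of `K`
  have hker : LinearMap.ker n ≤ LinearMap.ker K := fun w hw => by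
    rw [LinearMap.mem_ker] at hw ⊢
    have hKw : K w = -φ w := eq_neg_of_add_eq_zero_left hw
    have : cross hF' v pt u (K w) = 0 := by rw [hKw, map_neg, hQφ, neg_zero]
    have h0 : φ w = 0 := by
      rw [hφdef, LinearMap.comp_apply, LinearMap.comp_apply, LinearMap.comp_apply, this, map_zero, map_zero]
    rw [hKw, h0, neg_zero]
  have hrk : finrank F (LinearMap.range K) ≤ finrank F (LinearMap.range n) := by
    have h1 := LinearMap.finrank_range_add_finrank_ker K
    have h2 := LinearMap.finrank_range_add_finrank_ker n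
    have h3 := Submodule.finrank_mono hker
    omega
  -- the blocks
  have hblock : ∀ d c, A u d = 0 → A u c = 0 → ∀ w,
      hF.ev d (pt' v (L (hF'.ev v (pt c w)))) = A d c • n w := by
    intro d c hd hc
    obtain ⟨φ₀, hφ₀⟩ := hR.stab_block hu0 hu hh ha hd hc
    have hdu : A d u = 0 := (Herm.eq_zero_comm hA).1 hd
    have key : ∀ w, hF.ev d (pt' v (L (hF'.ev v (pt c w)))) = (φ₀ - A d c) • w + φ₀ • n w := fun w => by
      have h1 := hφ₀ w
      rw [heq, hgev, hF.ev_pt, hc, zero_smul, zero_add, map_add, hF.ev_pt, hgu, map_add, hF.ev_pt, hdu, zero_smul,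
        zero_add, hcL, LinearMap.add_apply, LinearMap.id_apply] at h1
      linear_combination (norm := module) h1
    have hL3 : ∀ t, L (L (L t)) = 0 := fun t => by
      show cross hF' v pt u (K (K (cross hF u pt' v t))) = 0
      rw [hK2, map_zero]
    by_cases h0 : φ₀ - A d c = 0
    · intro w
      rw [key, h0, zero_smul, zero_add, sub_eq_zero.1 h0]
    exfalso
    have hinj : Function.Injective (hF.ev d ∘ₗ pt' v ∘ₗ L ∘ₗ hF'.ev v ∘ₗ pt c) := by
      refine (injective_iff_map_eq_zero _).2 fun w hw => ?_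
      simp only [LinearMap.comp_apply, key] at hw
      have h2 := congrArg n hw
      rw [map_add, map_smul, map_smul, hn2, smul_zero, add_zero, map_zero, smul_eq_zero] at h2
      rw [h2.resolve_left h0, smul_zero, add_zero, smul_eq_zero] at hw
      exact hw.resolve_left h0
    have hT : Function.Injective (L ∘ₗ hF'.ev v ∘ₗ pt c) := by
      simp only [LinearMap.coe_comp] at hinj ⊢
      exact hinj.of_comp.of_comp
    have hs := (LinearMap.injective_iff_surjective_of_finrank_eq_finrank hdim.symm).1 hT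
    have hLs : Function.Surjective L := fun t => (hs t).elim fun w hw => ⟨_, hw⟩
    haveI : Nontrivial W' := Module.nontrivial_of_finrank_pos (R := F) (by rw [hdim]; exact hR.posW)
    obtain ⟨t, ht⟩ := exists_ne (0 : W')
    obtain ⟨t₁, rfl⟩ := hLs t
    obtain ⟨t₂, rfl⟩ := hLs t₁
    obtain ⟨t₃, rfl⟩ := hLs t₂
    exact ht (hL3 t₃)
  -- the rank count
  let pr : W' →ₗ[F] W × W := ((hF.ev m₁).comp (pt' v)).prod ((hF.ev m₂).comp (pt' v))
  have hle : (LinearMap.range n).prod (LinearMap.range n) ≤ (LinearMap.range L).map pr := by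
    rintro ⟨-, -⟩ ⟨⟨w₁, rfl⟩, w₂, rfl⟩
    refine ⟨L (hF'.ev v (pt m₁ w₁) + hF'.ev v (pt m₂ w₂)), ⟨_, rfl⟩, Prod.ext ?_ ?_⟩
    · show hF.ev m₁ (pt' v (L _)) = _
      rw [map_add L, map_add (pt' v), map_add, hblock m₁ m₁ hum₁ hum₁, hblock m₁ m₂ hum₁ hum₂, h11, h12, one_smul,
        zero_smul, add_zero]
    · show hF.ev m₂ (pt' v (L _)) = _
      rw [map_add L, map_add (pt' v), map_add, hblock m₂ m₁ hum₂ hum₁, hblock m₂ m₂ hum₂ hum₂, h21, h22, one_smul,
        zero_smul, zero_add]
  have h4 := Submodule.finrank_mono hle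
  have h5 := Submodule.finrank_map_le pr (LinearMap.range L)
  have h6 : finrank F ↥((LinearMap.range n).prod (LinearMap.range n)) = 2 * finrank F (LinearMap.range n) := by
    let e : ↥((LinearMap.range n).prod (LinearMap.range n)) ≃ₗ[F] (LinearMap.range n) × (LinearMap.range n) :=
      { toFun := fun x => (⟨x.1.1, x.2.1⟩, ⟨x.1.2, x.2.2⟩)
        map_add' := fun x y => rfl
        map_smul' := fun c x => rfl
        invFun := fun p => ⟨(p.1.1, p.2.1), p.1.2, p.2.2⟩
        left_inv := fun x => rfl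
        right_inv := fun p => rfl }
    rw [e.finrank_eq, finrank_prod, two_mul]
  omega

end Rigid

/-- square-zero links in both orientations vanish -/
theorem zero_of_sq_both (hR : Rigid hF H) (hR' : Rigid hF' H) (hdim : finrank F W' = finrank F W)
    (h1skew : (1 : F) + σ 1 = 0) (hU : 4 ≤ finrank F U) (hU' : 4 ≤ finrank F U') {u : U} (hu0 : u ≠ 0)
    (hu : A u u = 0) {v : U'} (hv0 : v ≠ 0) (hv : A' v v = 0)
    (hK2 : ∀ y, link hF hF' u v (link hF hF' u v y) = 0) (hL2 : ∀ t, link hF' hF v u (link hF' hF v u t) = 0) :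
    link hF hF' u v = 0 := by
  have h1 := hR.rank_bound hR'.toSlot hdim h1skew hU hu0 hu hv hK2
  have h2 := hR'.rank_bound hR.toSlot hdim.symm h1skew hU' hv0 hv hu hL2
  exact LinearMap.range_eq_bot.1 (Submodule.finrank_eq_zero.1 (by omega))

/-- square-zero links vanish -/
theorem zero_of_sq_two (hR : Rigid hF H) (hR' : Rigid hF' H) (hdim : finrank F W' = finrank F W)
    (h1skew : (1 : F) + σ 1 = 0) (hU : 4 ≤ finrank F U) (hU' : 4 ≤ finrank F U') {u : U} (hu0 : u ≠ 0)
    (hu : A u u = 0) {v : U'} (hv0 : v ≠ 0) (hv : A' v v = 0)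
    (hK2 : ∀ y, link hF hF' u v (link hF hF' u v y) = 0) : link hF hF' u v = 0 := by
  refine zero_of_sq_both hR hR' hdim h1skew hU hU' hu0 hu hv0 hv hK2 ?_
  set L := link hF' hF v u with hLdef
  have hL3 : ∀ t, L (L (L t)) = 0 := fun t => by
    show cross hF' v pt u (link hF hF' u v (link hF hF' u v (cross hF u pt' v t))) = 0
    rw [hK2, map_zero]
  have hx := hR.toSlot.lt_mem hu h1skew
  have hxi := hR.iso _ hx
  obtain ⟨e1, e2⟩ := comp1_lt (hF := hF') (hF' := hF) hv hu (1 : F)
  have hl1 : link hF' (frame_map hF' hxi) v v = (-1 : F) • (L * L : Module.End F W') := by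
    rw [link_map hxi, e1, e2, smul_mul_smul_comm, one_mul]
  have hl2 : link (frame_map hF' hxi) hF' v v = (-1 : F) • (L * L : Module.End F W') := by
    have : link (frame_map hF' hxi) hF' v v = comp1 hF' v (hF.lt u 1)⁻¹ * comp1 hF' v (hF.lt u 1) :=
      LinearMap.ext fun y => by
        rw [link_apply, frame_map_ev hF' hxi]
        rfl
    rw [this, e1, e2, smul_mul_smul_comm, mul_one]
  have hsq : ∀ t, ((-1 : F) • (L * L : Module.End F W')) (((-1 : F) • (L * L : Module.End F W')) t) = 0 := fun t => by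
    simp only [LinearMap.smul_apply, Module.End.mul_apply, map_smul, hL3, map_zero, smul_zero]
  have h0 := zero_of_sq_both hR' (hR'.map hx) rfl h1skew hU' hU' hv0 hv hv0 hv
    (fun t => by rw [hl1]; exact hsq t) (fun t => by rw [hl2]; exact hsq t)
  rw [hl1, smul_eq_zero] at h0
  exact fun t => LinearMap.congr_fun (h0.resolve_left (neg_ne_zero.2 one_ne_zero)) t

/-- nilpotent links of conjugates of one transvection vanish -/
theorem Rigid.nilp_map_two (hR : Rigid hF H) (h1skew : (1 : F) + σ 1 = 0) (hU : 4 ≤ finrank F U) {u : U}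
    (hu0 : u ≠ 0) (hu : A u u = 0) :
    ∀ n : ℕ, ∀ g ∈ H, (comp1 hF u g * comp1 hF u g⁻¹) ^ 2 ^ n = 0 → comp1 hF u g * comp1 hF u g⁻¹ = 0 := by
  intro n
  induction n with
  | zero => intro g _ h; rwa [pow_zero, pow_one] at h
  | succ n ih =>
    intro g hg h
    obtain ⟨e1, e2⟩ := comp1_conj (hF := hF) hu (g := g) (1 : F)
    have hy : g * hF.lt u 1 * g⁻¹ ∈ H := mul_mem (mul_mem hg (hR.toSlot.lt_mem hu h1skew)) (inv_mem hg)
    have h0 := ih _ hy (by
      rw [e1, e2, smul_mul_smul_comm, smul_pow, ← pow_two, ← pow_mul,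
        show 2 * 2 ^ n = 2 ^ (n + 1) by rw [pow_succ, mul_comm], h, smul_zero])
    rw [e1, e2, smul_mul_smul_comm, smul_eq_zero] at h0
    have hsq := h0.resolve_left (mul_ne_zero one_ne_zero (neg_ne_zero.2 one_ne_zero))
    have hg' := hR.iso g hg
    have := zero_of_sq_two hR (hR.map hg) rfl h1skew hU hU hu0 hu hu0 hu fun y => by
      rw [link_map hg']
      exact LinearMap.congr_fun hsq y
    rwa [link_map hg'] at this

end Cfsg.Agent.ClassicalMax.UnWreath
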