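import Cfsg.Agent.ClassicalMax.UnWreath.TwoRank

/-!
Over the field with four elements a link is not singular without being nilpotent: the group generated by two
transvections and an Eichler conjugate would invert an abelian normal complement.
-/

set_option autoImplicit false
set_option linter.unusedSectionVars false
set_option linter.style.haveILetI false

namespace Cfsg.Agent.ClassicalMax.UnWreath

open Module Cfsg.Agent.Classical Cfsg.Agent.ClassicalMax Cfsg.Agent.ClassicalMax.UnTensor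

variable {F U W V : Type*} [Field F] [Finite F] [AddCommGroup U] [Module F U] [AddCommGroup W] [Module F W]
  [AddCommGroup V] [Module F V] [FiniteDimensional F U] [FiniteDimensional F W] [FiniteDimensional F V]
  {σ : F →+* F} {B : V →ₛₗ[σ] V →ₗ[F] F} {A : U →ₛₗ[σ] U →ₗ[F] F} {C : W →ₛₗ[σ] W →ₗ[F] F}
  {pt : U →ₗ[F] W →ₗ[F] V} {hF : Frame B A C pt} {H : Subgroup (V ≃ₗ[F] V)}

/-- elements of the coset of the transvection are involutions, so two of them give commuting products -/
theorem comm_of_involutions {G : Type*} [Group G] {O : Subgroup G} {x o o' : G} (hx : x * x = 1)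
    (hinv : ∀ a ∈ O, (a * x) * (a * x) = 1) (ho : o ∈ O) (ho' : o' ∈ O) : o * o' = o' * o := by
  have h1 : ∀ a ∈ O, x * a * x = a⁻¹ := fun a ha => eq_inv_of_mul_eq_one_right (by
    calc a * (x * a * x) = (a * x) * (a * x) := by group
      _ = 1 := hinv a ha)
  have h2 : x * (o * o') * x = (x * o * x) * (x * o' * x) := by
    calc x * (o * o') * x = x * o * (x * x) * o' * x := by rw [hx]; group
      _ = _ := by group
  rw [h1 _ (mul_mem ho ho'), h1 o ho, h1 o' ho', ← mul_inv_rev] at h2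
  exact inv_injective h2

namespace Rigid

variable (hR : Rigid hF H) {u : U} (hu0 : u ≠ 0) (hu : A u u = 0)
include hR hu0 hu

theorem not_singular_base (h2 : (2 : F) = 0) (hfix : ∀ k : F, σ k = k → k = 0 ∨ k = 1) (hU : 4 ≤ finrank F U)
    {g : V ≃ₗ[F] V} (hg : g ∈ H)
    (hstar : ∀ t, comp1 hF u g t = 0 → g (pt u t) ∈ LinearMap.range (pt u))
    {w₀ : W} (hw₀ : w₀ ≠ 0) (hPw₀ : comp1 hF u g w₀ = 0) (hQw₀ : comp1 hF u g⁻¹ w₀ = 0)
    (hdisj : ∀ s, comp1 hF u g (comp1 hF u g s) = 0 → comp1 hF u g s = 0)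
    {w : W} (hw : comp1 hF u g (comp1 hF u g⁻¹ (comp1 hF u g (comp1 hF u g⁻¹ w))) ≠ 0) : False := by
  classical
  have hA := hF.hA
  have hσ1 : (1 : F) + σ 1 = 0 := by rw [map_one]; linear_combination h2
  haveI : CharP F 2 := CharP.ringChar_of_prime_eq_zero Nat.prime_two (by exact_mod_cast h2) ▸ ringChar.charP F
  haveI : Fact (Nat.Prime 2) := ⟨Nat.prime_two⟩
  obtain ⟨f, hff, huf, hfu⟩ := exists_iso_partner hA hu0 hu
  obtain ⟨m, hum, hfm, hmu, hmf, hmm⟩ := exists_perp_pair_value hA hR.dimU hu hff huf (c := (1 : F)) (map_one σ)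
  have hgi := hR.iso g hg
  set P := comp1 hF u g with hP
  set Q := comp1 hF u g⁻¹ with hQ
  obtain ⟨κ₀, hκ₀⟩ := Herm.exists_trace hA.toIsInvol (a := -A m m) (by rw [map_neg σ, Herm.fix_self hA])
  have hkey : ∀ κ : F, κ + σ κ = -A m m →
      P (hF.ev u (g⁻¹ (pt m (P (Q w))))) = P (Q (hF.ev m (g (pt u (Q w))) + κ • P (Q w))) + P (Q (P (Q w))) := by
    intro κ hκ
    obtain ⟨E, hE, HE⟩ := hR.toSlot.exists_eichler hu hum hκ
    set x := hF.lt u 1 with hxdef
    set y := g * x * g⁻¹ with hydef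
    set yE := E * y * E⁻¹ with hyEdef
    have hx : x ∈ H := hR.toSlot.lt_mem hu hσ1
    have hy : y ∈ H := mul_mem (mul_mem hg hx) (inv_mem hg)
    have hyE : yE ∈ H := mul_mem (mul_mem hE hy) (inv_mem hE)
    have hxz : ∀ z, x z = z + pt u (hF.ev u z) := fun z => by rw [hxdef, hF.lt_apply hu, one_smul]
    have hyz : ∀ z, y z = z + g (pt u (hF.ev u (g⁻¹ z))) := fun z => by
      rw [hydef, LinearEquiv.mul_apply, LinearEquiv.mul_apply, hxz, map_add, apply_inv]
    have hyEz : ∀ z, yE z = z + E (g (pt u (hF.ev u (g⁻¹ (E⁻¹ z))))) := fun z => by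
      rw [hyEdef, LinearEquiv.mul_apply, LinearEquiv.mul_apply, hyz, map_add, apply_inv]
    have hEz : ∀ z, E z = z - pt m (hF.ev u z) + pt u (hF.ev m z + κ • hF.ev u z) := fun z => by
      rw [HE.eq]
      simp only [LinearMap.neg_apply, LinearMap.add_apply, LinearMap.smul_apply, ← sub_eq_add_neg]
    have hEu : ∀ t, E (pt u t) = pt u t := fun t => by
      rw [hEz, hF.ev_pt, hF.ev_pt, hu, hmu]; simp
    have hEu' : ∀ t, E⁻¹ (pt u t) = pt u t := fun t => E.injective (by rw [apply_inv, hEu])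
    have hxu : ∀ t, x (pt u t) = pt u t := fun t => by rw [hxz, hF.ev_pt, hu, zero_smul, map_zero, add_zero]
    -- the generated group
    set S : Set (V ≃ₗ[F] V) := {x, y, yE}
    set G := Subgroup.closure S
    have hGH : G ≤ H := (Subgroup.closure_le _).2 (by
      rintro h (rfl | rfl | rfl)
      exacts [hx, hy, hyE])
    let R : Submodule F V := LinearMap.range (g.toLinearMap ∘ₗ pt u)
    let M : Submodule F V := LinearMap.range (pt u) ⊔ R ⊔ R.map E.toLinearMap
    have hGM : ∀ h ∈ G, ∀ z, h z - z ∈ M := fun h hh z => by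
      refine move_into (fun h hh z => ?_) hh z
      rcases hh with rfl | rfl | rfl
      · rw [hxz, add_sub_cancel_left]; exact Submodule.mem_sup_left (Submodule.mem_sup_left ⟨_, rfl⟩)
      · rw [hyz, add_sub_cancel_left]; exact Submodule.mem_sup_left (Submodule.mem_sup_right ⟨_, rfl⟩)
      · rw [hyEz, add_sub_cancel_left]; exact Submodule.mem_sup_right (Submodule.mem_map_of_mem ⟨_, rfl⟩)
    have hGfix : ∀ h ∈ G, h (pt u w₀) = pt u w₀ := fun h hh => by
      induction hh using Subgroup.closure_induction with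
      | mem h hh =>
        rcases hh with rfl | rfl | rfl
        · exact hxu _
        · rw [hyz, ← comp1_apply (hF := hF), hQw₀, map_zero, map_zero, add_zero]
        · rw [hyEz, hEu', ← comp1_apply (hF := hF), hQw₀, map_zero, map_zero, map_zero, add_zero]
      | one => rfl
      | mul a b _ _ iha ihb => rw [LinearEquiv.mul_apply, ihb, iha]
      | inv a _ ih => conv_lhs => rw [← ih, inv_apply]
    have hMu : ∀ z ∈ M, hF.ev u z = 0 → ∃ c s, z = pt u c + pt m (P s) := by
      intro z hz hz0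
      obtain ⟨z₁, hz₁, _, ⟨_, ⟨s, rfl⟩, rfl⟩, rfl⟩ := Submodule.mem_sup.1 hz
      obtain ⟨_, ⟨c, rfl⟩, _, ⟨t, rfl⟩, rfl⟩ := Submodule.mem_sup.1 hz₁
      have hPs : hF.ev u (g (pt u s)) = P s := rfl
      have hPt : hF.ev u (g (pt u t)) = P t := rfl
      simp only [LinearMap.comp_apply, LinearEquiv.coe_coe, map_add, hF.ev_pt, hu, zero_smul, zero_add, hPt,
        HE.ev_eq hu, hPs] at hz0
      obtain ⟨c', hc'⟩ := hstar (t + s) (by rw [map_add]; exact hz0)
      rw [map_add, map_add] at hc'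
      refine ⟨c + c' + (hF.ev m (g (pt u s)) + κ • P s), -s, ?_⟩
      simp only [LinearMap.comp_apply, LinearEquiv.coe_coe, hEz, hPs, map_neg, map_add, hc']
      abel
    have hstab : ∀ h ∈ G, (∀ t, h (pt u t) ∈ LinearMap.range (pt u)) →
        ∃ c, c + σ c = 0 ∧ h = hF.lt u c := by
      intro h hh hmem
      have hhH := hGH hh
      set a : W →ₗ[F] W := hF.ev f ∘ₗ h.toLinearMap ∘ₗ pt u with had
      have ha : ∀ t, h (pt u t) = pt u (a t) := fun t => by
        obtain ⟨p, hp⟩ := hmem t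
        rw [had, LinearMap.comp_apply, LinearMap.comp_apply, LinearEquiv.coe_coe, ← hp, hF.ev_pt, hfu, one_smul]
      have haw₀ : a w₀ = w₀ := hF.pt_injective hu0 (by rw [← ha, hGfix h hh])
      obtain ⟨μ, -, -, -, -, hev⟩ := hR.stab_sq hu0 hu hhH ha
      have hsplit : ∀ z, hF.ev u z = 0 → ∀ d, A d u = 0 → ∃ s, hF.ev d (h z - z) = A d m • P s :=
        fun z hz d hdu => by
        obtain ⟨c, s, e⟩ := hMu _ (hGM h hh z) (by rw [map_sub, hev, hz, map_zero, smul_zero, sub_zero])
        exact ⟨s, by rw [e, map_add, hF.ev_pt, hF.ev_pt, hdu, zero_smul, zero_add]⟩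
      have hkill : ∀ (r : F) (s : W) (q : F), r • w₀ = q • P s → r = 0 := fun r s q e => by
        by_contra hr
        have hs : P (q • s) = r • w₀ := by rw [map_smul, e]
        have := hdisj _ (show P (P (q • s)) = 0 by rw [hs, map_smul, hPw₀, smul_zero])
        rw [hs, smul_eq_zero] at this
        exact this.elim hr hw₀
      have hφ : ∀ d c, A u d = 0 → A u c = 0 → ∀ t, hF.ev d (h (pt c t)) = A d c • a t := fun d c hd hc t => by
        obtain ⟨φ, hφ⟩ := hR.stab_block hu0 hu hhH ha hd hc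
        obtain ⟨s, hs⟩ := hsplit (pt c w₀) (by rw [hF.ev_pt, hc, zero_smul]) d ((Herm.eq_zero_comm hA).1 hd)
        rw [map_sub, hφ, haw₀, hF.ev_pt, ← sub_smul] at hs
        rw [hφ, sub_eq_zero.1 (hkill _ s _ hs)]
      obtain ⟨d₀, hd₀u, hd₀m, c₀, hc₀, hdc⟩ : ∃ d, A u d = 0 ∧ A m d = 0 ∧ ∃ c, A u c = 0 ∧ A d c = 1 := by
        obtain ⟨d, hd, hdu⟩ := SetLike.not_le_iff_exists.1 (fun hle : Unitary.perp A [u, m] ≤ F ∙ u => by
          have h1 := Submodule.finrank_mono hle
          have h2 := Unitary.finrank_perp (B := A) [u, m]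
          rw [finrank_span_singleton hu0] at h1
          simp only [List.length_cons, List.length_nil] at h2
          omega)
        obtain ⟨c, hc, hdc⟩ := Unitary.exists_perp hA hdu
        rw [Unitary.mem_perp] at hd
        exact ⟨d, hd u (by simp), hd m (by simp), c, hc u (Submodule.mem_span_singleton_self u), hdc⟩
      have ha1 : ∀ t, a t = t := fun t => by
        obtain ⟨s, hs⟩ := hsplit (pt c₀ t) (by rw [hF.ev_pt, hc₀, zero_smul]) d₀ ((Herm.eq_zero_comm hA).1 hd₀u)
        rw [map_sub, hφ d₀ c₀ hd₀u hc₀, hF.ev_pt, hdc, (Herm.eq_zero_comm hA).1 hd₀m, one_smul, one_smul, zero_smul,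
          sub_eq_zero] at hs
        exact hs
      have hfix' : ∀ t, h (pt u t) = pt u t := fun t => by rw [ha, ha1]
      have htr : ∀ z, hF.ev u z = 0 → h z - z ∈ LinearMap.range (pt u) := fun z hz => by
        refine triv_of_blocks (h.toLinearMap - LinearMap.id) hu0 hu (fun d c t hd hc => ?_) hz
        show hF.ev d (h (pt c t) - pt c t) = 0
        rw [map_sub, hφ d c hd hc, ha1, hF.ev_pt, sub_self]
      refine hR.eq_lt hu0 hu hhH hfix' htr huf fun d t hd => ?_
      obtain ⟨φ, hφ'⟩ := hR.eta_scalar hu0 hu hhH (ν := 1) (fun t => by rw [hfix', one_smul]) htr huf hd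
      have hdu := (Herm.eq_zero_comm hA).1 hd
      have hμ : μ⁻¹ = 1 := by
        have e1 := hev (pt f w₀)
        have e2 := congrArg (fun z => B (pt u w₀) z) (hfix' w₀)
        haveI : Nontrivial W := ⟨w₀, 0, hw₀⟩
        have e3 : hF.ev u (h (pt f w₀)) = w₀ := hF.eq_of_C fun t => by
          rw [hF.C_ev, ← hfix' t, hR.iso h hhH, hF.prod, huf, one_mul]
        rw [e3, hF.ev_pt, huf, one_smul, ha1] at e1
        exact sub_eq_zero.1 ((smul_eq_zero.1 (show (μ⁻¹ - 1) • w₀ = 0 by
          rw [sub_smul, one_smul, ← e1, sub_self])).resolve_right hw₀)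
      have hzero : hF.ev u (h (pt f w₀) - pt f w₀) = 0 := by
        rw [map_sub, hev, hF.ev_pt, huf, one_smul, ha1, hμ, one_smul, sub_self]
      obtain ⟨c, s, e⟩ := hMu _ (hGM h hh (pt f w₀)) hzero
      have e1 := congrArg (hF.ev d) e
      rw [map_add, hF.ev_pt, hF.ev_pt, hdu, zero_smul, zero_add, map_sub, hφ', hF.ev_pt, ← sub_smul] at e1
      rw [map_sub, hφ', hF.ev_pt, sub_eq_zero.1 (hkill _ s _ e1), sub_self]
    -- the complement
    obtain ⟨X, O, hO, hX⟩ := hR.exists_compl_lt hu0 hu (p := 2) (G := G) (fun c hc => by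
      rcases hfix c (by linear_combination hc - c * h2) with rfl | rfl
      · rw [Frame.lt, zero_smul, hF.rad_zero hu]; exact one_mem G
      · exact Subgroup.subset_closure (Or.inl rfl)) hstab
    have hlt0 : hF.lt u 0 = 1 := by rw [Frame.lt, zero_smul, hF.rad_zero hu]
    have hxx : x * x = 1 := by
      rw [hxdef, Frame.lt, hF.rad_add hu, ← add_smul, show (1 : F) + 1 = 0 by linear_combination h2, zero_smul,
        hF.rad_zero hu]
    let xG : G := ⟨x, Subgroup.subset_closure (Or.inl rfl)⟩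
    let yG : G := ⟨y, Subgroup.subset_closure (Or.inr (Or.inl rfl))⟩
    let eG : G := ⟨yE, Subgroup.subset_closure (Or.inr (Or.inr rfl))⟩
    have hxG : xG * xG = 1 := Subtype.ext hxx
    have hxX : xG ∈ X := (hX xG).2 ⟨1, hσ1, rfl⟩
    have hxG1 : xG ≠ 1 := fun e => by
      have h1 := LinearEquiv.congr_fun (congrArg Subtype.val e) (pt f w₀)
      change x (pt f w₀) = pt f w₀ at h1
      rw [hxz, hF.ev_pt, huf, one_smul, add_eq_left] at h1
      exact hw₀ (hF.pt_injective hu0 (h1.trans (map_zero _).symm))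
    have hinO : ∀ k : G, k * k = 1 → k ∉ O → ∃ o ∈ O, k = o * xG := by
      intro k hk hkO
      obtain ⟨o, ho, b, hb, e⟩ := hO.prod k
      obtain ⟨c, hc, ec⟩ := (hX b).1 hb
      rcases hfix c (by linear_combination hc - c * h2) with rfl | rfl
      · exact absurd (by rw [e, show b = 1 from Subtype.ext (ec.trans hlt0), mul_one]; exact ho) hkO
      · exact ⟨o, ho, by rw [e, show b = xG from Subtype.ext ec]⟩
    have hnotO : ∀ k : G, k * k = 1 → k ≠ 1 → k ∉ O := fun k hk hk1 hkO =>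
      hk1 (hO.prime_to k hkO (by rw [pow_two, hk]))
    have hyy : yG * yG = 1 := Subtype.ext (by
      show y * y = 1
      rw [hydef]
      calc g * x * g⁻¹ * (g * x * g⁻¹) = g * (x * x) * g⁻¹ := by group
        _ = 1 := by rw [hxx]; group)
    have hee : eG * eG = 1 := Subtype.ext (by
      show yE * yE = 1
      rw [hyEdef]
      calc E * y * E⁻¹ * (E * y * E⁻¹) = E * (y * y) * E⁻¹ := by group
        _ = 1 := by rw [show y * y = 1 from congrArg Subtype.val hyy]; group)
    have hy1 : y ≠ 1 := fun e => by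
      have h1 : g * x * g⁻¹ = 1 := e
      rw [mul_inv_eq_one, mul_eq_left] at h1
      exact hxG1 (Subtype.ext h1)
    obtain ⟨o, ho, eo⟩ := hinO yG hyy (hnotO yG hyy fun e => hy1 (congrArg Subtype.val e))
    obtain ⟨o', ho', eo'⟩ := hinO eG hee (hnotO eG hee fun e => hy1 (by
      have h1 : E * y * E⁻¹ = 1 := congrArg Subtype.val e
      rwa [mul_inv_eq_one, mul_eq_left] at h1))
    have hcomm := comm_of_involutions hxG (fun a ha => by
      obtain ⟨k, -, hk⟩ := hO.conj a ha xG hxX hxG1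
      rw [hk]
      calc k * xG * k⁻¹ * (k * xG * k⁻¹) = k * (xG * xG) * k⁻¹ := by group
        _ = 1 := by rw [hxG]; group) ho ho'
    have hops : y * x * (yE * x) = yE * x * (y * x) := by
      have e1 : yG * xG = o := by rw [eo, mul_assoc, hxG, mul_one]
      have e2 : eG * xG = o' := by rw [eo', mul_assoc, hxG, mul_one]
      have := congrArg Subtype.val (show yG * xG * (eG * xG) = eG * xG * (yG * xG) by rw [e1, e2, hcomm])
      exact this
    -- the resulting equation
    set p := pt u w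
    have hE := LinearEquiv.congr_fun hops p
    simp only [LinearEquiv.mul_apply] at hE
    rw [hxu] at hE
    set q₁ := Q w with hq₁
    have hQp : hF.ev u (g⁻¹ p) = q₁ := rfl
    have hPq : hF.ev u (g (pt u q₁)) = P q₁ := rfl
    have e1 : yE p = p + g (pt u q₁) - pt m (P q₁) + pt u (hF.ev m (g (pt u q₁)) + κ • P q₁) := by
      rw [hyEz, hEu', hQp, hEz, hPq]; abel
    have e2 : y p = p + g (pt u q₁) := by rw [hyz, hQp]
    set s := hF.ev m (g (pt u q₁)) + κ • P q₁
    have e3 : x (yE p) = p + g (pt u q₁) - pt m (P q₁) + pt u (s + P q₁) := by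
      rw [hxz, e1]
      simp only [map_add, map_sub, hF.ev_pt, hu, hum, p, hPq, zero_smul, zero_add, sub_zero, add_zero]
      abel
    have e4 : x (y p) = p + g (pt u q₁) + pt u (P q₁) := by
      rw [hxz, e2, map_add, hPq]
      simp [p, hF.ev_pt, hu]
    rw [hyz, e3, e4, hyEz, hEz] at hE
    set t₁ := hF.ev u (g⁻¹ (p + g (pt u q₁) - pt m (P q₁) + pt u (s + P q₁))) with ht₁
    set t₂ := hF.ev u (g⁻¹ (E⁻¹ (p + g (pt u q₁) + pt u (P q₁))))
    have hPt : ∀ t, hF.ev u (g (pt u t)) = P t := fun t => rfl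
    simp only [hPt] at hE
    have h5 := congrArg (hF.ev u) hE
    simp only [map_add, map_sub, hF.ev_pt, hu, hum, p, zero_smul, zero_add, sub_zero, add_zero, hPt] at h5
    obtain ⟨c, hc⟩ := hstar (t₁ - t₂) (by rw [map_sub]; exact sub_eq_zero.2 (add_left_cancel h5))
    rw [map_sub, map_sub] at hc
    have h6 := congrArg (hF.ev m) hE
    have h7 := congrArg (hF.ev m) hc
    simp only [map_add, map_sub, hF.ev_pt, hmu, hmm, p, zero_smul, zero_add, one_smul, add_zero] at h6 h7
    have hPt₁ : P t₁ = P q₁ := by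
      linear_combination (norm := module) (add_left_cancel h5) + h6 + h7
    have hQ' : ∀ t, hF.ev u (g⁻¹ (pt u t)) = Q t := fun t => rfl
    have ht : t₁ = q₁ - hF.ev u (g⁻¹ (pt m (P q₁))) + Q (s + P q₁) := by
      simp only [ht₁, map_add, map_sub, inv_apply, hQp, hQ', hF.ev_pt, hu, zero_smul, add_zero]
    rw [ht, map_add, map_sub, map_add Q, map_add P] at hPt₁
    linear_combination (norm := module) -hPt₁
  have h1 := hkey κ₀ hκ₀
  have h2' := hkey (κ₀ + 1) (by rw [map_add, map_one]; linear_combination hκ₀ + h2)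
  refine hw ?_
  simp only [map_add, map_smul] at h1 h2'
  linear_combination (norm := module) h1 - h2'

/-- a link that is not nilpotent is invertible -/
theorem not_singular (h2 : (2 : F) = 0) (hfix : ∀ k : F, σ k = k → k = 0 ∨ k = 1) (hU : 4 ≤ finrank F U)
    {g : V ≃ₗ[F] V} (hg : g ∈ H) (hnil : ∀ n : ℕ, (comp1 hF u g * comp1 hF u g⁻¹) ^ 2 ^ n ≠ 0) :
    Function.Injective (comp1 hF u g * comp1 hF u g⁻¹ : Module.End F W) := by
  classical
  by_contra hninj
  have hσ1 : (1 : F) + σ 1 = 0 := by rw [map_one]; linear_combination h2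
  set K : Module.End F W := comp1 hF u g * comp1 hF u g⁻¹ with hK
  have hchain : ∀ n : ℕ, ∃ k ∈ H, ∃ c c' : F, c ≠ 0 ∧ c' ≠ 0 ∧
      comp1 hF u k = c • K ^ 2 ^ n ∧ comp1 hF u k⁻¹ = c' • K ^ 2 ^ n := by
    intro n
    induction n with
    | zero =>
      obtain ⟨e1, e2⟩ := comp1_conj (hF := hF) hu (g := g) (1 : F)
      exact ⟨_, mul_mem (mul_mem hg (hR.toSlot.lt_mem hu hσ1)) (inv_mem hg), 1, -1, one_ne_zero,
        neg_ne_zero.2 one_ne_zero, by rw [e1, pow_zero, pow_one], by rw [e2, pow_zero, pow_one]⟩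
    | succ n ih =>
      obtain ⟨k, hk, c, c', hc, hc', e, e'⟩ := ih
      obtain ⟨e1, e2⟩ := comp1_conj (hF := hF) hu (g := k) (1 : F)
      refine ⟨_, mul_mem (mul_mem hk (hR.toSlot.lt_mem hu hσ1)) (inv_mem hk), c * c', -(c * c'),
        mul_ne_zero hc hc', neg_ne_zero.2 (mul_ne_zero hc hc'), ?_, ?_⟩
      · rw [e1, e, e', smul_mul_smul_comm, smul_smul, one_mul, ← pow_add, ← two_mul, pow_succ']
      · rw [e2, e, e', smul_mul_smul_comm, smul_smul, neg_one_mul, ← pow_add, ← two_mul, pow_succ']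
  set N := finrank F W
  obtain ⟨k, hk, c, c', hc, hc', e, e'⟩ := hchain N
  have hN : N ≤ 2 ^ N := Nat.lt_two_pow_self.le
  have hL : 0 < 2 ^ N := Nat.two_pow_pos N
  set L := 2 ^ N
  obtain ⟨e1, e2⟩ := comp1_conj (hF := hF) hu (g := k) (1 : F)
  rw [e, e', smul_mul_smul_comm, smul_smul, ← pow_add] at e1 e2
  have hy : k * hF.lt u 1 * k⁻¹ ∈ H := mul_mem (mul_mem hk (hR.toSlot.lt_mem hu hσ1)) (inv_mem hk)
  set d := (1 : F) * (c * c')
  set d' := (-1 : F) * (c * c')
  have hd : d ≠ 0 := mul_ne_zero one_ne_zero (mul_ne_zero hc hc')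
  have hd' : d' ≠ 0 := mul_ne_zero (neg_ne_zero.2 one_ne_zero) (mul_ne_zero hc hc')
  have hker : ∀ l, N ≤ l → LinearMap.ker (K ^ l) = LinearMap.ker (K ^ N) := fun l hl =>
    Module.End.ker_pow_eq_ker_pow_finrank_of_le hl
  obtain ⟨w₀, hw₀, hw₀0⟩ : ∃ w, (K ^ L) w = 0 ∧ w ≠ 0 := by
    obtain ⟨w, hw, hw0⟩ : ∃ w, K w = 0 ∧ w ≠ 0 := by
      by_contra! hall
      exact hninj ((injective_iff_map_eq_zero _).2 hall)
    exact ⟨w, by rw [show L = L - 1 + 1 by omega, pow_succ, Module.End.mul_apply, hw, map_zero], hw0⟩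
  have hLL : ∀ t, (K ^ (L + L)) t = 0 → (K ^ L) t = 0 := fun t ht => by
    have : t ∈ LinearMap.ker (K ^ (L + L)) := ht
    rwa [hker _ (by omega), ← hker L hN, LinearMap.mem_ker] at this
  obtain ⟨w, hw⟩ : ∃ w, (K ^ (L + L + (L + L) + (L + L + (L + L)))) w ≠ 0 := by
    by_contra! hall
    refine hnil (N + 3) ?_
    rw [show 2 ^ (N + 3) = L + L + (L + L) + (L + L + (L + L)) by rw [pow_add]; omega]
    exact LinearMap.ext hall
  refine hR.not_singular_base hu0 hu h2 hfix hU hy (fun t ht => ?_) hw₀0 ?_ ?_ (fun s hs => ?_) (w := w) ?_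
  · rw [e1, LinearMap.smul_apply, smul_eq_zero] at ht
    refine ⟨t, ?_⟩
    rw [LinearEquiv.mul_apply, LinearEquiv.mul_apply, hF.lt_apply hu, ← comp1_apply (hF := hF), e',
      LinearMap.smul_apply, hLL t (ht.resolve_left hd), smul_zero, map_zero, smul_zero, add_zero, apply_inv]
  · rw [e1, LinearMap.smul_apply, pow_add, Module.End.mul_apply, hw₀, map_zero, smul_zero]
  · rw [e2, LinearMap.smul_apply, pow_add, Module.End.mul_apply, hw₀, map_zero, smul_zero]
  · rw [e1, LinearMap.smul_apply, LinearMap.smul_apply, map_smul, smul_smul, ← Module.End.mul_apply, ← pow_add,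
      smul_eq_zero] at hs
    rw [e1, LinearMap.smul_apply, pow_add, Module.End.mul_apply]
    have h1 : s ∈ LinearMap.ker (K ^ (L + L + (L + L))) := hs.resolve_left (mul_ne_zero hd hd)
    rw [hker _ (by omega), ← hker L hN, LinearMap.mem_ker] at h1
    rw [h1, map_zero, smul_zero]
  · rw [e1, e2]
    simp only [LinearMap.smul_apply, map_smul, smul_smul, ← Module.End.mul_apply, ← pow_add, ne_eq, smul_eq_zero,
      not_or]
    refine ⟨mul_ne_zero (mul_ne_zero (mul_ne_zero ?_ ?_) ?_) ?_, ?_⟩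
    all_goals first
      | exact hd
      | exact hd'
      | (convert hw using 3; ring)

end Rigid

end Cfsg.Agent.ClassicalMax.UnWreath
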